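import Mathlib
import Cfsg.Agent.Lib.Helper5.PSL2
import Cfsg.Agent.S0255

set_option autoImplicit false

/-!
Pairs of matrices in `SL₂(F)` with prescribed traces (`0`, `1` and `s` for the two matrices and
their product), giving elements `a`, `b` of `PSL₂(F)` with `a² = b³ = 1` and `(ab)ⁿ = 1` for
`n = 4` (`s² = 2`) and `n = 5` (`s² = s + 1`).
-/

namespace Cfsg.Agent.Lib.Helper5.SL2Tri

open Matrix Polynomial Cfsg.Agent.S0255

section ring

variable {R : Type*} [CommRing R]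

/-- Cayley–Hamilton for `2 × 2` matrices. -/
theorem mul_self_eq (M : Matrix (Fin 2) (Fin 2) R) :
    M * M = M.trace • M - M.det • (1 : Matrix (Fin 2) (Fin 2) R) := by
  ext i j
  fin_cases i <;> fin_cases j <;>
    simp [Matrix.mul_apply, Fin.sum_univ_two, Matrix.trace_fin_two, Matrix.det_fin_two] <;> ring

/-- The recursion for powers of a matrix of determinant one. -/
theorem pow_rec (C : Matrix (Fin 2) (Fin 2) R) (t : R) (h : C * C = t • C - 1) (n : ℕ) :
    C ^ (n + 2) = t • C ^ (n + 1) - C ^ n := by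
  rw [pow_add, pow_two, h, mul_sub, mul_one, Matrix.mul_smul, ← pow_succ]

theorem pow_two_eq (C : Matrix (Fin 2) (Fin 2) R) (t : R) (h : C * C = t • C - 1) :
    C ^ 2 = t • C - 1 := by
  rw [pow_two, h]

theorem pow_three_eq (C : Matrix (Fin 2) (Fin 2) R) (t : R) (h : C * C = t • C - 1) :
    C ^ 3 = (t ^ 2 - 1) • C - t • 1 := by
  have h3 := pow_rec C t h 1
  rw [pow_one] at h3
  have h3' : C ^ 3 = t • C ^ 2 - C := h3
  rw [h3', pow_two_eq C t h]
  module

theorem pow_four_eq (C : Matrix (Fin 2) (Fin 2) R) (t : R) (h : C * C = t • C - 1) :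
    C ^ 4 = (t ^ 3 - 2 * t) • C - (t ^ 2 - 1) • 1 := by
  have h4 : C ^ 4 = t • C ^ 3 - C ^ 2 := pow_rec C t h 2
  rw [h4, pow_three_eq C t h, pow_two_eq C t h]
  module

theorem pow_five_eq (C : Matrix (Fin 2) (Fin 2) R) (t : R) (h : C * C = t • C - 1) :
    C ^ 5 = (t ^ 4 - 3 * t ^ 2 + 1) • C - (t ^ 3 - 2 * t) • 1 := by
  have h5 : C ^ 5 = t • C ^ 4 - C ^ 3 := pow_rec C t h 3
  rw [h5, pow_four_eq C t h, pow_three_eq C t h]
  module

/-- The standard matrix of order 4. -/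
def A₀ : Matrix (Fin 2) (Fin 2) R := !![0, -1; 1, 0]

/-- A matrix of trace one with `tr (A₀ B₀) = s`. -/
def B₀ (u v s : R) : Matrix (Fin 2) (Fin 2) R := !![u, v; v - s, 1 - u]

theorem A₀_det : (A₀ : Matrix (Fin 2) (Fin 2) R).det = 1 := by
  simp [A₀, Matrix.det_fin_two]

theorem B₀_det {u v s : R} (h : u ^ 2 - u + (v ^ 2 - s * v) + 1 = 0) : (B₀ u v s).det = 1 := by
  simp only [B₀, Matrix.det_fin_two_of]
  linear_combination -h

theorem neg_one_det : (-1 : Matrix (Fin 2) (Fin 2) R).det = 1 := by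
  simp [Matrix.det_fin_two]

theorem A₀_sq : (A₀ : Matrix (Fin 2) (Fin 2) R) ^ 2 = -1 := by
  rw [pow_two]
  ext i j
  fin_cases i <;> fin_cases j <;> simp [A₀, Matrix.mul_apply, Fin.sum_univ_two]

theorem B₀_cube {u v s : R} (h : u ^ 2 - u + (v ^ 2 - s * v) + 1 = 0) : B₀ u v s ^ 3 = -1 := by
  have h1 : B₀ u v s * B₀ u v s = (1 : R) • B₀ u v s - 1 := by
    rw [mul_self_eq, B₀_det h, one_smul]
    congr 1
    simp [B₀, Matrix.trace_fin_two]
  rw [pow_three_eq _ _ h1]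
  module

theorem AB_det {u v s : R} (h : u ^ 2 - u + (v ^ 2 - s * v) + 1 = 0) :
    (A₀ * B₀ u v s).det = 1 := by
  rw [Matrix.det_mul, A₀_det, B₀_det h, one_mul]

theorem AB_sq {u v s : R} (h : u ^ 2 - u + (v ^ 2 - s * v) + 1 = 0) :
    (A₀ * B₀ u v s) * (A₀ * B₀ u v s) = s • (A₀ * B₀ u v s) - 1 := by
  rw [mul_self_eq, AB_det h, one_smul]
  congr 2
  simp [A₀, B₀, Matrix.trace_fin_two]

theorem AB_pow_four {u v s : R} (h : u ^ 2 - u + (v ^ 2 - s * v) + 1 = 0) (hs : s ^ 2 = 2) :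
    (A₀ * B₀ u v s) ^ 4 = -1 := by
  rw [pow_four_eq _ _ (AB_sq h)]
  have h1 : s ^ 3 - 2 * s = 0 := by linear_combination s * hs
  have h2 : s ^ 2 - 1 = 1 := by linear_combination hs
  rw [h1, h2]
  module

theorem AB_pow_five {u v s : R} (h : u ^ 2 - u + (v ^ 2 - s * v) + 1 = 0) (hs : s ^ 2 = s + 1) :
    (A₀ * B₀ u v s) ^ 5 = -1 := by
  rw [pow_five_eq _ _ (AB_sq h)]
  have h1 : s ^ 4 - 3 * s ^ 2 + 1 = 0 := by linear_combination (s ^ 2 + s - 1) * hs
  have h2 : s ^ 3 - 2 * s = 1 := by linear_combination (s + 1) * hs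
  rw [h1, h2]
  module

theorem AB_sq_apply_10 {u v s : R} (h : u ^ 2 - u + (v ^ 2 - s * v) + 1 = 0) :
    ((A₀ * B₀ u v s) ^ 2 : Matrix (Fin 2) (Fin 2) R) 1 0 = s * u := by
  rw [pow_two, AB_sq h]
  simp [A₀, B₀]

theorem AB_sq_apply_01 {u v s : R} (h : u ^ 2 - u + (v ^ 2 - s * v) + 1 = 0) :
    ((A₀ * B₀ u v s) ^ 2 : Matrix (Fin 2) (Fin 2) R) 0 1 = s * (u - 1) := by
  rw [pow_two, AB_sq h]
  simp [A₀, B₀]

end ring

section field

variable {F : Type*} [Field F] [Fintype F]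

/-- A point on the conic used to build the matrix `B₀` (odd characteristic). -/
theorem exists_conic (hodd : Fintype.card F % 2 = 1) (s : F) :
    ∃ u v : F, u ^ 2 - u + (v ^ 2 - s * v) + 1 = 0 := by
  classical
  have hf : (X ^ 2 - X + 1 : F[X]).degree = 2 := by compute_degree!
  have hg : (X ^ 2 - C s * X : F[X]).degree = 2 := by compute_degree!
  obtain ⟨u, v, h⟩ := FiniteField.exists_root_sum_quadratic hf hg hodd
  refine ⟨u, v, ?_⟩
  simp only [eval_add, eval_sub, eval_pow, eval_X, eval_one, eval_mul, eval_C] at h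
  linear_combination h

/-- A point on the conic for the golden ratio, in any characteristic. -/
theorem exists_conic_of_golden (s : F) (hs : s ^ 2 = s + 1) :
    ∃ u v : F, u ^ 2 - u + (v ^ 2 - s * v) + 1 = 0 := by
  rcases Nat.mod_two_eq_zero_or_one (Fintype.card F) with h | h
  · have h2 : (2 : F) = 0 := two_eq_zero_of_even_card (Nat.even_iff.2 h)
    refine ⟨s, 0, ?_⟩
    linear_combination hs + h2
  · exact exists_conic h s

/-- Elements `a`, `b` of `PSL₂(F)` with `a² = b³ = (ab)⁴ = 1` and `(ab)² ≠ 1`, when `2` is a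
square and `|F|` is odd. -/
theorem exists_pair_four (hodd : Fintype.card F % 2 = 1) (s : F) (hs : s ^ 2 = 2) :
    ∃ a b : Matrix.ProjectiveSpecialLinearGroup (Fin 2) F,
      a ^ 2 = 1 ∧ b ^ 3 = 1 ∧ (a * b) ^ 4 = 1 ∧ (a * b) ^ 2 ≠ 1 := by
  obtain ⟨u, v, h⟩ := exists_conic hodd s
  have h2 : (2 : F) ≠ 0 := two_ne_zero_of_odd_card (Nat.odd_iff.2 hodd)
  have hs0 : s ≠ 0 := by
    rintro rfl
    apply h2
    rw [← hs]
    ring
  refine ⟨pslOf (RingHom.id F) A₀ A₀_det, pslOf (RingHom.id F) (B₀ u v s) (B₀_det h), ?_, ?_, ?_, ?_⟩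
  · rw [pslOf_pow, pslOf_congr _ A₀_sq _ neg_one_det, pslOf_neg_one]
  · rw [pslOf_pow, pslOf_congr _ (B₀_cube h) _ neg_one_det, pslOf_neg_one]
  · rw [pslOf_mul, pslOf_pow, pslOf_congr _ (AB_pow_four h hs) _ neg_one_det, pslOf_neg_one]
  · rw [pslOf_mul, pslOf_pow]
    by_cases hu : u = 0
    · refine pslOf_ne_one _ _ _ 0 1 (by decide) ?_
      rw [RingHom.id_apply, AB_sq_apply_01 h, hu]
      simpa using hs0
    · refine pslOf_ne_one _ _ _ 1 0 (by decide) ?_
      rw [RingHom.id_apply, AB_sq_apply_10 h]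
      exact mul_ne_zero hs0 hu

/-- Elements `a`, `b` of `PSL₂(F)` with `a² = b³ = (ab)⁵ = 1` and `a ≠ 1`, when `F` contains the
golden ratio. -/
theorem exists_pair_five (s : F) (hs : s ^ 2 = s + 1) :
    ∃ a b : Matrix.ProjectiveSpecialLinearGroup (Fin 2) F,
      a ^ 2 = 1 ∧ b ^ 3 = 1 ∧ (a * b) ^ 5 = 1 ∧ a ≠ 1 := by
  obtain ⟨u, v, h⟩ := exists_conic_of_golden s hs
  refine ⟨pslOf (RingHom.id F) A₀ A₀_det, pslOf (RingHom.id F) (B₀ u v s) (B₀_det h), ?_, ?_, ?_, ?_⟩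
  · rw [pslOf_pow, pslOf_congr _ A₀_sq _ neg_one_det, pslOf_neg_one]
  · rw [pslOf_pow, pslOf_congr _ (B₀_cube h) _ neg_one_det, pslOf_neg_one]
  · rw [pslOf_mul, pslOf_pow, pslOf_congr _ (AB_pow_five h hs) _ neg_one_det, pslOf_neg_one]
  · refine pslOf_ne_one _ _ _ 0 1 (by decide) ?_
    rw [RingHom.id_apply]
    simp [A₀]

/-- The golden ratio lies in `F` when `5` divides `|SL₂(F)|`. -/
theorem exists_golden (h5 : 5 ∣ Fintype.card F * (Fintype.card F ^ 2 - 1)) :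
    ∃ s : F, s ^ 2 = s + 1 := by
  classical
  have : Fact (Nat.Prime 5) := ⟨by norm_num⟩
  rw [← card_SL2] at h5
  obtain ⟨g, hg⟩ := exists_prime_orderOf_dvd_card' (G := Matrix.SpecialLinearGroup (Fin 2) F) 5 h5
  set M : Matrix (Fin 2) (Fin 2) F := (g : Matrix (Fin 2) (Fin 2) F) with hM
  have hdet : M.det = 1 := g.2
  have hsq : M * M = M.trace • M - 1 := by
    rw [mul_self_eq, hdet, one_smul]
  have h5' : M ^ 5 = 1 := by
    have h1 : g ^ 5 = 1 := by rw [← hg]; exact pow_orderOf_eq_one g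
    have h2 := congrArg (fun x : Matrix.SpecialLinearGroup (Fin 2) F =>
      (x : Matrix (Fin 2) (Fin 2) F)) h1
    simpa using h2
  set t := M.trace with ht
  rw [pow_five_eq M t hsq] at h5'
  by_contra hne
  push Not at hne
  have hp : t ^ 4 - 3 * t ^ 2 + 1 ≠ 0 := by
    intro h0
    have hfac : (t ^ 2 - t - 1) * ((-t) ^ 2 - (-t) - 1) = 0 := by linear_combination h0
    rcases mul_eq_zero.1 hfac with h | h
    · exact hne t (by linear_combination h)
    · exact hne (-t) (by linear_combination h)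
  -- then `M` is scalar
  have e01 := congrFun (congrFun h5' 0) 1
  have e10 := congrFun (congrFun h5' 1) 0
  have e00 := congrFun (congrFun h5' 0) 0
  have e11 := congrFun (congrFun h5' 1) 1
  simp only [Matrix.sub_apply, Matrix.smul_apply, smul_eq_mul, Matrix.one_apply_ne' (show (1 : Fin 2) ≠ 0 by decide), Matrix.one_apply_ne (show (1 : Fin 2) ≠ 0 by decide), Matrix.one_apply_eq, mul_zero, sub_zero, mul_one] at e01 e10 e00 e11
  have m01 : M 0 1 = 0 := by
    rcases mul_eq_zero.1 e01 with h | h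
    · exact absurd h hp
    · exact h
  have m10 : M 1 0 = 0 := by
    rcases mul_eq_zero.1 e10 with h | h
    · exact absurd h hp
    · exact h
  have mdiag : M 0 0 = M 1 1 := by
    have h : (t ^ 4 - 3 * t ^ 2 + 1) * (M 0 0 - M 1 1) = 0 := by linear_combination e00 - e11
    rcases mul_eq_zero.1 h with h | h
    · exact absurd h hp
    · exact sub_eq_zero.1 h
  have hdet' : M 0 0 * M 1 1 - M 0 1 * M 1 0 = 1 := by
    rw [← Matrix.det_fin_two]; exact hdet
  rw [m01, ← mdiag] at hdet'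
  have hc2 : M 0 0 ^ 2 = 1 := by linear_combination hdet'
  have htr : t = 2 * M 0 0 := by
    rw [ht, Matrix.trace_fin_two, ← mdiag]; ring
  -- `M 0 0 = 1`
  have hc1 : M 0 0 = 1 := by
    have h := e00
    rw [htr] at h
    have hc4 : M 0 0 ^ 4 = 1 := by rw [show M 0 0 ^ 4 = (M 0 0 ^ 2) ^ 2 by ring, hc2, one_pow]
    have hc3 : M 0 0 ^ 3 = M 0 0 := by rw [show M 0 0 ^ 3 = M 0 0 ^ 2 * M 0 0 by ring, hc2, one_mul]
    have hc5 : M 0 0 ^ 5 = M 0 0 := by rw [show M 0 0 ^ 5 = M 0 0 ^ 4 * M 0 0 by ring, hc4, one_mul]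
    linear_combination h - 16 * hc5 + 20 * hc3
  have hMone : M = 1 := by
    ext i j
    fin_cases i <;> fin_cases j <;> simp [m01, m10, hc1, ← mdiag]
  have hM1 : g = 1 := Subtype.ext hMone
  rw [hM1, orderOf_one] at hg
  omega

end field

end Cfsg.Agent.Lib.Helper5.SL2Tri
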