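import Mathlib
import Cfsg.Agent.Lib.Helper56.CosetEnum
import Cfsg.Agent.Lib.Helper5.SLGen
import Cfsg.Agent.Lib.Helper5.PSL2

set_option autoImplicit false

/-!
The presentation `⟨x, y, z | x³ = y⁵ = z² = 1, z central, (xy)² = z⟩` of `SL₂(5)`: a coset
enumeration certificate bounds the order by 120, and explicit matrices give the isomorphism.
-/

namespace Cfsg.Agent.Lib.Helper5.Pres120

open Cfsg.Agent.Lib.Helper56

def tab120 : Tab where
  k := 3
  N := 120
  tab := [[1, 2, 3], [4, 5, 6], [7, 8, 9], [6, 9, 0], [0, 10, 11], [12, 13, 14], [11, 14, 1], [15, 11, 16], [17, 18, 19], [16, 19, 2], [20, 21, 22], [3, 22, 4], [23, 3, 24], [25, 26, 27], [24, 27, 5], [2, 28, 29], [29, 4, 7], [30, 29, 31], [32, 24, 33], [31, 33, 8], [34, 6, 35], [36, 37, 38], [35, 38, 10], [5, 39, 40], [40, 0, 12], [41, 40, 42], [43, 35, 44], [42, 44, 13], [37, 45, 46], [9, 46, 15], [8, 47, 48], [48, 15, 17], [39, 48, 49], [49, 12, 18], [10, 50, 51], [51, 1, 20], [52, 51, 53], [54, 16, 55], [53, 55, 21], [18, 56, 57], [14, 57, 23], [13, 58, 59], [59, 23, 25], [50, 59, 60], [60, 20,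 26], [61, 62, 63], [55, 63, 28], [62, 64, 65], [19, 65, 30], [57, 30, 32], [26, 66, 67], [22, 67, 34], [21, 68, 69], [69, 34, 36], [28, 69, 70], [70, 7, 37], [71, 72, 73], [33, 73, 39], [72, 74, 75], [27, 75, 41], [67, 41, 43], [76, 70, 77], [78, 31, 79], [77, 79, 45], [80, 71, 81], [79, 81, 47], [82, 83, 84], [44, 84, 50], [83, 85, 86], [38, 86, 52], [46, 52, 54], [87, 49, 88], [89, 42, 90], [88, 90, 56], [91, 82, 92], [90, 92, 58], [45, 93, 94], [94, 54, 61], [47, 94, 95], [95, 17, 62], [96, 95, 97], [97, 88, 64], [98, 60, 99], [100, 53, 101], [99, 101, 66], [102, 61, 103], [101, 103, 68], [56, 104, 105], [105, 32, 71], [58, 105, 106], [106, 25, 72], [107, 106, 108], [108, 99, 74], [103, 109, 110], [63, 110, 76], [65, 76, 78], [64, 111, 104], [104, 78, 80], [66, 112, 113], [113, 43, 82], [68, 113, 114], [114, 36, 83], [110, 114, 115], [115, 77, 85], [81, 116, 96], [73, 96, 87], [75, 87, 89], [74, 117, 112], [112, 89, 91], [118, 80, 119], [85, 119, 93], [119, 108, 116], [92, 118, 107], [84, 107, 98], [86, 98, 100], [93, 100, 102], [109, 91, 111], [111,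 115, 118], [116, 102, 117], [117, 97, 109]]
  tabInv := [[4, 24, 3], [0, 35, 6], [15, 0, 9], [11, 12, 0], [1, 16, 11], [23, 1, 14], [3, 20, 1], [2, 55, 16], [30, 2, 19], [29, 3, 2], [34, 4, 22], [6, 7, 4], [5, 33, 24], [41, 5, 27], [40, 6, 5], [7, 31, 29], [9, 37, 7], [8, 79, 31], [39, 8, 33], [48, 9, 8], [10, 44, 35], [52, 10, 38], [51, 11, 10], [12, 42, 40], [14, 18, 12], [13, 90, 42], [50, 13, 44], [59, 14, 13], [54, 15, 46], [16, 17, 15], [17, 49, 48], [19, 62, 17], [18, 88, 49], [57, 19, 18], [20, 53, 51], [22, 26, 20], [21, 101, 53], [28, 21, 55], [69, 22, 21], [32, 23, 57], [24, 25, 23], [25, 60, 59], [27, 72, 25], [26, 99, 60], [67, 27, 26], [76, 28, 63], [70, 29, 28], [78, 30, 65], [31, 32, 30], [33, 71, 32], [43, 34, 67], [35, 36, 34], [36, 70, 69], [38, 83, 36], [37, 77, 70], [46, 38, 37], [87, 39, 73], [49, 40, 39], [89, 41, 75], [42, 43, 41], [44, 82, 43], [45, 85, 77], [47, 45, 79], [94, 46, 45], [96, 47, 81], [95, 48, 47], [98, 50, 84], [60, 51, 50], [100, 52, 86], [53, 54, 52], [55, 61, 54], [56, 64, 88], [58, 56, 90], [105, 57, 56], [107,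 58, 92], [106, 59, 58], [61, 95, 94], [63, 103, 61], [62, 97, 95], [65, 63, 62], [64, 109, 97], [104, 65, 64], [66, 74, 99], [68, 66, 101], [113, 67, 66], [110, 68, 103], [114, 69, 68], [71, 106, 105], [73, 81, 71], [72, 108, 106], [75, 73, 72], [74, 116, 108], [112, 75, 74], [115, 76, 110], [77, 78, 76], [79, 80, 78], [80, 105, 104], [81, 119, 80], [82, 114, 113], [84, 92, 82], [83, 115, 114], [86, 84, 83], [85, 118, 115], [93, 86, 85], [97, 87, 96], [88, 89, 87], [90, 91, 89], [91, 113, 112], [92, 111, 91], [116, 93, 119], [102, 94, 93], [117, 96, 116], [108, 98, 107], [99, 100, 98], [101, 102, 100], [103, 117, 102], [118, 104, 111], [119, 107, 118], [109, 112, 117], [111, 110, 109]]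
  words := [[], [(0, false)], [(1, false)], [(2, false)], [(0, false), (0, false)], [(0, false), (1, false)], [(0, false), (2, false)], [(1, false), (0, false)], [(1, false), (1, false)], [(1, false), (2, false)], [(0, false), (0, false), (1, false)], [(0, false), (0, false), (2, false)], [(0, false), (1, false), (0, false)], [(0, false), (1, false), (1, false)], [(0, false), (1, false), (2, false)], [(1, false), (0, false), (0, false)], [(1, false), (0, false), (2, false)], [(1, false), (1, false), (0, false)], [(1, false), (1, false), (1, false)], [(1, false), (1, false), (2, false)], [(0, false), (0, false), (1, false), (0, false)], [(0, false), (0, false), (1, false), (1, false)], [(0, false), (0, false), (1, false), (2, false)], [(0, false), (1, false), (0, false), (0, false)], [(0, false), (1, false), (0, false), (2, false)], [(0, false), (1, false), (1, false), (0, false)], [(0, false), (1, false), (1, false), (1, false)], [(0, false), (1, false), (1, false), (2, false)], [(1, false), (0, false), (0, false), (1, false)], [(1, false), (0, false), (0,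 false), (2, false)], [(1, false), (1, false), (0, false), (0, false)], [(1, false), (1, false), (0, false), (2, false)], [(1, false), (1, false), (1, false), (0, false)], [(1, false), (1, false), (1, false), (2, false)], [(0, false), (0, false), (1, false), (0, false), (0, false)], [(0, false), (0, false), (1, false), (0, false), (2, false)], [(0, false), (0, false), (1, false), (1, false), (0, false)], [(0, false), (0, false), (1, false), (1, false), (1, false)], [(0, false), (0, false), (1, false), (1, false), (2, false)], [(0, false), (1, false), (0, false), (0, false), (1, false)], [(0, false), (1, false), (0, false), (0, false), (2, false)], [(0, false), (1, false), (1, false), (0, false), (0, false)], [(0, false), (1, false), (1, false), (0, false), (2, false)], [(0, false), (1, false), (1, false), (1, false), (0, false)], [(0, false), (1, false), (1, false), (1, false), (2, false)], [(1, false), (0, false), (0, false), (1, false), (1, false)], [(1, false), (0, false), (0, false), (1, false), (2, false)], [(1, false), (1, false), (0, false), (0, false),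 (1, false)], [(1, false), (1, false), (0, false), (0, false), (2, false)], [(1, false), (1, false), (1, false), (0, false), (2, false)], [(0, false), (0, false), (1, false), (0, false), (0, false), (1, false)], [(0, false), (0, false), (1, false), (0, false), (0, false), (2, false)], [(0, false), (0, false), (1, false), (1, false), (0, false), (0, false)], [(0, false), (0, false), (1, false), (1, false), (0, false), (2, false)], [(0, false), (0, false), (1, false), (1, false), (1, false), (0, false)], [(0, false), (0, false), (1, false), (1, false), (1, false), (2, false)], [(0, false), (1, false), (0, false), (0, false), (1, false), (1, false)], [(0, false), (1, false), (0, false), (0, false), (1, false), (2, false)], [(0, false), (1, false), (1, false), (0, false), (0, false), (1, false)], [(0, false), (1, false), (1, false), (0, false), (0, false), (2, false)], [(0, false), (1, false), (1, false), (1, false), (0, false), (2, false)], [(1, false), (0, false), (0, false), (1, false), (1, false), (0, false)], [(1, false), (0, false), (0, false), (1, false),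 (1, false), (1, false)], [(1, false), (0, false), (0, false), (1, false), (1, false), (2, false)], [(1, false), (1, false), (0, false), (0, false), (1, false), (1, false)], [(1, false), (1, false), (0, false), (0, false), (1, false), (2, false)], [(0, false), (0, false), (1, false), (0, false), (0, false), (1, false), (1, false)], [(0, false), (0, false), (1, false), (0, false), (0, false), (1, false), (2, false)], [(0, false), (0, false), (1, false), (1, false), (0, false), (0, false), (1, false)], [(0, false), (0, false), (1, false), (1, false), (0, false), (0, false), (2, false)], [(0, false), (0, false), (1, false), (1, false), (1, false), (0, false), (2, false)], [(0, false), (1, false), (0, false), (0, false), (1, false), (1, false), (0, false)], [(0, false), (1, false), (0, false), (0, false), (1, false), (1, false), (1, false)], [(0, false), (1, false), (0, false), (0, false), (1, false), (1, false), (2, false)], [(0, false), (1, false), (1, false), (0, false), (0, false), (1, false), (1, false)], [(0, false), (1, false), (1, false), (0, false),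 (0, false), (1, false), (2, false)], [(1, false), (0, false), (0, false), (1, false), (1, false), (0, false), (0, false)], [(1, false), (0, false), (0, false), (1, false), (1, false), (0, false), (2, false)], [(1, false), (0, false), (0, false), (1, false), (1, false), (1, false), (0, false)], [(1, false), (0, false), (0, false), (1, false), (1, false), (1, false), (2, false)], [(1, false), (1, false), (0, false), (0, false), (1, false), (1, false), (0, false)], [(1, false), (1, false), (0, false), (0, false), (1, false), (1, false), (2, false)], [(0, false), (0, false), (1, false), (0, false), (0, false), (1, false), (1, false), (0, false)], [(0, false), (0, false), (1, false), (0, false), (0, false), (1, false), (1, false), (1, false)], [(0, false), (0, false), (1, false), (0, false), (0, false), (1, false), (1, false), (2, false)], [(0, false), (0, false), (1, false), (1, false), (0, false), (0, false), (1, false), (1, false)], [(0, false), (0, false), (1, false), (1, false), (0, false), (0, false), (1, false), (2, false)], [(0, false), (1, false), (0,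 false), (0, false), (1, false), (1, false), (0, false), (0, false)], [(0, false), (1, false), (0, false), (0, false), (1, false), (1, false), (0, false), (2, false)], [(0, false), (1, false), (0, false), (0, false), (1, false), (1, false), (1, false), (0, false)], [(0, false), (1, false), (0, false), (0, false), (1, false), (1, false), (1, false), (2, false)], [(0, false), (1, false), (1, false), (0, false), (0, false), (1, false), (1, false), (0, false)], [(0, false), (1, false), (1, false), (0, false), (0, false), (1, false), (1, false), (2, false)], [(1, false), (0, false), (0, false), (1, false), (1, false), (0, false), (0, false), (1, false)], [(1, false), (0, false), (0, false), (1, false), (1, false), (0, false), (0, false), (2, false)], [(1, false), (0, false), (0, false), (1, false), (1, false), (1, false), (0, false), (2, false)], [(1, false), (1, false), (0, false), (0, false), (1, false), (1, false), (0, false), (0, false)], [(1, false), (1, false), (0, false), (0, false), (1, false), (1, false), (0, false), (2, false)], [(0, false), (0, false),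 (1, false), (0, false), (0, false), (1, false), (1, false), (0, false), (0, false)], [(0, false), (0, false), (1, false), (0, false), (0, false), (1, false), (1, false), (0, false), (2, false)], [(0, false), (0, false), (1, false), (0, false), (0, false), (1, false), (1, false), (1, false), (0, false)], [(0, false), (0, false), (1, false), (0, false), (0, false), (1, false), (1, false), (1, false), (2, false)], [(0, false), (0, false), (1, false), (1, false), (0, false), (0, false), (1, false), (1, false), (0, false)], [(0, false), (0, false), (1, false), (1, false), (0, false), (0, false), (1, false), (1, false), (2, false)], [(0, false), (1, false), (0, false), (0, false), (1, false), (1, false), (0, false), (0, false), (1, false)], [(0, false), (1, false), (0, false), (0, false), (1, false), (1, false), (0, false), (0, false), (2, false)], [(0, false), (1, false), (0, false), (0, false), (1, false), (1, false), (1, false), (0, false), (2, false)], [(0, false), (1, false), (1, false), (0, false), (0, false), (1, false), (1, false), (0, false), (0, false)],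 [(0, false), (1, false), (1, false), (0, false), (0, false), (1, false), (1, false), (0, false), (2, false)], [(1, false), (0, false), (0, false), (1, false), (1, false), (0, false), (0, false), (1, false), (1, false)], [(1, false), (0, false), (0, false), (1, false), (1, false), (0, false), (0, false), (1, false), (2, false)], [(1, false), (1, false), (0, false), (0, false), (1, false), (1, false), (0, false), (0, false), (1, false)], [(0, false), (0, false), (1, false), (0, false), (0, false), (1, false), (1, false), (0, false), (0, false), (1, false)], [(0, false), (0, false), (1, false), (0, false), (0, false), (1, false), (1, false), (0, false), (0, false), (2, false)], [(0, false), (0, false), (1, false), (0, false), (0, false), (1, false), (1, false), (1, false), (0, false), (2, false)], [(0, false), (0, false), (1, false), (1, false), (0, false), (0, false), (1, false), (1, false), (0, false), (2, false)], [(0, false), (1, false), (0, false), (0, false), (1, false), (1, false), (0, false), (0, false), (1, false), (1, false)], [(0, false), (1, false),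 (1, false), (0, false), (0, false), (1, false), (1, false), (0, false), (0, false), (1, false)], [(1, false), (0, false), (0, false), (1, false), (1, false), (0, false), (0, false), (1, false), (1, false), (0, false)], [(1, false), (0, false), (0, false), (1, false), (1, false), (0, false), (0, false), (1, false), (1, false), (2, false)]]

def rels120 : List Word := [[(0, false), (0, false), (0, false)], [(1, false), (1, false), (1, false), (1, false), (1, false)], [(2, false), (2, false)], [(2, false), (0, false), (2, false), (0, false), (0, false)], [(2, false), (1, false), (2, false), (1, false), (1, false), (1, false), (1, false)], [(0, false), (1, false), (0, false), (1, false), (2, false)]]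

def tree120 : List (ℕ × ℕ × Letter) := [(1, 0, (0, false)), (2, 0, (1, false)), (3, 0, (2, false)), (4, 1, (0, false)), (5, 1, (1, false)), (6, 1, (2, false)), (7, 2, (0, false)), (8, 2, (1, false)), (9, 2, (2, false)), (10, 4, (1, false)), (11, 4, (2, false)), (12, 5, (0, false)), (13, 5, (1, false)), (14, 5, (2, false)), (15, 7, (0, false)), (16, 7, (2, false)), (17, 8, (0, false)), (18, 8, (1, false)), (19, 8, (2, false)), (20, 10, (0, false)), (21, 10, (1, false)), (22, 10, (2, false)), (23, 12, (0, false)), (24, 12, (2, false)), (25, 13, (0, false)), (26, 13, (1, false)), (27, 13, (2, false)), (28, 15, (1, false)), (29, 15, (2, false)), (30, 17, (0, false)), (31, 17, (2, false)), (32, 18, (0, false)), (33, 18, (2, false)), (34, 20, (0, false)), (35, 20, (2, false)), (36, 21, (0, false)), (37, 21, (1, false)), (38, 21, (2, false)), (39, 23, (1, false)), (40, 23, (2, false)), (41, 25, (0, false)), (42, 25, (2, false)), (43, 26, (0, false)), (44, 26, (2, false)), (45, 28, (1, false)), (46, 28, (2, false)), (47, 30, (1, false)), (48, 30, (2, false)), (49,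 32, (2, false)), (50, 34, (1, false)), (51, 34, (2, false)), (52, 36, (0, false)), (53, 36, (2, false)), (54, 37, (0, false)), (55, 37, (2, false)), (56, 39, (1, false)), (57, 39, (2, false)), (58, 41, (1, false)), (59, 41, (2, false)), (60, 43, (2, false)), (61, 45, (0, false)), (62, 45, (1, false)), (63, 45, (2, false)), (64, 47, (1, false)), (65, 47, (2, false)), (66, 50, (1, false)), (67, 50, (2, false)), (68, 52, (1, false)), (69, 52, (2, false)), (70, 54, (2, false)), (71, 56, (0, false)), (72, 56, (1, false)), (73, 56, (2, false)), (74, 58, (1, false)), (75, 58, (2, false)), (76, 61, (0, false)), (77, 61, (2, false)), (78, 62, (0, false)), (79, 62, (2, false)), (80, 64, (0, false)), (81, 64, (2, false)), (82, 66, (0, false)), (83, 66, (1, false)), (84, 66, (2, false)), (85, 68, (1, false)), (86, 68, (2, false)), (87, 71, (0, false)), (88, 71, (2, false)), (89, 72, (0, false)), (90, 72, (2, false)), (91, 74, (0, false)), (92, 74, (2, false)), (93, 76, (1, false)), (94, 76, (2, false)), (95, 78, (2, false)), (96, 80, (0, false)), (97, 80, (2, false)),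 (98, 82, (0, false)), (99, 82, (2, false)), (100, 83, (0, false)), (101, 83, (2, false)), (102, 85, (0, false)), (103, 85, (2, false)), (104, 87, (1, false)), (105, 87, (2, false)), (106, 89, (2, false)), (107, 91, (0, false)), (108, 91, (2, false)), (109, 93, (1, false)), (110, 93, (2, false)), (111, 96, (1, false)), (112, 98, (1, false)), (113, 98, (2, false)), (114, 100, (2, false)), (115, 102, (2, false)), (116, 104, (1, false)), (117, 107, (1, false)), (118, 109, (0, false)), (119, 109, (2, false))]

def steps120 : List (ℕ × ℕ × ℕ) := [(0, 0, 0), (2, 0, 0), (5, 0, 0), (8, 0, 0), (10, 0, 0), (13, 0, 0), (21, 0, 0), (45, 0, 0), (56, 0, 0), (64, 0, 0), (66, 0, 0), (74, 0, 0), (0, 2, 0), (1, 2, 0), (2, 2, 0), (4, 2, 0), (5, 2, 0), (7, 2, 0), (8, 2, 0), (10, 2, 0), (12, 2, 0), (13, 2, 0), (15, 2, 0), (17, 2, 0), (18, 2, 0), (20, 2, 0), (21, 2, 0), (23, 2, 0), (25, 2, 0), (26, 2, 0), (28, 2, 0), (30, 2, 0), (32, 2, 0), (34, 2, 0), (36, 2, 0), (37, 2, 0), (39, 2, 0), (41, 2, 0), (43, 2, 0), (45, 2, 0), (47, 2, 0), (50, 2, 0), (52, 2, 0), (54, 2, 0), (56, 2,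 0), (58, 2, 0), (61, 2, 0), (62, 2, 0), (64, 2, 0), (66, 2, 0), (68, 2, 0), (71, 2, 0), (72, 2, 0), (74, 2, 0), (76, 2, 0), (78, 2, 0), (80, 2, 0), (82, 2, 0), (83, 2, 0), (85, 2, 0), (87, 2, 0), (89, 2, 0), (91, 2, 0), (93, 2, 0), (98, 2, 0), (100, 2, 0), (102, 2, 0), (109, 2, 0), (3, 3, 2), (6, 3, 2), (9, 3, 2), (11, 3, 2), (14, 3, 2), (16, 3, 2), (19, 3, 2), (22, 3, 2), (24, 3, 2), (27, 3, 2), (29, 3, 2), (31, 3, 2), (35, 3, 2), (38, 3, 2), (40, 3, 2), (42, 3, 2), (48, 3, 2), (51, 3, 2), (53, 3, 2), (59, 3, 2), (63, 3, 2), (69, 3, 2), (73, 3, 2), (77, 3, 2), (84, 3, 2), (88, 3, 2), (94, 3, 2), (97, 3, 2), (99, 3, 2), (105, 3, 2), (108, 3, 2), (113, 3, 2), (0, 5, 2), (1, 5, 2), (4, 5, 2), (9, 5, 2), (11, 5, 2), (14, 5, 2), (15, 5, 2), (19, 5, 2), (22, 5, 2), (23, 5, 2), (27, 5, 2), (29, 5, 2), (34, 5, 2), (38, 5, 2), (40, 5, 2), (51, 5, 2), (3, 5, 4), (6, 5, 4), (48, 5, 4), (59, 5, 4), (69, 5, 4), (94, 5, 4), (105, 5, 4), (113, 5, 4), (16, 1, 0), (24, 1, 0), (31, 1, 0), (35, 1, 0), (42, 1, 0), (53, 1, 0), (33, 4, 0), (44, 4, 0), (55, 4, 0), (7, 4, 2),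 (12, 4, 2), (17, 4, 2), (20, 4, 2), (25, 4, 2), (36, 4, 2), (46, 4, 2), (57, 4, 2), (63, 4, 2), (67, 4, 2), (73, 4, 2), (79, 4, 2), (84, 4, 2), (90, 4, 2), (101, 4, 2), (18, 5, 1), (26, 5, 1), (33, 5, 1), (37, 5, 1), (44, 5, 1), (55, 5, 1), (79, 5, 1), (90, 5, 1), (101, 5, 1), (65, 5, 2), (75, 5, 2), (86, 5, 2), (62, 5, 3), (72, 5, 3), (83, 5, 3), (28, 0, 0), (39, 0, 0), (47, 0, 0), (50, 0, 0), (58, 0, 0), (68, 0, 0), (49, 3, 0), (57, 3, 0), (60, 3, 0), (67, 3, 0), (70, 3, 0), (95, 3, 0), (106, 3, 0), (114, 3, 0), (46, 3, 2), (65, 3, 2), (75, 3, 2), (86, 3, 2), (30, 5, 2), (32, 5, 2), (41, 5, 2), (43, 5, 2), (49, 5, 2), (52, 5, 2), (54, 5, 2), (60, 5, 2), (70, 5, 2), (76, 5, 2), (78, 5, 2), (81, 5, 2), (87, 5, 2), (89, 5, 2), (92, 5, 2), (95, 5, 2), (98, 5, 2), (106, 5, 2), (114, 5, 4), (61, 1, 0), (71, 1, 0), (80, 1, 0), (82, 1, 0), (88, 1, 0), (91, 1, 0), (99, 1, 0), (103, 4, 0), (77, 4, 2), (97, 4, 2), (110, 4, 2), (119, 4, 2), (96, 5, 0), (107, 5, 0), (85, 5, 1), (103, 5, 1), (96, 5, 2), (107, 5, 2), (81, 5, 3), (92, 5, 3), (119, 5, 3), (104, 0, 0),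 (110, 0, 0), (112, 0, 0), (108, 1, 0), (104, 2, 0), (112, 2, 0), (115, 3, 0), (93, 3, 2), (115, 4, 0), (111, 4, 1), (116, 4, 1), (100, 4, 6), (109, 5, 1), (117, 5, 1), (102, 5, 2), (111, 5, 3), (116, 0, 0), (118, 1, 0), (117, 3, 1), (118, 3, 1)]


theorem check120 : fullCheck tab120 rels120 tree120 steps120 = true := by decide +kernel

/-- The relators. -/
abbrev rels : Set (FreeGroup (Fin 3)) :=
  {FreeGroup.of (0 : Fin 3) ^ 3, FreeGroup.of (1 : Fin 3) ^ 5, FreeGroup.of (2 : Fin 3) ^ 2,
    (FreeGroup.of (2 : Fin 3))⁻¹ * FreeGroup.of 0 * FreeGroup.of 2 * (FreeGroup.of (0 : Fin 3))⁻¹,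
    (FreeGroup.of (2 : Fin 3))⁻¹ * FreeGroup.of 1 * FreeGroup.of 2 * (FreeGroup.of (1 : Fin 3))⁻¹,
    (FreeGroup.of (0 : Fin 3) * FreeGroup.of 1) ^ 2 * (FreeGroup.of (2 : Fin 3))⁻¹}

/-- The generators of the presented group, indexed by naturals. -/
def gens : ℕ → PresentedGroup rels :=
  fun g => if g = 0 then PresentedGroup.of 0 else if g = 1 then PresentedGroup.of 1
    else PresentedGroup.of 2

theorem hgen : Subgroup.closure (gens '' {g | g < tab120.k}) = ⊤ := by
  rw [eq_top_iff, ← PresentedGroup.closure_range_of]
  apply Subgroup.closure_mono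
  rintro _ ⟨i, rfl⟩
  fin_cases i
  · exact ⟨0, by decide, rfl⟩
  · exact ⟨1, by decide, rfl⟩
  · exact ⟨2, by decide, rfl⟩

section relations

/-- The generator `x`. -/
abbrev X : PresentedGroup rels := PresentedGroup.of 0

/-- The generator `y`. -/
abbrev Y : PresentedGroup rels := PresentedGroup.of 1

/-- The generator `z`. -/
abbrev Z : PresentedGroup rels := PresentedGroup.of 2

theorem r1 : X ^ 3 = 1 := by
  have : PresentedGroup.mk rels (FreeGroup.of (0 : Fin 3) ^ 3) = 1 :=
    PresentedGroup.one_of_mem (by simp [rels])
  simpa [PresentedGroup.of] using this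

theorem r2 : Y ^ 5 = 1 := by
  have : PresentedGroup.mk rels (FreeGroup.of (1 : Fin 3) ^ 5) = 1 :=
    PresentedGroup.one_of_mem (by simp [rels])
  simpa [PresentedGroup.of] using this

theorem r3 : Z ^ 2 = 1 := by
  have : PresentedGroup.mk rels (FreeGroup.of (2 : Fin 3) ^ 2) = 1 :=
    PresentedGroup.one_of_mem (by simp [rels])
  simpa [PresentedGroup.of] using this

theorem r4 : Z⁻¹ * X * Z * X⁻¹ = 1 := by
  have : PresentedGroup.mk rels ((FreeGroup.of (2 : Fin 3))⁻¹ * FreeGroup.of 0 * FreeGroup.of 2
      * (FreeGroup.of (0 : Fin 3))⁻¹) = 1 :=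
    PresentedGroup.one_of_mem (by simp [rels])
  simpa [PresentedGroup.of] using this

theorem r5 : Z⁻¹ * Y * Z * Y⁻¹ = 1 := by
  have : PresentedGroup.mk rels ((FreeGroup.of (2 : Fin 3))⁻¹ * FreeGroup.of 1 * FreeGroup.of 2
      * (FreeGroup.of (1 : Fin 3))⁻¹) = 1 :=
    PresentedGroup.one_of_mem (by simp [rels])
  simpa [PresentedGroup.of] using this

theorem r6 : (X * Y) ^ 2 * Z⁻¹ = 1 := by
  have : PresentedGroup.mk rels ((FreeGroup.of (0 : Fin 3) * FreeGroup.of 1) ^ 2
      * (FreeGroup.of (2 : Fin 3))⁻¹) = 1 :=
    PresentedGroup.one_of_mem (by simp [rels])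
  simpa [PresentedGroup.of] using this

theorem hZZ (w : PresentedGroup rels) : Z * (Z * w) = w := by
  rw [← mul_assoc, ← pow_two, r3, one_mul]

theorem hZX (w : PresentedGroup rels) : Z * (X * w) = X * (Z * w) := by
  have h : Z * X = X * Z := by
    calc Z * X = Z * (Z⁻¹ * X * Z * X⁻¹) * X := by rw [r4, mul_one]
      _ = X * Z := by group
  rw [← mul_assoc, h, mul_assoc]

theorem hZY (w : PresentedGroup rels) : Z * (Y * w) = Y * (Z * w) := by
  have h : Z * Y = Y * Z := by
    calc Z * Y = Z * (Z⁻¹ * Y * Z * Y⁻¹) * Y := by rw [r5, mul_one]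
      _ = Y * Z := by group
  rw [← mul_assoc, h, mul_assoc]

theorem hX3 : X * (X * X) = 1 := by
  rw [← r1]
  simp only [pow_succ, pow_zero, one_mul, mul_assoc]

theorem hY5 : Y * (Y * (Y * (Y * Y))) = 1 := by
  rw [← r2]
  simp only [pow_succ, pow_zero, one_mul, mul_assoc]

theorem hXY (w : PresentedGroup rels) : X * (Y * (X * (Y * w))) = Z * w := by
  have h : (X * Y) ^ 2 = Z := mul_inv_eq_one.1 r6
  rw [← h, pow_two]
  simp only [mul_assoc]

end relations

theorem hrels : ∀ w ∈ rels120, evalWord gens w = 1 := by
  intro w hw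
  simp only [rels120, List.mem_cons, List.not_mem_nil, or_false] at hw
  rcases hw with rfl | rfl | rfl | rfl | rfl | rfl
  · simp only [evalWord, ev, gens, List.map_cons, List.map_nil, List.prod_cons, List.prod_nil]
    simp only [if_true, Bool.false_eq_true, if_false, mul_one]
    exact hX3
  · simp only [evalWord, ev, gens, List.map_cons, List.map_nil, List.prod_cons, List.prod_nil]
    simp only [one_ne_zero, if_true, if_false, Bool.false_eq_true, mul_one]
    exact hY5
  · simp only [evalWord, ev, gens, List.map_cons, List.map_nil, List.prod_cons, List.prod_nil]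
    simp only [OfNat.ofNat_ne_zero, OfNat.ofNat_ne_one, if_false, Bool.false_eq_true]
    exact hZZ 1
  · simp only [evalWord, ev, gens, List.map_cons, List.map_nil, List.prod_cons, List.prod_nil]
    simp only [OfNat.ofNat_ne_zero, OfNat.ofNat_ne_one, if_true, if_false, Bool.false_eq_true,
      mul_one]
    rw [hZX, hZZ]
    exact hX3
  · simp only [evalWord, ev, gens, List.map_cons, List.map_nil, List.prod_cons, List.prod_nil]
    simp only [OfNat.ofNat_ne_zero, OfNat.ofNat_ne_one, one_ne_zero, if_true, if_false,
      Bool.false_eq_true, mul_one]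
    rw [hZY, hZZ]
    exact hY5
  · simp only [evalWord, ev, gens, List.map_cons, List.map_nil, List.prod_cons, List.prod_nil]
    simp only [OfNat.ofNat_ne_zero, OfNat.ofNat_ne_one, one_ne_zero, if_true, if_false,
      Bool.false_eq_true]
    rw [hXY]
    exact hZZ 1

theorem finite_and_card_le : Finite (PresentedGroup rels) ∧ Nat.card (PresentedGroup rels) ≤ 120 :=
  finite_and_card_le_of_check gens tab120 rels120 tree120 steps120 hgen hrels check120

section lift

variable {G : Type*} [Group G]

/-- The homomorphism from the presented group determined by a triple satisfying the relations. -/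
noncomputable def lift (x y z : G) (h1 : x ^ 3 = 1) (h2 : y ^ 5 = 1) (h3 : z ^ 2 = 1)
    (h4 : z⁻¹ * x * z * x⁻¹ = 1) (h5 : z⁻¹ * y * z * y⁻¹ = 1) (h6 : (x * y) ^ 2 * z⁻¹ = 1) :
    PresentedGroup rels →* G :=
  PresentedGroup.toGroup (f := ![x, y, z]) (by
    intro r hr
    rcases hr with rfl | rfl | rfl | rfl | rfl | rfl
    · simpa using h1
    · simpa using h2
    · simpa using h3
    · simpa using h4
    · simpa using h5
    · simpa using h6)

variable (x y z : G) (h1 : x ^ 3 = 1) (h2 : y ^ 5 = 1) (h3 : z ^ 2 = 1)
    (h4 : z⁻¹ * x * z * x⁻¹ = 1) (h5 : z⁻¹ * y * z * y⁻¹ = 1) (h6 : (x * y) ^ 2 * z⁻¹ = 1)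

theorem lift_x : lift x y z h1 h2 h3 h4 h5 h6 (PresentedGroup.of 0) = x := by
  unfold lift
  rw [PresentedGroup.toGroup.of]
  rfl

theorem lift_y : lift x y z h1 h2 h3 h4 h5 h6 (PresentedGroup.of 1) = y := by
  unfold lift
  rw [PresentedGroup.toGroup.of]
  rfl

theorem lift_z : lift x y z h1 h2 h3 h4 h5 h6 (PresentedGroup.of 2) = z := by
  unfold lift
  rw [PresentedGroup.toGroup.of]
  rfl

end lift

/-! ### The matrices -/

/-- An element of order 3. -/
def X₅ : Matrix.SpecialLinearGroup (Fin 2) (ZMod 5) := ⟨!![0, -1; 1, -1], by decide⟩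

/-- An element of order 5. -/
def Y₅ : Matrix.SpecialLinearGroup (Fin 2) (ZMod 5) := ⟨!![1, 1; 0, 1], by decide⟩

/-- The central involution. -/
def Z₅ : Matrix.SpecialLinearGroup (Fin 2) (ZMod 5) := ⟨!![-1, 0; 0, -1], by decide⟩

theorem m1 : X₅ ^ 3 = 1 := by decide +kernel
theorem m2 : Y₅ ^ 5 = 1 := by decide +kernel
theorem m3 : Z₅ ^ 2 = 1 := by decide +kernel
theorem m4 : Z₅⁻¹ * X₅ * Z₅ * X₅⁻¹ = 1 := by decide +kernel
theorem m5 : Z₅⁻¹ * Y₅ * Z₅ * Y₅⁻¹ = 1 := by decide +kernel
theorem m6 : (X₅ * Y₅) ^ 2 * Z₅⁻¹ = 1 := by decide +kernel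

theorem trans01 : ∀ c : ZMod 5,
    Matrix.SpecialLinearGroup.transvection (show (0 : Fin 2) ≠ 1 by decide) c = Y₅ ^ c.val := by
  decide +kernel

theorem trans10 : ∀ c : ZMod 5,
    Matrix.SpecialLinearGroup.transvection (show (1 : Fin 2) ≠ 0 by decide) c
      = (X₅ * Y₅) * Y₅ ^ (-c).val * (X₅ * Y₅) ^ 3 := by
  decide +kernel

/-- The homomorphism onto `SL₂(5)`. -/
noncomputable def toSL : PresentedGroup rels →* Matrix.SpecialLinearGroup (Fin 2) (ZMod 5) :=
  lift X₅ Y₅ Z₅ m1 m2 m3 m4 m5 m6

theorem toSL_surjective : Function.Surjective toSL := by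
  have : Fact (Nat.Prime 5) := ⟨by norm_num⟩
  rw [← MonoidHom.range_eq_top]
  have hx : X₅ ∈ toSL.range := ⟨PresentedGroup.of 0, lift_x X₅ Y₅ Z₅ m1 m2 m3 m4 m5 m6⟩
  have hy : Y₅ ∈ toSL.range := ⟨PresentedGroup.of 1, lift_y X₅ Y₅ Z₅ m1 m2 m3 m4 m5 m6⟩
  apply eq_top_of_transvection_mem
  intro i j hij c
  fin_cases i <;> fin_cases j
  · exact absurd rfl hij
  · have h := trans01 c
    have h' : Matrix.SpecialLinearGroup.transvection hij c = Y₅ ^ c.val := h
    rw [h']
    exact pow_mem hy _
  · have h := trans10 c
    have h' : Matrix.SpecialLinearGroup.transvection hij c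
        = (X₅ * Y₅) * Y₅ ^ (-c).val * (X₅ * Y₅) ^ 3 := h
    rw [h']
    exact mul_mem (mul_mem (mul_mem hx hy) (pow_mem hy _)) (pow_mem (mul_mem hx hy) _)
  · exact absurd rfl hij

theorem card_SL2_five : Nat.card (Matrix.SpecialLinearGroup (Fin 2) (ZMod 5)) = 120 := by
  have : Fact (Nat.Prime 5) := ⟨by norm_num⟩
  rw [card_SL2, ZMod.card]
  norm_num

/-- The presented group is `SL₂(5)`. -/
noncomputable def equivSL : PresentedGroup rels ≃* Matrix.SpecialLinearGroup (Fin 2) (ZMod 5) :=
  haveI := finite_and_card_le.1
  MulEquiv.ofBijective toSL (toSL_surjective.bijective_of_nat_card_le (by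
    rw [card_SL2_five]
    exact finite_and_card_le.2))

end Cfsg.Agent.Lib.Helper5.Pres120
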