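import Mathlib

/-!
# Permutation groups of degree `p + 1` of order `p (p² - 1) / 2`

Subgroups `H` of `Perm (Option (ZMod p))` containing the translation `x ↦ x + 1`, in which the
stabiliser of `∞ = none` normalises the translations, and of order `p (p² - 1) / 2`, are
determined (for the primes `p` passing the finite check `Check`): they are equal to the group `L`
generated by the translation, the maps `x ↦ k x` with `k ^ ((p - 1) / 2) = 1` and `x ↦ -1 / x`.
-/

set_option autoImplicit false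

namespace Cfsg.Agent.Lib.Helper5.Zass

open Equiv

/-- candidate function on nonzero elements: peel off factors of `g₁` (multiplying by
`gi = g₁⁻¹`) until reaching `1` or `r`. -/
def candF (p : ℕ) (gi r c c' a₁ : ZMod p) : ℕ → ZMod p → ZMod p
  | 0, _ => 0
  | n+1, x => if x = 1 then c else if x = r then c' else a₁ * candF p gi r c c' a₁ n (x * gi)

/-- candidate for the permutation swapping `∞` and `0`. -/
def candS (p : ℕ) (gi r c c' a₁ : ZMod p) (m : ℕ) : Option (ZMod p) → Option (ZMod p)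
  | none => some 0
  | some x => if x = 0 then none else some (candF p gi r c c' a₁ m x)

/-- The finite check: the only candidate satisfying the structure equation is `x ↦ c / x` with
`-c` a square. -/
def Check (p m : ℕ) (gi r : ZMod p) : Prop :=
  ∀ c c' a₁ : ZMod p, (c = 1 ∨ c = r) → c' ≠ 0 → a₁ ^ m = 1 →
    (∃ b, candS p gi r c c' a₁ m (some b) = some (-c) ∧ ∃ a, a ^ m = 1 ∧ ∀ z : Option (ZMod p),
        candS p gi r c c' a₁ m (Option.map (· + 1) (candS p gi r c c' a₁ m z))
          = Option.map (· + c) (candS p gi r c c' a₁ m (Option.map (fun x => a * x + b) z))) →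
    (∀ x, x ≠ 0 → candF p gi r c c' a₁ m x * x = c) ∧ (-c) ^ m = 1

instance (p m : ℕ) [NeZero p] (gi r : ZMod p) : Decidable (Check p m gi r) := by
  unfold Check; infer_instance

section perms

variable {p : ℕ}

/-- translation by `u`. -/
def Tr (u : ZMod p) : Perm (Option (ZMod p)) := Equiv.optionCongr (Equiv.addRight u)

@[simp] theorem Tr_none (u : ZMod p) : Tr u none = none := rfl
@[simp] theorem Tr_some (u x : ZMod p) : Tr u (some x) = some (x + u) := rfl

theorem Tr_mul (u v : ZMod p) : Tr u * Tr v = Tr (u + v) := Equiv.ext fun z => by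
  cases z with
  | none => rfl
  | some x => simp [Perm.mul_apply, add_assoc, add_comm u v]

theorem Tr_zero : Tr (0 : ZMod p) = 1 := Equiv.ext fun z => by
  cases z <;> simp

theorem Tr_inv (u : ZMod p) : (Tr u)⁻¹ = Tr (-u) := by
  apply inv_eq_of_mul_eq_one_right
  rw [Tr_mul, add_neg_cancel, Tr_zero]

theorem Tr_pow (n : ℕ) : Tr (1 : ZMod p) ^ n = Tr (n : ZMod p) := by
  induction n with
  | zero => simp [Tr_zero]
  | succ n ih => rw [pow_succ, ih, Tr_mul]; push_cast; rfl

theorem Tr_zpow (n : ℤ) : Tr (1 : ZMod p) ^ n = Tr (n : ZMod p) := by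
  cases n with
  | ofNat n => simpa using Tr_pow n
  | negSucc n =>
    rw [zpow_negSucc, Tr_pow, Tr_inv, Int.cast_negSucc]

/-- the affine map `x ↦ k x + b`. -/
def Aff (k : (ZMod p)ˣ) (b : ZMod p) : Perm (Option (ZMod p)) :=
  Equiv.optionCongr ((Units.mulLeft k).trans (Equiv.addRight b))

@[simp] theorem Aff_none (k : (ZMod p)ˣ) (b : ZMod p) : Aff k b none = none := rfl
@[simp] theorem Aff_some (k : (ZMod p)ˣ) (b x : ZMod p) : Aff k b (some x) = some (k * x + b) := rfl

theorem Aff_mul (k k' : (ZMod p)ˣ) (b b' : ZMod p) :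
    Aff k b * Aff k' b' = Aff (k * k') (k * b' + b) := Equiv.ext fun z => by
  cases z with
  | none => rfl
  | some x => simp [Perm.mul_apply, mul_add, mul_assoc, add_assoc]

theorem Aff_one : Aff (1 : (ZMod p)ˣ) 0 = 1 := Equiv.ext fun z => by
  cases z <;> simp

theorem Aff_inv (k : (ZMod p)ˣ) : (Aff k 0)⁻¹ = Aff k⁻¹ 0 := by
  apply inv_eq_of_mul_eq_one_right
  rw [Aff_mul, mul_inv_cancel, mul_zero, add_zero, Aff_one]

theorem Tr_mul_Aff (u : ZMod p) (k : (ZMod p)ˣ) (b : ZMod p) :
    Tr u * Aff k b = Aff k (b + u) := Equiv.ext fun z => by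
  cases z with
  | none => rfl
  | some x => simp [Perm.mul_apply, add_assoc]

/-- the multipliers of `H`. -/
def K (H : Subgroup (Perm (Option (ZMod p)))) : Subgroup (ZMod p)ˣ where
  carrier := {k | Aff k 0 ∈ H}
  mul_mem' := by
    intro a b ha hb
    have := H.mul_mem ha hb
    rwa [Aff_mul, mul_zero, add_zero] at this
  one_mem' := by
    show Aff 1 0 ∈ H
    rw [Aff_one]; exact H.one_mem
  inv_mem' := by
    intro a ha
    have := H.inv_mem ha
    rwa [Aff_inv] at this

theorem mem_K {H : Subgroup (Perm (Option (ZMod p)))} {k : (ZMod p)ˣ} :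
    k ∈ K H ↔ Aff k 0 ∈ H := Iff.rfl

/-- The hypotheses on the permutation group. -/
structure Good (p : ℕ) (H : Subgroup (Perm (Option (ZMod p)))) : Prop where
  card : 2 * Nat.card H = p * (p ^ 2 - 1)
  tr_mem : Tr (1 : ZMod p) ∈ H
  norm : ∀ h ∈ H, h none = none → h * Tr 1 * h⁻¹ ∈ Subgroup.zpowers (Tr (1 : ZMod p))
  moves : ∃ t ∈ H, t none ≠ none

variable [Fact p.Prime]

/-- `x ↦ -1 / x` as a function. -/
def sigF : Option (ZMod p) → Option (ZMod p)
  | none => some 0
  | some x => if x = 0 then none else some (-x⁻¹)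

theorem sigF_invol : Function.Involutive (sigF (p := p)) := by
  intro z
  cases z with
  | none => simp [sigF]
  | some x =>
    by_cases hx : x = 0
    · simp [sigF, hx]
    · simp [sigF, hx, inv_neg]

/-- `x ↦ -1 / x` as a permutation. -/
def Sig : Perm (Option (ZMod p)) := Function.Involutive.toPerm sigF sigF_invol

theorem Sig_none : Sig (none : Option (ZMod p)) = some 0 := rfl
theorem Sig_zero : Sig (some (0 : ZMod p)) = none := by
  show sigF (some 0) = none
  simp [sigF]
theorem Sig_some {x : ZMod p} (hx : x ≠ 0) : Sig (some x) = some (-x⁻¹) := by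
  show sigF (some x) = _
  simp [sigF, hx]

/-- The standard group. -/
def L (p m : ℕ) [Fact p.Prime] : Subgroup (Perm (Option (ZMod p))) :=
  Subgroup.closure ({Tr 1, Sig} ∪ {π | ∃ k : (ZMod p)ˣ, (k : ZMod p) ^ m = 1 ∧ π = Aff k 0})

variable {H : Subgroup (Perm (Option (ZMod p)))}

theorem Good.Tr_mem (hH : Good p H) (u : ZMod p) : Tr u ∈ H := by
  have : Tr u = Tr 1 ^ u.val := by rw [Tr_pow, ZMod.natCast_zmod_val]
  rw [this]; exact pow_mem hH.tr_mem _

theorem Good.mem_K_of_Aff_mem (hH : Good p H) {k : (ZMod p)ˣ} {b : ZMod p} (h : Aff k b ∈ H) :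
    k ∈ K H := by
  have h1 := H.mul_mem (hH.Tr_mem (-b)) h
  rwa [Tr_mul_Aff, add_neg_cancel] at h1

theorem Good.Aff_mem (hH : Good p H) {k : (ZMod p)ˣ} (hk : k ∈ K H) (b : ZMod p) :
    Aff k b ∈ H := by
  have h1 := H.mul_mem (hH.Tr_mem b) hk
  rwa [Tr_mul_Aff, zero_add] at h1

theorem Good.affine (hH : Good p H) {h : Perm (Option (ZMod p))} (hh : h ∈ H)
    (hfix : h none = none) : ∃ (k : (ZMod p)ˣ) (b : ZMod p), h = Aff k b := by
  obtain ⟨n, hn⟩ := Subgroup.mem_zpowers_iff.1 (hH.norm h hh hfix)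
  rw [Tr_zpow] at hn
  have hcomm : h * Tr 1 = Tr (n : ZMod p) * h := by
    rw [hn]; group
  have h0 : h (some 0) ≠ none := fun h0 => by
    have := h.injective (h0.trans hfix.symm)
    simp at this
  obtain ⟨b, hb⟩ := Option.ne_none_iff_exists'.1 h0
  have key : ∀ j : ℕ, h (some (j : ZMod p)) = some ((n : ZMod p) * j + b) := by
    intro j
    induction j with
    | zero => simp [hb]
    | succ j ih =>
      have h1 : h (some (((j + 1 : ℕ) : ZMod p))) =
          (h * Tr 1 : Perm (Option (ZMod p))) (some (j : ZMod p)) := by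
        rw [Perm.mul_apply, Tr_some]; push_cast; rfl
      rw [h1, hcomm, Perm.mul_apply, ih, Tr_some]
      congr 1; push_cast; ring
  have key' : ∀ x : ZMod p, h (some x) = some ((n : ZMod p) * x + b) := by
    intro x
    have := key x.val
    rwa [ZMod.natCast_zmod_val] at this
  have hn0 : (n : ZMod p) ≠ 0 := by
    intro hz
    have h1 := key' 1
    rw [hz, zero_mul, zero_add, ← hb] at h1
    have := h.injective h1
    simp at this
  refine ⟨Units.mk0 _ hn0, b, Equiv.ext fun z => ?_⟩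
  cases z with
  | none => simpa using hfix
  | some x => simp [key']

theorem Good.orbit_eq (hH : Good p H) (z : Option (ZMod p)) : ∃ h ∈ H, h none = z := by
  obtain ⟨t, ht, htn⟩ := hH.moves
  cases z with
  | none => exact ⟨1, H.one_mem, rfl⟩
  | some x =>
    obtain ⟨x₀, hx₀⟩ := Option.ne_none_iff_exists'.1 htn
    refine ⟨Tr (x - x₀) * t, H.mul_mem (hH.Tr_mem _) ht, ?_⟩
    rw [Perm.mul_apply, hx₀, Tr_some]; congr 1; ring

theorem Good.card_eq (hH : Good p H) : Nat.card H = (p + 1) * (Nat.card (K H) * p) := by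
  classical
  let S := MulAction.stabilizer H (none : Option (ZMod p))
  have h1 : S.index = p + 1 := by
    rw [MulAction.index_stabilizer]
    have : MulAction.orbit H (none : Option (ZMod p)) = Set.univ := by
      ext z; simp only [Set.mem_univ, iff_true]
      obtain ⟨h, hh, hz⟩ := hH.orbit_eq z
      exact ⟨⟨h, hh⟩, hz⟩
    rw [this, Set.ncard_univ, Nat.card_eq_fintype_card, Fintype.card_option, ZMod.card]
  have h2 : Nat.card S = Nat.card (K H) * p := by
    let F : K H × ZMod p → S := fun kb => ⟨⟨Aff kb.1 kb.2, hH.Aff_mem kb.1.2 kb.2⟩, by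
      rw [MulAction.mem_stabilizer_iff]; rfl⟩
    have hF : Function.Bijective F := by
      constructor
      · rintro ⟨k, b⟩ ⟨k', b'⟩ hkb
        have h3 : Aff (k : (ZMod p)ˣ) b = Aff (k' : (ZMod p)ˣ) b' :=
          congrArg (fun s : S => ((s : H) : Perm (Option (ZMod p)))) hkb
        have hb : b = b' := by
          have := congrArg (fun π : Perm (Option (ZMod p)) => π (some 0)) h3
          simpa using this
        have hk : (k : (ZMod p)ˣ) = k' := by
          have := congrArg (fun π : Perm (Option (ZMod p)) => π (some 1)) h3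
          simp [hb] at this
          exact Units.ext this
        exact Prod.ext (Subtype.ext hk) hb
      · rintro ⟨⟨h, hh⟩, hs⟩
        have hfix : h none = none := hs
        obtain ⟨k, b, rfl⟩ := hH.affine hh hfix
        exact ⟨(⟨k, hH.mem_K_of_Aff_mem hh⟩, b), rfl⟩
    rw [← Nat.card_congr (Equiv.ofBijective F hF), Nat.card_prod, Nat.card_zmod]
  rw [← S.card_mul_index, h1, h2]; ring

theorem Good.card_K (hH : Good p H) {m : ℕ} (hm : p = 2 * m + 1) : Nat.card (K H) = m := by
  have h1 := hH.card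
  rw [hH.card_eq] at h1
  generalize Nat.card (K H) = c at h1 ⊢
  rw [hm] at h1
  have h2 : (2 * m + 1) ^ 2 - 1 = (2 * m) * (2 * m + 2) := by
    apply Nat.sub_eq_of_eq_add; ring
  rw [h2] at h1
  have h3 : (2 * m + 1) * (2 * m + 2) * (2 * c) = (2 * m + 1) * (2 * m + 2) * (2 * m) := by
    linarith
  have h4 := Nat.eq_of_mul_eq_mul_left (by positivity) h3
  omega

theorem Good.index_K (hH : Good p H) {m : ℕ} (hm : p = 2 * m + 1) : (K H).index = 2 := by
  have h1 := (K H).card_mul_index
  have hp : p.Prime := Fact.out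
  have h2 : Nat.card (ZMod p)ˣ = p - 1 := by
    rw [Nat.card_eq_fintype_card, ZMod.card_units_eq_totient, Nat.totient_prime hp]
  rw [hH.card_K hm, h2] at h1
  have hm0 : 0 < m := by
    have := hp.two_le
    by_contra h0
    have : m = 0 := by omega
    subst this
    exact absurd hp (by rw [hm]; norm_num)
  have h3 : m * (K H).index = m * 2 := by rw [h1, hm]; omega
  exact Nat.eq_of_mul_eq_mul_left hm0 h3

theorem Good.mem_K_iff (hH : Good p H) {m : ℕ} (hm : p = 2 * m + 1) (k : (ZMod p)ˣ) :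
    k ∈ K H ↔ (k : ZMod p) ^ m = 1 := by
  constructor
  · intro hk
    have h1 : (⟨k, hk⟩ : K H) ^ Nat.card (K H) = 1 := pow_card_eq_one'
    rw [hH.card_K hm] at h1
    have h2 : k ^ m = 1 := by
      have := congrArg (fun x : K H => (x : (ZMod p)ˣ)) h1
      simpa using this
    have := congrArg (fun x : (ZMod p)ˣ => (x : ZMod p)) h2
    simpa using this
  · intro hk
    have hpm : p / 2 = m := by omega
    have hsq : IsSquare (k : ZMod p) := by
      rw [ZMod.euler_criterion p k.ne_zero, hpm]; exact hk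
    obtain ⟨y, hy⟩ := hsq
    have hy0 : y ≠ 0 := by
      rintro rfl
      exact k.ne_zero (by simp at hy)
    have hk' : k = Units.mk0 y hy0 * Units.mk0 y hy0 := Units.ext (by simpa using hy)
    rw [hk']
    exact Subgroup.mul_self_mem_of_index_two (hH.index_K hm) _

theorem Good.exists_swap (hH : Good p H) :
    ∃ s ∈ H, s none = some 0 ∧ s (some 0) = none := by
  obtain ⟨t, ht, ht0⟩ := hH.orbit_eq (some 0)
  have h1 : t.symm none ≠ none := fun h => by
    have h2 : t none = none := by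
      conv_lhs => rw [← h]
      exact t.apply_symm_apply none
    rw [ht0] at h2
    simp at h2
  obtain ⟨x₁, hx₁⟩ := Option.ne_none_iff_exists'.1 h1
  refine ⟨t * Tr x₁, H.mul_mem ht (hH.Tr_mem _), ?_, ?_⟩
  · simp [Perm.mul_apply, ht0]
  · rw [Perm.mul_apply, Tr_some, zero_add, ← hx₁, Equiv.apply_symm_apply]

theorem Good.conj_swap (hH : Good p H) {s : Perm (Option (ZMod p))} (hs : s ∈ H)
    (hs0 : s none = some 0) (hs1 : s (some 0) = none) {k : (ZMod p)ˣ} (hk : k ∈ K H) :
    ∃ k' ∈ K H, s * Aff k 0 = Aff k' 0 * s := by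
  have hmem : s * Aff k 0 * s⁻¹ ∈ H := H.mul_mem (H.mul_mem hs hk) (H.inv_mem hs)
  have hsinv0 : s⁻¹ none = some 0 := by rw [Perm.inv_eq_iff_eq]; exact hs1.symm
  have hsinv1 : s⁻¹ (some 0) = none := by rw [Perm.inv_eq_iff_eq]; exact hs0.symm
  have hfix : (s * Aff k 0 * s⁻¹) none = none := by
    simp [Perm.mul_apply, hsinv0, hs1]
  obtain ⟨k', b', hk'⟩ := hH.affine hmem hfix
  have hb' : b' = 0 := by
    have := congrArg (fun π : Perm (Option (ZMod p)) => π (some 0)) hk'
    simp [Perm.mul_apply, hsinv1, hs0] at this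
    exact this.symm
  subst hb'
  refine ⟨k', hH.mem_K_of_Aff_mem (hk' ▸ hmem), ?_⟩
  rw [← hk']; group

/-- The main identification: a good group is the standard group. -/
theorem Good.eq_L (hH : Good p H) {m : ℕ} (hm : p = 2 * m + 1) {g₁ gi r : ZMod p}
    (hg : g₁ * gi = 1) (hg₁ : g₁ ^ m = 1) (hr : r ≠ 0)
    (hgen : ∀ x : ZMod p, x ≠ 0 → ∃ i < m, x = g₁ ^ i ∨ x = r * g₁ ^ i)
    (hcheck : Check p m gi r) : H = L p m := by
  -- the unit γ
  let γ : (ZMod p)ˣ := ⟨g₁, gi, hg, (mul_comm _ _).trans hg⟩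
  have hγK : γ ∈ K H := (hH.mem_K_iff hm γ).2 hg₁
  have hgi0 : gi ≠ 0 := fun h => by rw [h, mul_zero] at hg; exact zero_ne_one hg
  -- the swap
  obtain ⟨s₀, hs₀, hs₀0, hs₀1⟩ := hH.exists_swap
  -- general facts on swaps
  have swap_some : ∀ s : Perm (Option (ZMod p)), s none = some 0 → s (some 0) = none →
      ∀ x : ZMod p, x ≠ 0 → ∃ v : ZMod p, v ≠ 0 ∧ s (some x) = some v := by
    intro s h0 h1 x hx
    have hne : s (some x) ≠ none := fun h => by
      have := s.injective (h.trans h1.symm)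
      simp at this
      exact hx this
    obtain ⟨v, hv⟩ := Option.ne_none_iff_exists'.1 hne
    refine ⟨v, ?_, hv⟩
    rintro rfl
    have := s.injective (hv.trans h0.symm)
    simp at this
  -- normalise
  obtain ⟨s, hs, hs0, hs1, hsc⟩ : ∃ s ∈ H, s none = some 0 ∧ s (some 0) = none ∧
      (s (some 1) = some 1 ∨ s (some 1) = some r) := by
    obtain ⟨c₀, hc₀, hc₀'⟩ := swap_some s₀ hs₀0 hs₀1 1 one_ne_zero
    obtain ⟨i, -, hi⟩ := hgen c₀ hc₀
    have hmemK : (γ⁻¹) ^ i ∈ K H := (K H).pow_mem ((K H).inv_mem hγK) i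
    have hval : (((γ⁻¹) ^ i : (ZMod p)ˣ) : ZMod p) = gi ^ i := by
      rw [Units.val_pow_eq_pow_val]; rfl
    have hcancel : gi ^ i * g₁ ^ i = 1 := by rw [← mul_pow, mul_comm, hg, one_pow]
    refine ⟨Aff ((γ⁻¹) ^ i) 0 * s₀, H.mul_mem hmemK hs₀, ?_, ?_, ?_⟩
    · rw [Perm.mul_apply, hs₀0, Aff_some, mul_zero, add_zero]
    · rw [Perm.mul_apply, hs₀1, Aff_none]
    · rw [Perm.mul_apply, hc₀', Aff_some, add_zero, hval]
      rcases hi with hi | hi
      · left; rw [hi, hcancel]
      · right; rw [hi, mul_left_comm, hcancel, mul_one]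
  clear hs₀ hs₀0 hs₀1 s₀
  -- the function f
  choose! f hf0 hf using swap_some s hs0 hs1
  -- conjugation
  obtain ⟨a₁u, ha₁K, hconj⟩ := hH.conj_swap hs hs0 hs1 hγK
  set a₁ : ZMod p := (a₁u : ZMod p) with ha₁
  have hfg : ∀ x : ZMod p, x ≠ 0 → f (g₁ * x) = a₁ * f x := by
    intro x hx
    have h1 := congrArg (fun π : Perm (Option (ZMod p)) => π (some x)) hconj
    simp only [Perm.mul_apply, Aff_some, add_zero] at h1
    have hgx : g₁ * x ≠ 0 := mul_ne_zero γ.ne_zero hx
    rw [hf x hx, Aff_some, add_zero] at h1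
    have h2 : s (some (g₁ * x)) = some (f (g₁ * x)) := hf _ hgx
    have h3 : s (some ((γ : ZMod p) * x)) = s (some (g₁ * x)) := rfl
    rw [h3, h2] at h1
    exact Option.some.inj h1
  set c := f 1 with hc
  set c' := f r with hc'
  have hcand : ∀ n : ℕ, ∀ x : ZMod p, x ≠ 0 → (∃ i < n, x = g₁ ^ i ∨ x = r * g₁ ^ i) →
      f x = candF p gi r c c' a₁ n x := by
    intro n
    induction n with
    | zero => rintro x - ⟨i, hi, -⟩; exact absurd hi (Nat.not_lt_zero _)
    | succ n ih =>
      rintro x hx ⟨i, hi, hxi⟩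
      rw [candF]
      by_cases h1 : x = 1
      · rw [if_pos h1, h1]
      · rw [if_neg h1]
        by_cases h2 : x = r
        · rw [if_pos h2, h2]
        · rw [if_neg h2]
          have hi0 : i ≠ 0 := by
            rintro rfl
            rcases hxi with h | h
            · exact h1 (by simpa using h)
            · exact h2 (by simpa using h)
          obtain ⟨j, rfl⟩ := Nat.exists_eq_succ_of_ne_zero hi0
          have hxg : x * gi ≠ 0 := mul_ne_zero hx hgi0
          have hxeq : x = g₁ * (x * gi) := by rw [mul_left_comm, hg, mul_one]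
          have hstep : ∃ i < n, x * gi = g₁ ^ i ∨ x * gi = r * g₁ ^ i := by
            refine ⟨j, by omega, ?_⟩
            rcases hxi with h | h
            · left; rw [h, pow_succ, mul_assoc, hg, mul_one]
            · right; rw [h, pow_succ, mul_assoc, mul_assoc, hg, mul_one]
          rw [← ih (x * gi) hxg hstep, ← hfg _ hxg, ← hxeq]
  have hS : (s : Option (ZMod p) → Option (ZMod p)) = candS p gi r c c' a₁ m := by
    funext z
    cases z with
    | none => exact hs0
    | some x =>
      by_cases hx : x = 0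
      · rw [hx, hs1]; simp [candS]
      · rw [hf x hx]; simp only [candS, if_neg hx]; rw [hcand m x hx (hgen x hx)]
  have hc0 : c ≠ 0 := hf0 1 one_ne_zero
  have hs1c : s (some 1) = some c := hf 1 one_ne_zero
  have hsinv0 : s⁻¹ (some 0) = none := by rw [Perm.inv_eq_iff_eq]; exact hs0.symm
  have hgmem : s⁻¹ * (Tr c)⁻¹ * s * Tr 1 * s ∈ H :=
    H.mul_mem (H.mul_mem (H.mul_mem (H.mul_mem (H.inv_mem hs) (H.inv_mem (hH.Tr_mem c))) hs)
      (hH.Tr_mem 1)) hs
  have hgfix : (s⁻¹ * (Tr c)⁻¹ * s * Tr 1 * s : Perm (Option (ZMod p))) none = none := by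
    simp only [Perm.mul_apply, hs0, Tr_some, zero_add, hs1c, Tr_inv]
    rw [add_neg_cancel, hsinv0]
  obtain ⟨a, b, hab⟩ := hH.affine hgmem hgfix
  have haK : a ∈ K H := hH.mem_K_of_Aff_mem (hab ▸ hgmem)
  have hSE : s * Tr 1 * s = Tr c * s * Aff a b := by rw [← hab]; group
  have hb : s (some b) = some (-c) := by
    have h1 := congrArg (fun π : Perm (Option (ZMod p)) => π (some 0)) hab
    simp only [Perm.mul_apply, hs1, Tr_none, hs0, Tr_inv, Tr_some, zero_add, Aff_some,
      mul_zero] at h1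
    rw [Perm.inv_eq_iff_eq] at h1
    exact h1.symm
  have hcc : c = 1 ∨ c = r := by
    rcases hsc with h | h
    · left; exact Option.some.inj (hs1c.symm.trans h)
    · right; exact Option.some.inj (hs1c.symm.trans h)
  have hc'0 : c' ≠ 0 := hf0 r hr
  have ha₁m : a₁ ^ m = 1 := (hH.mem_K_iff hm a₁u).1 ha₁K
  have ham : (a : ZMod p) ^ m = 1 := (hH.mem_K_iff hm a).1 haK
  obtain ⟨hfx, hcm⟩ := hcheck c c' a₁ hcc hc'0 ha₁m ⟨b, by rw [← hS]; exact hb, (a : ZMod p), ham,
    fun z => by
      rw [← hS]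
      have h1 := congrArg (fun π : Perm (Option (ZMod p)) => π z) hSE
      exact h1⟩
  have hfx' : ∀ x : ZMod p, x ≠ 0 → f x = c * x⁻¹ := by
    intro x hx
    have h1 := hfx x hx
    rw [← hcand m x hx (hgen x hx)] at h1
    rw [← h1, mul_assoc, mul_inv_cancel₀ hx, mul_one]
  let k₀ : (ZMod p)ˣ := Units.mk0 (-c) (neg_ne_zero.2 hc0)
  have hk₀ : k₀ ∈ K H := (hH.mem_K_iff hm k₀).2 hcm
  have hsig : s = Aff k₀ 0 * Sig := Equiv.ext fun z => by
    cases z with
    | none => rw [Perm.mul_apply, Sig_none, Aff_some, mul_zero, add_zero, hs0]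
    | some x =>
      by_cases hx : x = 0
      · rw [hx, Perm.mul_apply, Sig_zero, Aff_none, hs1]
      · rw [Perm.mul_apply, Sig_some hx, Aff_some, hf x hx, hfx' x hx, add_zero]
        congr 1
        show c * x⁻¹ = -c * -x⁻¹
        ring
  have hSigmem : Sig ∈ H := by
    have h1 : Sig = (Aff k₀ 0)⁻¹ * s := by rw [hsig]; group
    rw [h1]; exact H.mul_mem (H.inv_mem hk₀) hs
  have hTrL : ∀ u : ZMod p, Tr u ∈ L p m := by
    intro u
    have : Tr u = Tr 1 ^ u.val := by rw [Tr_pow, ZMod.natCast_zmod_val]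
    rw [this]
    have h1 : Tr (1 : ZMod p) ∈ L p m := Subgroup.subset_closure (Or.inl (Or.inl rfl))
    exact pow_mem h1 _
  have hSigL : (Sig : Perm (Option (ZMod p))) ∈ L p m :=
    Subgroup.subset_closure (Or.inl (Or.inr rfl))
  have hfixL : ∀ h ∈ H, h none = none → h ∈ L p m := by
    intro h hh hfix
    obtain ⟨k, b, rfl⟩ := hH.affine hh hfix
    have hk := hH.mem_K_of_Aff_mem hh
    have : Aff k b = Tr b * Aff k 0 := by rw [Tr_mul_Aff, zero_add]
    rw [this]
    exact (L p m).mul_mem (hTrL b)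
      (Subgroup.subset_closure (Or.inr ⟨k, (hH.mem_K_iff hm k).1 hk, rfl⟩))
  apply le_antisymm
  · intro h hh
    rcases ho : h none with _ | x
    · exact hfixL h hh ho
    · have hmem : Sig⁻¹ * (Tr x)⁻¹ * h ∈ H :=
        H.mul_mem (H.mul_mem (H.inv_mem hSigmem) (H.inv_mem (hH.Tr_mem x))) hh
      have hfix : (Sig⁻¹ * (Tr x)⁻¹ * h : Perm (Option (ZMod p))) none = none := by
        rw [Perm.mul_apply, Perm.mul_apply, ho, Tr_inv, Tr_some, add_neg_cancel,
          Perm.inv_eq_iff_eq, Sig_none]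
      have h2 := hfixL _ hmem hfix
      have h3 : h = Tr x * Sig * (Sig⁻¹ * (Tr x)⁻¹ * h) := by group
      rw [h3]
      exact (L p m).mul_mem ((L p m).mul_mem (hTrL x) hSigL) h2
  · rw [L, Subgroup.closure_le]
    rintro π (hπ | ⟨k, hk, rfl⟩)
    · simp only [Set.mem_insert_iff, Set.mem_singleton_iff] at hπ
      rcases hπ with rfl | rfl
      · exact hH.tr_mem
      · exact hSigmem
    · exact (hH.mem_K_iff hm k).2 hk

end perms

end Cfsg.Agent.Lib.Helper5.Zass
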