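import Mathlib
import Cfsg.Agent.Lib.Helper5.Zass

/-!
# Simple groups of order `p (p² - 1) / 2` as permutation groups on `Option (ZMod p)`

A simple group `G` with `2 |G| = p (p² - 1)` (`p` an odd prime) acts on its `p + 1` Sylow
`p`-subgroups; labelling them by `Option (ZMod p)` we get a group satisfying `Zass.Good`.
-/

set_option autoImplicit false

namespace Cfsg.Agent.Lib.Helper5.Zass

open Equiv

section abstract

variable {G : Type*} [Group G]

/-- In a subgroup of prime order every nontrivial element generates. -/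
theorem zpowers_eq_of_prime_card {p : ℕ} (hp : p.Prime) {P : Subgroup G} (hP : Nat.card P = p)
    {z : G} (hz : z ∈ P) (hz1 : z ≠ 1) : orderOf z = p ∧ Subgroup.zpowers z = P := by
  have h1 : orderOf z ∣ p := hP ▸ P.orderOf_dvd_natCard hz
  have h2 : orderOf z = p := by
    rcases (Nat.dvd_prime hp).1 h1 with h | h
    · exact absurd (orderOf_eq_one_iff.1 h) hz1
    · exact h
  have : Finite P := Nat.finite_of_card_ne_zero (by rw [hP]; exact hp.ne_zero)
  refine ⟨h2, Subgroup.eq_of_le_of_card_ge (Subgroup.zpowers_le.2 hz) ?_⟩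
  rw [Nat.card_zpowers, h2, hP]

/-- The Sylow count. -/
theorem card_sylow_arith {p m n c : ℕ} (hp : p.Prime) (hm : p = 2 * m + 1) (hn : n % p = 1)
    (hn1 : n ≠ 1) (hnc : n * c = 2 * m * (m + 1)) : n = p + 1 := by
  have hm0 : 0 < m := by
    by_contra h0
    have : m = 0 := by omega
    subst this
    exact absurd hp (by rw [hm]; norm_num)
  obtain ⟨k, hk⟩ : ∃ k, n = p * k + 1 := ⟨n / p, by
    have := Nat.div_add_mod n p
    omega⟩
  have hk0 : 0 < k := by
    by_contra h0
    have : k = 0 := by omega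
    subst this
    exact hn1 (by simpa using hk)
  have hnp : p + 1 ≤ n := by
    rw [hk]
    have : p * 1 ≤ p * k := Nat.mul_le_mul_left p hk0
    omega
  have hc0 : 0 < c := by
    by_contra h0
    have : c = 0 := by omega
    subst this
    have : 0 < 2 * m * (m + 1) := by positivity
    omega
  have hcm : c ≤ m := by
    have h1 : (2 * m + 2) * c ≤ n * c := Nat.mul_le_mul_right c (by omega)
    have h2 : (2 * m + 2) * c ≤ (2 * m + 2) * m := by
      calc (2 * m + 2) * c ≤ n * c := h1
        _ = 2 * m * (m + 1) := hnc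
        _ = (2 * m + 2) * m := by ring
    exact Nat.le_of_mul_le_mul_left h2 (by omega)
  have hdvd : p ∣ 2 * c + 1 := by
    have h1 : p * (2 * k * c) + (2 * c + 1) = p * p := by
      have : 2 * (n * c) + 1 = p * p := by rw [hnc, hm]; ring
      rw [← this, hk]; ring
    exact (Nat.dvd_add_right (dvd_mul_right p _)).1 (h1 ▸ dvd_mul_right p p)
  have h2c : 2 * c + 1 = p := by
    have := Nat.le_of_dvd (by omega) hdvd
    omega
  have hcm' : c = m := by omega
  subst hcm'
  have h3 : n * c = (2 * c + 2) * c := by rw [hnc]; ring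
  have := Nat.eq_of_mul_eq_mul_right hc0 h3
  omega

variable [Finite G] [IsSimpleGroup G] {p : ℕ} [Fact p.Prime]

theorem exists_good (hp2 : p ≠ 2) (h : 2 * Nat.card G = p * (p ^ 2 - 1)) :
    ∃ H : Subgroup (Perm (Option (ZMod p))), Good p H ∧ Nonempty (G ≃* H) := by
  have hp : p.Prime := Fact.out
  obtain ⟨m, hm⟩ : ∃ m, p = 2 * m + 1 := by
    rcases hp.eq_two_or_odd with h2 | h2
    · exact absurd h2 hp2
    · exact ⟨p / 2, by omega⟩
  have hm0 : 0 < m := by
    by_contra h0
    have : m = 0 := by omega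
    subst this
    exact absurd hp (by rw [hm]; norm_num)
  -- the order of G
  have hG : Nat.card G = p ^ 1 * (2 * m * (m + 1)) := by
    have h2 : (2 * m + 1) ^ 2 - 1 = (2 * m) * (2 * m + 2) := by
      apply Nat.sub_eq_of_eq_add; ring
    have h3 : 2 * Nat.card G = 2 * (p ^ 1 * (2 * m * (m + 1))) := by
      rw [h, pow_one]
      generalize Nat.card G = c
      rw [hm, h2]; ring
    exact Nat.eq_of_mul_eq_mul_left (by norm_num) h3
  have hpM : ¬ p ∣ 2 * m * (m + 1) := by
    intro hd
    rcases (Nat.Prime.dvd_mul hp).1 hd with h1 | h1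
    · rcases (Nat.Prime.dvd_mul hp).1 h1 with h2 | h2
      · have := Nat.le_of_dvd (by norm_num) h2
        omega
      · have := Nat.le_of_dvd hm0 h2
        omega
    · have := Nat.le_of_dvd (by omega) h1
      omega
  have hM0 : 2 * m * (m + 1) ≠ 0 := by positivity
  -- a Sylow subgroup
  obtain ⟨P⟩ := (Sylow.nonempty : Nonempty (Sylow p G))
  have hPcard : Nat.card (P : Subgroup G) = p := by
    rw [Sylow.card_eq_multiplicity, hG, Nat.factorization_mul (pow_ne_zero _ hp.ne_zero) hM0,
      Nat.factorization_pow, Finsupp.add_apply, Finsupp.smul_apply, hp.factorization_self,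
      Nat.factorization_eq_zero_of_not_dvd hpM]
    simp
  -- the number of Sylow subgroups
  have hn1 : Nat.card (Sylow p G) ≠ 1 := by
    intro h1
    have hsub : Subsingleton (Sylow p G) := (Nat.card_eq_one_iff_unique.mp h1).1
    have hn : (P : Subgroup G).Normal := Sylow.normal_of_subsingleton P
    rcases hn.eq_bot_or_eq_top with h2 | h2
    · rw [h2, Subgroup.card_bot] at hPcard
      exact hp.one_lt.ne hPcard
    · rw [h2, Subgroup.card_top, hG, pow_one] at hPcard
      have : 2 * m * (m + 1) = 1 := by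
        have h3 : p * (2 * m * (m + 1)) = p * 1 := by rw [hPcard, mul_one]
        exact Nat.eq_of_mul_eq_mul_left hp.pos h3
      have : 2 ∣ 1 := by
        rw [← this, mul_assoc]; exact dvd_mul_right _ _
      omega
  have hnmod : Nat.card (Sylow p G) % p = 1 := by
    have h1 := card_sylow_modEq_one p G
    rw [Nat.ModEq, Nat.mod_eq_of_lt hp.one_lt] at h1
    exact h1
  have hidx : (P : Subgroup G).index = 2 * m * (m + 1) := by
    have h1 := (P : Subgroup G).card_mul_index
    rw [hPcard, hG, pow_one] at h1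
    exact Nat.eq_of_mul_eq_mul_left hp.pos h1
  have hnS : Nat.card (Sylow p G) = p + 1 := by
    obtain ⟨c, hc⟩ := P.card_dvd_index
    rw [hidx] at hc
    exact card_sylow_arith hp hm hnmod hn1 hc.symm
  -- a generator of P
  obtain ⟨y, hyP, hy1⟩ : ∃ y ∈ (P : Subgroup G), y ≠ 1 := by
    have hne : (P : Subgroup G) ≠ ⊥ := by
      intro hb
      rw [hb, Subgroup.card_bot] at hPcard
      exact hp.one_lt.ne hPcard
    obtain ⟨⟨y, hy⟩, hy1⟩ := Subgroup.ne_bot_iff_exists_ne_one.1 hne
    exact ⟨y, hy, fun h1 => hy1 (Subtype.ext h1)⟩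
  obtain ⟨hyord, hyz⟩ := zpowers_eq_of_prime_card hp hPcard hyP hy1
  -- another Sylow subgroup
  obtain ⟨Q₁, hQ₁⟩ : ∃ Q₁ : Sylow p G, Q₁ ≠ P := by
    have : Nontrivial (Sylow p G) := Finite.one_lt_card_iff_nontrivial.1 (by rw [hnS]; omega)
    exact exists_ne P
  obtain ⟨t, ht⟩ := MulAction.exists_smul_eq G P Q₁
  have hfixP : ∀ z ∈ (P : Subgroup G), z • P = P := fun z hz =>
    Sylow.smul_eq_iff_mem_normalizer.2 (Subgroup.le_normalizer hz)
  have hmoveQ : ∀ z ∈ (P : Subgroup G), z ≠ 1 → z • Q₁ ≠ Q₁ := by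
    intro z hz hz1 hzQ
    have h1 : z ∈ (P : Subgroup G) ⊓ (Q₁ : Subgroup G) := by
      rw [← P.2.inf_normalizer_sylow Q₁]
      exact ⟨hz, Sylow.smul_eq_iff_mem_normalizer.1 hzQ⟩
    have h2 : (P : Subgroup G) ≤ Q₁ := by
      rw [← (zpowers_eq_of_prime_card hp hPcard hz hz1).2]
      exact Subgroup.zpowers_le.2 h1.2
    exact hQ₁ (Sylow.ext (P.is_maximal' Q₁.isPGroup' h2))
  -- the labelling
  let ψ : Option (ZMod p) → Sylow p G := fun z =>
    match z with
    | none => P
    | some i => y ^ i.val • Q₁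
  have hψ_inj : Function.Injective ψ := by
    intro z w hzw
    cases z with
    | none =>
      cases w with
      | none => rfl
      | some j =>
        exfalso
        have h1 : y ^ j.val • Q₁ = y ^ j.val • P := by
          rw [hfixP _ (pow_mem hyP _)]; exact hzw.symm
        exact hQ₁ (smul_left_cancel _ h1)
    | some i =>
      cases w with
      | none =>
        exfalso
        have h1 : y ^ i.val • Q₁ = y ^ i.val • P := by
          rw [hfixP _ (pow_mem hyP _)]; exact hzw
        exact hQ₁ (smul_left_cancel _ h1)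
      | some j =>
        by_contra hij
        have hij' : i ≠ j := fun h => hij (by rw [h])
        have h1 : y ^ i.val • Q₁ = y ^ j.val • Q₁ := hzw
        have h2 : ((y ^ j.val)⁻¹ * y ^ i.val) • Q₁ = Q₁ := by
          rw [mul_smul, h1, inv_smul_smul]
        have h3 : (y ^ j.val)⁻¹ * y ^ i.val ≠ 1 := by
          intro h4
          have h5 : y ^ i.val = y ^ j.val := by
            have := congrArg (fun g => y ^ j.val * g) h4
            simpa using this
          have h6 : i.val = j.val := pow_injOn_Iio_orderOf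
            (by rw [Set.mem_Iio, hyord]; exact ZMod.val_lt i)
            (by rw [Set.mem_Iio, hyord]; exact ZMod.val_lt j) h5
          exact hij' (ZMod.val_injective p h6)
        exact hmoveQ _ (mul_mem (inv_mem (pow_mem hyP _)) (pow_mem hyP _)) h3 h2
  have hψ : Function.Bijective ψ := by
    apply hψ_inj.bijective_of_nat_card_le
    rw [hnS, Nat.card_eq_fintype_card, Fintype.card_option, ZMod.card]
  let β : Option (ZMod p) ≃ Sylow p G := Equiv.ofBijective ψ hψ
  have hβnone : β none = P := rfl
  have hβsome : ∀ i : ZMod p, β (some i) = y ^ i.val • Q₁ := fun i => rfl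
  -- the representation
  let ρ : G →* Perm (Option (ZMod p)) :=
    (β.symm.permCongrHom).toMonoidHom.comp (MulAction.toPermHom G (Sylow p G))
  have hρ : ∀ (g : G) (z : Option (ZMod p)), β (ρ g z) = g • β z := by
    intro g z
    show β (β.symm.permCongr (MulAction.toPerm g) z) = g • β z
    rw [Equiv.permCongr_apply]
    simp
  have hρt : ρ t none ≠ none := by
    intro h1
    have h2 := hρ t none
    rw [h1, hβnone, ht] at h2
    exact hQ₁ h2.symm
  have hρinj : Function.Injective ρ := by
    rw [← MonoidHom.ker_eq_bot_iff]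
    rcases (MonoidHom.normal_ker ρ).eq_bot_or_eq_top with h1 | h1
    · exact h1
    · exfalso
      have h2 : t ∈ ρ.ker := by rw [h1]; exact Subgroup.mem_top t
      rw [MonoidHom.mem_ker] at h2
      exact hρt (by rw [h2]; rfl)
  have hρy : ρ y = Tr 1 := by
    refine Equiv.ext fun z => β.injective ?_
    rw [hρ]
    cases z with
    | none => rw [Tr_none, hβnone, hfixP y hyP]
    | some i =>
      rw [Tr_some, hβsome, hβsome, ← mul_smul, ← pow_succ']
      congr 1
      have : Fact (1 < p) := ⟨hp.one_lt⟩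
      rw [ZMod.val_add, ZMod.val_one]
      have h4 := pow_mod_orderOf y (i.val + 1)
      rw [hyord] at h4
      exact h4.symm
  refine ⟨ρ.range, ⟨?_, ?_, ?_, ?_⟩, ⟨MonoidHom.ofInjective hρinj⟩⟩
  · rw [← Nat.card_congr (MonoidHom.ofInjective hρinj).toEquiv]; exact h
  · exact ⟨y, hρy⟩
  · rintro _ ⟨g, rfl⟩ hfix
    have h1 := hρ g none
    rw [hfix, hβnone] at h1
    have h2 : g ∈ Subgroup.normalizer ((P : Subgroup G) : Set G) :=
      Sylow.smul_eq_iff_mem_normalizer.1 h1.symm
    have h3 : g * y * g⁻¹ ∈ (P : Subgroup G) := (Subgroup.mem_normalizer_iff.1 h2 y).1 hyP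
    rw [← hyz] at h3
    obtain ⟨n, hn⟩ := Subgroup.mem_zpowers_iff.1 h3
    rw [Subgroup.mem_zpowers_iff]
    refine ⟨n, ?_⟩
    rw [← hρy, ← map_zpow, hn, map_mul, map_mul, map_inv]
  · exact ⟨ρ t, ⟨t, rfl⟩, hρt⟩

end abstract

end Cfsg.Agent.Lib.Helper5.Zass
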