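import Mathlib
import Cfsg.Agent.Lib.Helper5.Zass
import Cfsg.Agent.Lib.Helper5.ZassSimple
import Cfsg.Agent.Lib.Helper5.PSL2

/-!
# Simple groups of order `p (p² - 1) / 2`

Any two simple groups of order `p (p² - 1) / 2` are isomorphic (for the primes passing the finite
check `Zass.Check`), hence such a group is isomorphic to `PSL(2, p)`.
-/

set_option autoImplicit false

namespace Cfsg.Agent.Lib.Helper5.Zass

open Equiv

/-- Two simple groups of order `p (p² - 1) / 2` are isomorphic. -/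
theorem iso_of_simple {p m : ℕ} [Fact p.Prime] (hp2 : p ≠ 2) (hm : p = 2 * m + 1)
    {g₁ gi r : ZMod p} (hg : g₁ * gi = 1) (hg₁ : g₁ ^ m = 1) (hr : r ≠ 0)
    (hgen : ∀ x : ZMod p, x ≠ 0 → ∃ i < m, x = g₁ ^ i ∨ x = r * g₁ ^ i)
    (hcheck : Check p m gi r)
    {G₁ : Type*} [Group G₁] [Finite G₁] [IsSimpleGroup G₁]
    (h₁ : 2 * Nat.card G₁ = p * (p ^ 2 - 1))
    {G₂ : Type*} [Group G₂] [Finite G₂] [IsSimpleGroup G₂]
    (h₂ : 2 * Nat.card G₂ = p * (p ^ 2 - 1)) : Nonempty (G₁ ≃* G₂) := by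
  obtain ⟨H₁, hH₁, ⟨e₁⟩⟩ := exists_good hp2 h₁
  obtain ⟨H₂, hH₂, ⟨e₂⟩⟩ := exists_good hp2 h₂
  have h1 := hH₁.eq_L hm hg hg₁ hr hgen hcheck
  have h2 := hH₂.eq_L hm hg hg₁ hr hgen hcheck
  exact ⟨e₁.trans ((MulEquiv.subgroupCongr (h1.trans h2.symm)).trans e₂.symm)⟩

/-- A simple group of order `p (p² - 1) / 2` is isomorphic to `PSL(2, p)`. -/
theorem iso_psl {p m : ℕ} [Fact p.Prime] (hp4 : 4 ≤ p) (hm : p = 2 * m + 1)
    {g₁ gi r : ZMod p} (hg : g₁ * gi = 1) (hg₁ : g₁ ^ m = 1) (hr : r ≠ 0)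
    (hgen : ∀ x : ZMod p, x ≠ 0 → ∃ i < m, x = g₁ ^ i ∨ x = r * g₁ ^ i)
    (hcheck : Check p m gi r)
    {G : Type*} [Group G] [Finite G] [IsSimpleGroup G]
    (h : 2 * Nat.card G = p * (p ^ 2 - 1))
    {F : Type*} [Field F] [Fintype F] (hF : Fintype.card F = p) :
    Nonempty (G ≃* Matrix.ProjectiveSpecialLinearGroup (Fin 2) F) := by
  have h2 : (2 : F) ≠ 0 := two_ne_zero_of_odd_card (by rw [hF, hm]; exact ⟨m, rfl⟩)
  have hcard : 2 * Nat.card (Matrix.ProjectiveSpecialLinearGroup (Fin 2) F) = p * (p ^ 2 - 1) := by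
    have h3 := card_PSL_mul_card_center (Fin 2) F
    rw [card_center_SL2_of_two_ne_zero h2, card_SL2, hF] at h3
    rw [mul_comm]; exact h3
  have : IsSimpleGroup (Matrix.ProjectiveSpecialLinearGroup (Fin 2) F) :=
    Matrix.ProjectiveSpecialLinearGroup.rank_two_simple (by
      rw [Nat.card_eq_fintype_card, hF]; exact hp4)
  have : Finite (Matrix.ProjectiveSpecialLinearGroup (Fin 2) F) :=
    Nat.finite_of_card_ne_zero (by
      intro h0
      rw [h0, mul_zero] at hcard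
      have h4 : 0 < p * (p ^ 2 - 1) := by
        apply Nat.mul_pos (by omega)
        have : 4 ^ 2 ≤ p ^ 2 := Nat.pow_le_pow_left hp4 2
        omega
      omega)
  exact iso_of_simple (by omega) hm hg hg₁ hr hgen hcheck h hcard

end Cfsg.Agent.Lib.Helper5.Zass
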