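import Mathlib
import Cfsg.Agent.Lib.Helper5.ZassCheck11
import Cfsg.Agent.Lib.Helper5.Tri

/-!
# `PSL(2, 11)` as a permutation group on `Option (ZMod 11)`; its subgroup `A₅` of index 11
-/

set_option autoImplicit false

namespace Cfsg.Agent.Lib.Helper5.PSL11

open Equiv Cfsg.Agent.Lib.Helper5.Zass

theorem fact11 : Fact (Nat.Prime 11) := ⟨by norm_num⟩

attribute [local instance] fact11

/-- A simple group of order 660 is the standard permutation group `L 11 5`. -/
theorem exists_hom {G : Type*} [Group G] [Finite G] [IsSimpleGroup G]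
    (h : 2 * Nat.card G = 11 * (11 ^ 2 - 1)) :
    ∃ ι : G →* Perm (Option (ZMod 11)), Function.Injective ι ∧ ι.range = L 11 5 := by
  have hg : (4 : ZMod 11) * 3 = 1 := by decide
  have hg₁ : (4 : ZMod 11) ^ 5 = 1 := by decide
  have hr : (2 : ZMod 11) ≠ 0 := by decide
  obtain ⟨H, hH, ⟨e⟩⟩ := exists_good (p := 11) (by norm_num) h
  have hL := hH.eq_L (m := 5) rfl hg hg₁ hr gen11 check11
  refine ⟨H.subtype.comp e.toMonoidHom, ?_, ?_⟩
  · exact fun x y hxy => e.injective (Subtype.ext hxy)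
  · rw [← hL]
    ext π
    constructor
    · rintro ⟨g, rfl⟩
      exact (e g).2
    · intro hπ
      exact ⟨e.symm ⟨π, hπ⟩, by simp⟩

/-- A pair `a`, `b` with `a² = b³ = (ab)⁵ = 1` and `a ≠ 1` lies in a copy of `A₅`. -/
theorem exists_A5_subgroup_mem {G : Type*} [Group G] (a b : G) (ha : a ^ 2 = 1) (hb : b ^ 3 = 1)
    (hab : (a * b) ^ 5 = 1) (hne : a ≠ 1) :
    ∃ H : Subgroup G, a ∈ H ∧ b ∈ H ∧ Nonempty (H ≃* alternatingGroup (Fin 5)) := by
  obtain ⟨e⟩ := Tri.nonempty_equivA5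
  have : IsSimpleGroup (PresentedGroup (Tri.rels 5)) := e.isSimpleGroup
  let f := Tri.lift 5 a b ha hb hab
  have hinj : Function.Injective f := by
    rw [← MonoidHom.ker_eq_bot_iff]
    rcases (MonoidHom.normal_ker f).eq_bot_or_eq_top with h | h
    · exact h
    · exfalso
      have h1 : PresentedGroup.of 0 ∈ f.ker := by rw [h]; trivial
      rw [MonoidHom.mem_ker, Tri.lift_x] at h1
      exact hne h1
  exact ⟨f.range, ⟨_, Tri.lift_x 5 a b ha hb hab⟩, ⟨_, Tri.lift_y 5 a b ha hb hab⟩,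
    ⟨(MonoidHom.ofInjective hinj).symm.trans e⟩⟩

/-- 2-transitivity on the cosets of a subgroup of index 11 from an element of order 11 and
ten double coset certificates. -/
theorem two_pretransitive_of_cert {Γ : Type*} [Group Γ] (H : Subgroup Γ) (u : Γ)
    (hidx : H.index = 11) (hu : u ^ 11 = 1)
    (hnot : ∀ k : ℕ, 0 < k → k < 11 → u ^ k ∉ H)
    (hcert : ∀ k : ℕ, 0 < k → k < 11 → ∃ h ∈ H, (u ^ k)⁻¹ * h * u ∈ H) :
    MulAction.IsMultiplyPretransitive Γ (Γ ⧸ H) 2 := by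
  have hfin : Finite (Γ ⧸ H) := Nat.finite_of_card_ne_zero (by
    change H.index ≠ 0
    rw [hidx]; norm_num)
  -- every coset is `u^i H`
  have hinj : Function.Injective (fun i : Fin 11 => ((u ^ (i : ℕ) : Γ) : Γ ⧸ H)) := by
    intro i j hij
    have h1 : (u ^ (i : ℕ))⁻¹ * u ^ (j : ℕ) ∈ H := QuotientGroup.eq.1 hij
    by_contra hne
    have hne' : (i : ℕ) ≠ j := fun h => hne (Fin.ext h)
    rcases Nat.lt_or_gt_of_ne hne' with hlt | hlt
    · have h2 : (u ^ (i : ℕ))⁻¹ * u ^ (j : ℕ) = u ^ ((j : ℕ) - i) := by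
        rw [inv_mul_eq_iff_eq_mul, ← pow_add]
        congr 1; omega
      rw [h2] at h1
      exact hnot _ (by omega) (by omega) h1
    · have h2 : (u ^ (i : ℕ))⁻¹ * u ^ (j : ℕ) = (u ^ ((i : ℕ) - j))⁻¹ := by
        rw [inv_mul_eq_iff_eq_mul, eq_mul_inv_iff_mul_eq, ← pow_add]
        congr 1; omega
      rw [h2] at h1
      have h3 : u ^ ((i : ℕ) - j) ∈ H := by simpa using H.inv_mem h1
      exact hnot _ (by omega) (by omega) h3
  have hbij : Function.Bijective (fun i : Fin 11 => ((u ^ (i : ℕ) : Γ) : Γ ⧸ H)) := by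
    apply hinj.bijective_of_nat_card_le
    rw [Nat.card_fin]
    change H.index ≤ 11
    rw [hidx]
  have hsurj : ∀ x : Γ ⧸ H, ∃ i : ℕ, i < 11 ∧ x = ((u ^ i : Γ) : Γ ⧸ H) := by
    intro x
    obtain ⟨i, hi⟩ := hbij.2 x
    exact ⟨i, i.2, hi.symm⟩
  -- moving a pair of distinct cosets to the base pair
  have hbase : ∀ x y : Γ ⧸ H, x ≠ y →
      ∃ g : Γ, g • x = ((1 : Γ) : Γ ⧸ H) ∧ g • y = ((u : Γ) : Γ ⧸ H) := by
    intro x y hxy
    obtain ⟨i, hi, rfl⟩ := hsurj x
    obtain ⟨j, hj, rfl⟩ := hsurj y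
    have hij : i ≠ j := fun h => hxy (by rw [h])
    have hk : u ^ ((j + 11 - i) % 11) = (u ^ i)⁻¹ * u ^ j := by
      rw [← pow_eq_pow_mod _ hu, eq_inv_mul_iff_mul_eq, ← pow_add]
      have : i + (j + 11 - i) = j + 11 := by omega
      rw [this, pow_add, hu, mul_one]
    obtain ⟨h, hh, hcer⟩ := hcert ((j + 11 - i) % 11) (by omega) (by omega)
    rw [hk] at hcer
    refine ⟨h⁻¹ * (u ^ i)⁻¹, ?_, ?_⟩
    · rw [MulAction.Quotient.smul_mk, QuotientGroup.eq, smul_eq_mul]
      have : (h⁻¹ * (u ^ i)⁻¹ * u ^ i)⁻¹ * 1 = h := by group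
      rw [this]; exact hh
    · rw [MulAction.Quotient.smul_mk, QuotientGroup.eq, smul_eq_mul]
      have : (h⁻¹ * (u ^ i)⁻¹ * u ^ j)⁻¹ * u = ((u ^ i)⁻¹ * u ^ j)⁻¹ * h * u := by group
      rw [this]; exact hcer
  rw [MulAction.is_two_pretransitive_iff]
  intro a b c d hab hcd
  obtain ⟨g₁, h1, h2⟩ := hbase a b hab
  obtain ⟨g₂, h3, h4⟩ := hbase c d hcd
  refine ⟨g₂⁻¹ * g₁, ?_, ?_⟩
  · rw [mul_smul, h1, ← h3, inv_smul_smul]
  · rw [mul_smul, h2, ← h4, inv_smul_smul]

/-! ### The concrete generators -/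

/-- the unit `4` of `ZMod 11`. -/
def γ : (ZMod 11)ˣ := ⟨4, 3, by decide, by decide⟩

/-- `x ↦ x + 1`. -/
def Tm : Perm (Option (ZMod 11)) := Tr 1
/-- `x ↦ -1 / x`. -/
def Sm : Perm (Option (ZMod 11)) := Sig
/-- `x ↦ 4 x`. -/
def Dm : Perm (Option (ZMod 11)) := Aff γ 0
/-- an involution. -/
def a₀ : Perm (Option (ZMod 11)) := Sm
/-- an element of order 3. -/
def b₀ : Perm (Option (ZMod 11)) := Dm * Sm * Tm * Tm

theorem Tm_mem : Tm ∈ L 11 5 := Subgroup.subset_closure (Or.inl (Or.inl rfl))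
theorem Sm_mem : Sm ∈ L 11 5 := Subgroup.subset_closure (Or.inl (Or.inr rfl))
theorem Dm_mem : Dm ∈ L 11 5 := Subgroup.subset_closure (Or.inr ⟨γ, by decide, rfl⟩)
theorem a₀_mem : a₀ ∈ L 11 5 := Sm_mem
theorem b₀_mem : b₀ ∈ L 11 5 :=
  (L 11 5).mul_mem ((L 11 5).mul_mem ((L 11 5).mul_mem Dm_mem Sm_mem) Tm_mem) Tm_mem

theorem a₀_sq : a₀ ^ 2 = 1 := Equiv.ext (by decide +kernel)
theorem b₀_cu : b₀ ^ 3 = 1 := Equiv.ext (by decide +kernel)
theorem ab₀_pow : (a₀ * b₀) ^ 5 = 1 := Equiv.ext (by decide +kernel)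
theorem a₀_ne : a₀ ≠ 1 := fun h => by
  have h1 := congrArg (fun π : Perm (Option (ZMod 11)) => π none) h
  revert h1
  decide +kernel
theorem Tm_pow : Tm ^ 11 = 1 := Equiv.ext (by decide +kernel)
theorem Tm_ne : Tm ≠ 1 := fun h => by
  have h1 := congrArg (fun π : Perm (Option (ZMod 11)) => π (some 0)) h
  revert h1
  decide +kernel

/-- evaluation of a word in two letters. -/
def wd {M : Type*} [Monoid M] (a b : M) : List Bool → M
  | [] => 1
  | true :: w => a * wd a b w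
  | false :: w => b * wd a b w

theorem map_wd {M N : Type*} [Monoid M] [Monoid N] (f : M →* N) (a b : M) (w : List Bool) :
    f (wd a b w) = wd (f a) (f b) w := by
  induction w with
  | nil => simp [wd]
  | cons c w ih => cases c <;> simp [wd, ih]

theorem wd_mem {Γ : Type*} [Group Γ] (H : Subgroup Γ) {a b : Γ} (ha : a ∈ H) (hb : b ∈ H)
    (w : List Bool) : wd a b w ∈ H := by
  induction w with
  | nil => exact H.one_mem
  | cons c w ih =>
    cases c
    · exact H.mul_mem hb ih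
    · exact H.mul_mem ha ih

/-- left certificates. -/
def certL : ℕ → List Bool
  | 1 => []
  | 2 => [true, false, true, false, false, true, false]
  | 3 => [true, false]
  | 4 => [false, false, true]
  | 5 => [false, true, false, false, true, false]
  | 6 => [true, false, false, true, false, true, false]
  | 7 => [false, true, false, true]
  | 8 => [true, false, false, true, false]
  | 9 => [true, false, true, false]
  | 10 => [true, false, false, true, false, true]
  | _ => []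
/-- right certificates. -/
def certR : ℕ → List Bool
  | 1 => []
  | 2 => [true]
  | 3 => [true, false]
  | 4 => [false, false, true]
  | 5 => [true, false, false, true]
  | 6 => [false, true, false]
  | 7 => [false, false, true, false]
  | 8 => [false, false]
  | 9 => [true, false, true, false]
  | 10 => [false]
  | _ => []

theorem cert : ∀ k : Fin 11, (k : ℕ) ≠ 0 → ∀ z : Option (ZMod 11),
    (wd a₀ b₀ (certL k) * Tm) z = (Tm ^ (k : ℕ) * wd a₀ b₀ (certR k)) z := by
  decide +kernel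

/-- A simple group of order 660 has a subgroup of index 11 isomorphic to `A₅`, and is
2-transitive on its cosets. -/
theorem exists_A5_index11 {Γ : Type*} [Group Γ] [Finite Γ] [IsSimpleGroup Γ]
    (hΓ : Nat.card Γ = 660) :
    ∃ H : Subgroup Γ, H.index = 11 ∧ Nonempty (H ≃* alternatingGroup (Fin 5)) ∧
      MulAction.IsMultiplyPretransitive Γ (Γ ⧸ H) 2 := by
  obtain ⟨ι, hinj, hrange⟩ := exists_hom (G := Γ) (by rw [hΓ]; norm_num)
  have hex : ∀ π ∈ L 11 5, ∃ g : Γ, ι g = π := fun π hπ => by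
    rw [← hrange] at hπ; exact hπ
  obtain ⟨a, ha⟩ := hex a₀ a₀_mem
  obtain ⟨b, hb⟩ := hex b₀ b₀_mem
  obtain ⟨u, hu⟩ := hex Tm Tm_mem
  have ha2 : a ^ 2 = 1 := hinj (by rw [map_pow, ha, map_one]; exact a₀_sq)
  have hb3 : b ^ 3 = 1 := hinj (by rw [map_pow, hb, map_one]; exact b₀_cu)
  have hab5 : (a * b) ^ 5 = 1 := hinj (by rw [map_pow, map_mul, ha, hb, map_one]; exact ab₀_pow)
  have ha1 : a ≠ 1 := by
    rintro rfl
    rw [map_one] at ha
    exact a₀_ne ha.symm
  obtain ⟨H, haH, hbH, ⟨eH⟩⟩ := exists_A5_subgroup_mem a b ha2 hb3 hab5 ha1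
  have hH60 : Nat.card H = 60 := by
    rw [Nat.card_congr eH.toEquiv, nat_card_alternatingGroup, Nat.card_eq_fintype_card,
      Fintype.card_fin]
    rfl
  have hidx : H.index = 11 := by
    have h1 := H.card_mul_index
    rw [hH60, hΓ] at h1
    omega
  have hu11 : u ^ 11 = 1 := hinj (by rw [map_pow, hu, map_one]; exact Tm_pow)
  have hu1 : u ≠ 1 := by
    rintro rfl
    rw [map_one] at hu
    exact Tm_ne hu.symm
  have hord : orderOf u = 11 := orderOf_eq_prime hu11 hu1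
  refine ⟨H, hidx, ⟨eH⟩, two_pretransitive_of_cert H u hidx hu11 ?_ ?_⟩
  · intro k hk0 hk11 hmem
    have hcop : Nat.Coprime (orderOf u) k := by
      rw [hord, Nat.Prime.coprime_iff_not_dvd (by norm_num)]
      intro hd
      have := Nat.le_of_dvd hk0 hd
      omega
    have h1 : orderOf (u ^ k) = 11 := by rw [hcop.orderOf_pow, hord]
    have h2 := H.orderOf_dvd_natCard hmem
    rw [h1, hH60] at h2
    omega
  · intro k hk0 hk11
    refine ⟨wd a b (certL k), wd_mem H haH hbH _, ?_⟩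
    have hc : wd a₀ b₀ (certL k) * Tm = Tm ^ k * wd a₀ b₀ (certR k) :=
      Equiv.ext (cert ⟨k, hk11⟩ hk0.ne')
    have h3 : (u ^ k)⁻¹ * wd a b (certL k) * u = wd a b (certR k) := by
      apply hinj
      rw [map_mul, map_mul, map_inv, map_pow, hu, map_wd, map_wd, ha, hb, mul_assoc, hc,
        inv_mul_cancel_left]
    rw [h3]
    exact wd_mem H haH hbH _

/-- The facts on `PSL(2, 11)`. -/
theorem psl_facts {F : Type*} [Field F] [Fintype F] (hF : Fintype.card F = 11) :
    IsSimpleGroup (Matrix.ProjectiveSpecialLinearGroup (Fin 2) F) ∧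
      Nat.card (Matrix.ProjectiveSpecialLinearGroup (Fin 2) F) = 660 := by
  have h2 : (2 : F) ≠ 0 := two_ne_zero_of_odd_card (by rw [hF]; decide)
  have hcard : Nat.card (Matrix.ProjectiveSpecialLinearGroup (Fin 2) F) = 660 := by
    have h3 := card_PSL_mul_card_center (Fin 2) F
    rw [card_center_SL2_of_two_ne_zero h2, card_SL2, hF] at h3
    omega
  exact ⟨Matrix.ProjectiveSpecialLinearGroup.rank_two_simple (by
    rw [Nat.card_eq_fintype_card, hF]; norm_num), hcard⟩

end Cfsg.Agent.Lib.Helper5.PSL11
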