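import Mathlib
import Cfsg.Agent.Lib.Helper5.PSL11

/-!
# The subgroups `A₅` of `PSL(2, 11)`: concrete data

Normal forms for the elements of the permutation group `L 11 5`, and the finite checks used to
count the subgroups isomorphic to `A₅`.
-/

set_option autoImplicit false

namespace Cfsg.Agent.Lib.Helper5.PSL11

open Equiv Cfsg.Agent.Lib.Helper5.Zass

attribute [local instance] fact11

/-- the points. -/
abbrev X := Option (ZMod 11)

/-- parameters of the normal forms `x ↦ 4^i x + b` and `x ↦ -1 / (4^i x + b) + x₀`. -/
abbrev P := (Fin 5 × ZMod 11) ⊕ (ZMod 11 × Fin 5 × ZMod 11)

/-- translation as a function. -/
def trF (u : ZMod 11) : X → X := Option.map (· + u)
/-- affine map as a function. -/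
def affF (c b : ZMod 11) : X → X := Option.map (fun x => c * x + b)

/-- evaluation of a normal form as a function. -/
def evF : P → X → X
  | Sum.inl (i, b) => affF (4 ^ (i : ℕ)) b
  | Sum.inr (x, i, b) => fun z => trF x (sigF (affF (4 ^ (i : ℕ)) b z))

/-- the two elements of order 3 as functions. -/
def bF : Bool → X → X
  | false => fun z => affF 4 0 (sigF (trF 1 (trF 1 z)))
  | true => fun z => affF 4 0 (trF 1 (affF 4 0 (sigF z)))

/-- evaluation of a word in `Sig` (`true`) and `bF i` (`false`) as a function. -/
def wdF (i : Bool) : List Bool → X → X
  | [] => fun z => z
  | true :: w => fun z => sigF (wdF i w z)
  | false :: w => fun z => bF i (wdF i w z)

/-- conjugators of the involutions to `Sig`. -/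
def conjList : List P := [Sum.inr (0, 0, 3), Sum.inr (6, 2, 8), Sum.inr (8, 1, 3), Sum.inr (1, 3, 3), Sum.inr (6, 4, 0), Sum.inr (10, 1, 1), Sum.inr (10, 3, 4), Sum.inr (8, 1, 0), Sum.inr (7, 2, 3), Sum.inr (1, 1, 0), Sum.inr (6, 1, 6), Sum.inr (5, 1, 8), Sum.inr (7, 0, 6), Sum.inr (8, 1, 10), Sum.inr (4, 3, 10), Sum.inr (7, 3, 2), Sum.inr (9, 2, 6), Sum.inr (8, 1, 4), Sum.inr (5, 3, 8), Sum.inr (7, 1, 9), Sum.inr (2, 4, 8), Sum.inr (4, 1, 7), Sum.inr (0, 2, 1), Sum.inr (8, 4, 1), Sum.inr (2, 1, 3), Sum.inr (7, 3, 9), Sum.inr (3, 3, 4), Sum.inr (2, 4, 9), Sum.inr (8, 3, 2), Sum.inr (10, 4, 6), Sum.inr (8, 0, 5), Sum.inr (3, 1, 6), Sum.inr (0, 4, 2), Sum.inr (3, 3, 8), Sum.inr (0, 4, 4), Sum.inr (10, 4, 5), Sum.inr (6, 3, 3), Sum.inr (7, 3, 6), Sum.inr (3, 4, 4), Sum.inr (4, 0, 3), Sum.inr (6, 1, 3), Sum.inr (8, 0, 3), Sum.inr (8, 2, 5), Sum.inr (6, 4, 10), Sum.inr (6, 0, 5), Sum.inl (3, 1), Sum.inr (8, 2, 2), Sum.inr (9, 1, 9), Sum.inr (6, 1, 5), Sum.inl (0, 7), Sum.inr (3, 3, 2), Sum.inr (1, 3, 4), Sum.inr (2, 1, 0), Sum.inr (8, 4, 6), Sum.inr (7, 3, 7)]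

/-- certificates for the pairs `(Sig, y)`. -/
def tab2 : List (Bool × P × List Bool × List Bool) := [(true, Sum.inr (3, 3, 8), [true, false, true, false, false, true, false, true, false, false, true], [false, true, false, true, false, false, true, false]), (false, Sum.inr (10, 1, 1), [false, true, false, false, true, false, true, false, true], [false, false, true, false, true, false, true]), (true, Sum.inr (8, 0, 3), [true], [false, true, false, false, true, false, true]), (false, Sum.inr (8, 0, 3), [true], [true, false, true, false, false, true, false]), (false, Sum.inr (8, 0, 3), [true], [true, false, false, true, false, true, false, false]), (true, Sum.inr (3, 3, 8), [true, false, true, false, false, true, false, true, false, false, true], [false, true, false, false, true, false, true]), (false, Sum.inr (8, 0, 3), [true], [false, false]), (false, Sum.inr (8, 1, 0), [false, true, false, false, true, false, true, false, true], [false, false, true, false, true, false, true]), (false, Sum.inr (8, 0, 3), [true], [true, false, true]), (true, Sum.inr (4, 0, 3), [false, false, true, false], [false, true, false, true, false, false, true, false]), (true, Sum.inr (8, 0, 3), [true], [false]), (false, Sum.inr (10, 1, 1), [false, true, false, false, true, false, true, false, true], [false, false, true, false, false, true, false, true]), (true, Sum.inr (3, 3, 8), [true, false, true,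 false, false, true, false, true, false, false, true], [false, true, false, true, false, false, true]), (false, Sum.inr (8, 1, 0), [false, true, false, false, true, false, true, false, true], [true, false, false, true, false, true, false, false]), (true, Sum.inr (4, 0, 3), [false, false, true, false], [false, false, true, false, false, true, false]), (true, Sum.inr (3, 3, 8), [true, false, true, false, false, true, false, true, false, false, true], [false, false, true, false, false, true, false, true, false, true]), (false, Sum.inr (8, 1, 0), [false, true, false, false, true, false, true, false, true], [true, false, true]), (false, Sum.inr (8, 1, 0), [false, true, false, false, true, false, true, false, true], [false, true, false, true, false, false]), (false, Sum.inr (8, 0, 3), [true], [false, false, true, false, true, false, false, true]), (true, Sum.inr (4, 0, 3), [false, false, true, false], [false, false, true, false, false, true, false, true]), (false, Sum.inr (8, 1, 0), [false, true, false, false, true, false, true, false, true], [true, false, false, true]), (true, Sum.inr (4, 0, 3), [false, false, true, false], [true, false, false, true, false, true, false]), (true, Sum.inr (4, 0, 3), [false, false, true, false], [false, false, true, false, true, false]), (false, Sum.inr (10, 1, 1), [false, true, false, false, true, false, true, false, true], [false, true, false,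 false, true, false, true]), (false, Sum.inr (10, 1, 1), [false, true, false, false, true, false, true, false, true], [false, true, false, true, false, false]), (false, Sum.inr (8, 1, 0), [false, true, false, false, true, false, true, false, true], [false, true, false, false, true, false, true]), (false, Sum.inr (8, 0, 3), [true], [false]), (true, Sum.inr (3, 3, 8), [true, false, true, false, false, true, false, true, false, false, true], [true, false, false, true, false, true, false, false]), (false, Sum.inr (8, 1, 0), [false, true, false, false, true, false, true, false, true], [true, false, false, true, false, true, false]), (false, Sum.inr (10, 1, 1), [false, true, false, false, true, false, true, false, true], [true, false, false, true, false, true, false, false]), (false, Sum.inr (10, 1, 1), [false, true, false, false, true, false, true, false, true], [true, false, false, true, false, true, false]), (true, Sum.inr (8, 0, 3), [true], [true, false, false, true, false, true, false, false]), (true, Sum.inr (8, 0, 3), [true], [true, false, true]), (true, Sum.inr (8, 0, 3), [true], [false, false]), (false, Sum.inr (10, 1, 1), [false, true, false, false, true, false, true, false, true], [true, false, true]), (true, Sum.inr (4, 0, 3), [false, false, true, false], [false, false, true, false, false, true, false, true, false, true]), (true, Sum.inr (8, 0, 3), [true], [true, false,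 false, true]), (false, Sum.inr (8, 1, 0), [false, true, false, false, true, false, true, false, true], [false, false, true, false, false, true, false, true]), (false, Sum.inr (10, 1, 1), [false, true, false, false, true, false, true, false, true], [true, false, false, true]), (true, Sum.inr (3, 3, 8), [true, false, true, false, false, true, false, true, false, false, true], [false, false, true, false, false, true, false, true]), (false, Sum.inr (8, 0, 3), [true], [false, true, false, false, true, false, true]), (true, Sum.inr (3, 3, 8), [true, false, true, false, false, true, false, true, false, false, true], [true, false, false, true, false, true, false]), (true, Sum.inr (4, 0, 3), [false, false, true, false], [false]), (true, Sum.inr (8, 0, 3), [true], [true, false, true, false, false, true, false]), (true, Sum.inr (4, 0, 3), [false, false, true, false], [false, false]), (false, Sum.inr (8, 0, 3), [true], [true, false, false, true]), (true, Sum.inr (3, 3, 8), [true, false, true, false, false, true, false, true, false, false, true], [true, false, false, true, false, true, false, true]), (true, Sum.inr (8, 0, 3), [true], [false, false, true, false, true, false, false, true])]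

/-- the elements of the first `A₅` as words. -/
def list1 : List (List Bool) := [[], [true], [false], [true, false], [false, true], [false, false], [true, false, true], [true, false, false], [false, true, false], [false, false, true], [true, false, true, false], [true, false, false, true], [false, true, false, true], [false, true, false, false], [false, false, true, false], [true, false, true, false, true], [true, false, true, false, false], [true, false, false, true, false], [false, true, false, true, false], [false, true, false, false, true], [false, false, true, false, true], [false, false, true, false, false], [true, false, true, false, false, true], [true, false, false, true, false, true], [false, true, false, true, false, true], [false, true, false, true, false, false], [false, true, false, false, true, false], [false, false, true, false, true, false], [false, false, true, false, false, true], [true, false, true, false, false, true, false], [true, false, false, true, false, true, false], [false, true, false, true, false, false, true], [false, true, false, false, true, false, true], [false, false, true, false, true, false, true], [false, false, true, false, true, false, false], [false, false, true, false, false, true, false], [true, false, true, false, false, true, false, true], [true, false, false, true, false, true, false, true], [true, false, false, true, false,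 true, false, false], [false, true, false, true, false, false, true, false], [false, true, false, false, true, false, true, false], [false, false, true, false, true, false, false, true], [false, false, true, false, false, true, false, true], [true, false, true, false, false, true, false, true, false], [true, false, false, true, false, true, false, false, true], [false, true, false, true, false, false, true, false, true], [false, true, false, false, true, false, true, false, true], [false, true, false, false, true, false, true, false, false], [false, false, true, false, true, false, false, true, false], [false, false, true, false, false, true, false, true, false], [true, false, true, false, false, true, false, true, false, true], [true, false, true, false, false, true, false, true, false, false], [true, false, false, true, false, true, false, false, true, false], [false, true, false, false, true, false, true, false, false, true], [false, false, true, false, true, false, false, true, false, true], [false, false, true, false, false, true, false, true, false, true], [true, false, true, false, false, true, false, true, false, false, true], [true, false, false, true, false, true, false, false, true, false, true], [false, true, false, false, true, false, true, false, false, true, false], [false, true, false, false, true, false, true, false, false, true, false, true]]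
/-- the elements of the second `A₅` as words. -/
def list2 : List (List Bool) := [[], [true], [false], [true, false], [false, true], [false, false], [true, false, true], [true, false, false], [false, true, false], [false, false, true], [true, false, true, false], [true, false, false, true], [false, true, false, true], [false, true, false, false], [false, false, true, false], [true, false, true, false, true], [true, false, true, false, false], [true, false, false, true, false], [false, true, false, true, false], [false, true, false, false, true], [false, false, true, false, true], [false, false, true, false, false], [true, false, true, false, false, true], [true, false, false, true, false, true], [false, true, false, true, false, true], [false, true, false, true, false, false], [false, true, false, false, true, false], [false, false, true, false, true, false], [false, false, true, false, false, true], [true, false, true, false, false, true, false], [true, false, false, true, false, true, false], [false, true, false, true, false, false, true], [false, true, false, false, true, false, true], [false, false, true, false, true, false, true], [false, false, true, false, true, false, false], [false, false, true, false, false, true, false], [true, false, true, false, false, true, false, true], [true, false, false, true, false, true, false, true], [true, false, false, true, false,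 true, false, false], [false, true, false, true, false, false, true, false], [false, true, false, false, true, false, true, false], [false, false, true, false, true, false, false, true], [false, false, true, false, false, true, false, true], [true, false, true, false, false, true, false, true, false], [true, false, false, true, false, true, false, false, true], [false, true, false, true, false, false, true, false, true], [false, true, false, false, true, false, true, false, true], [false, true, false, false, true, false, true, false, false], [false, false, true, false, true, false, false, true, false], [false, false, true, false, false, true, false, true, false], [true, false, true, false, false, true, false, true, false, true], [true, false, true, false, false, true, false, true, false, false], [true, false, false, true, false, true, false, false, true, false], [false, true, false, false, true, false, true, false, false, true], [false, false, true, false, true, false, false, true, false, true], [false, false, true, false, false, true, false, true, false, true], [true, false, true, false, false, true, false, true, false, false, true], [true, false, false, true, false, true, false, false, true, false, true], [false, true, false, false, true, false, true, false, false, true, false], [false, true, false, false, true, false, true, false, false, true, false, true]]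
/-- the two lists. -/
def lst : Bool → List (List Bool)
  | false => list1
  | true => list2

/-- witnesses of non-conjugacy. -/
def cjTab : List (List Bool) := [[false], [true], [true], [true], [true], [true], [true], [false], [true], [true], [false]]

set_option maxRecDepth 1000000 in
theorem bf1 : ∀ q : P, (∀ z, evF q (evF q z) = z) → (∃ z, evF q z ≠ z) →
    ∃ g ∈ conjList, ∀ z, evF g (evF q z) = sigF (evF g z) := by
  decide +kernel

set_option maxRecDepth 1000000 in
theorem bf2 : ∀ q : P, (∀ z, evF q (evF q (evF q z)) = z) →
    (∀ z, sigF (evF q (sigF (evF q (sigF (evF q (sigF (evF q (sigF (evF q z))))))))) = z) →
    ∃ e ∈ tab2, (∀ z, evF e.2.1 (sigF z) = wdF e.1 e.2.2.1 (evF e.2.1 z)) ∧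
      (∀ z, evF e.2.1 (evF q z) = wdF e.1 e.2.2.2 (evF e.2.1 z)) := by
  decide +kernel

set_option maxRecDepth 1000000 in
theorem bf3 : ∀ i : Bool, [] ∈ lst i ∧ ∀ w ∈ lst i, ∀ c : Bool, ∃ w' ∈ lst i,
    ∀ z, wdF i (c :: w) z = wdF i w' z := by
  decide +kernel

set_option maxRecDepth 1000000 in
theorem bf4 : ∀ j : Fin 11, ∀ w ∈ lst true,
    ∃ z, trF ((j : ℕ) : ZMod 11) (wdF false (cjTab.getD (j : ℕ) []) z)
      ≠ wdF true w (trF ((j : ℕ) : ZMod 11) z) := by
  decide +kernel

end Cfsg.Agent.Lib.Helper5.PSL11
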