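import Mathlib
import Cfsg.Agent.Lib.Helper5.PSL11Data

/-!
# The subgroups `A₅` of a simple group of order 660

There are exactly 22 of them, in two conjugacy classes.
-/

set_option autoImplicit false
open scoped Pointwise

namespace Cfsg.Agent.Lib.Helper5.PSL11

open Equiv Cfsg.Agent.Lib.Helper5.Zass

attribute [local instance] fact11

/-- normal forms as permutations. -/
def ev : P → Perm X
  | Sum.inl (i, b) => Aff (γ ^ (i : ℕ)) b
  | Sum.inr (x, i, b) => Tr x * Sig * Aff (γ ^ (i : ℕ)) b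

theorem γ_pow_val (i : ℕ) : ((γ ^ i : (ZMod 11)ˣ) : ZMod 11) = 4 ^ i := by
  rw [Units.val_pow_eq_pow_val]; rfl

theorem Aff_apply (i : ℕ) (b : ZMod 11) (z : X) : Aff (γ ^ i) b z = affF (4 ^ i) b z := by
  cases z with
  | none => rfl
  | some t => rw [Aff_some, γ_pow_val]; rfl

theorem ev_apply (q : P) (z : X) : ev q z = evF q z := by
  rcases q with ⟨i, b⟩ | ⟨x, i, b⟩
  · exact Aff_apply i b z
  · show Tr x (Sig (Aff (γ ^ (i : ℕ)) b z)) = trF x (sigF (affF (4 ^ (i : ℕ)) b z))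
    rw [Aff_apply]; rfl

/-- `L 11 5` is a good group. -/
theorem good_L : Good 11 (L 11 5) := by
  obtain ⟨hs, hc⟩ := psl_facts (F := ZMod 11) (by rw [ZMod.card])
  have hfin : Finite (Matrix.ProjectiveSpecialLinearGroup (Fin 2) (ZMod 11)) :=
    Nat.finite_of_card_ne_zero (by rw [hc]; norm_num)
  have hg : (4 : ZMod 11) * 3 = 1 := by decide
  have hg₁ : (4 : ZMod 11) ^ 5 = 1 := by decide
  have hr : (2 : ZMod 11) ≠ 0 := by decide
  obtain ⟨H, hH, -⟩ := exists_good (p := 11)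
    (G := Matrix.ProjectiveSpecialLinearGroup (Fin 2) (ZMod 11)) (by norm_num)
    (by rw [hc]; norm_num)
  have hL := hH.eq_L (m := 5) rfl hg hg₁ hr gen11 check11
  rw [← hL]; exact hH

theorem γ_mem_K : γ ∈ K (L 11 5) := Dm_mem

theorem ev_mem (q : P) : ev q ∈ L 11 5 := by
  rcases q with ⟨i, b⟩ | ⟨x, i, b⟩
  · exact good_L.Aff_mem ((K (L 11 5)).pow_mem γ_mem_K _) b
  · exact (L 11 5).mul_mem ((L 11 5).mul_mem (good_L.Tr_mem x) Sm_mem)
      (good_L.Aff_mem ((K (L 11 5)).pow_mem γ_mem_K _) b)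

theorem exists_ev {h : Perm X} (hh : h ∈ L 11 5) : ∃ q : P, h = ev q := by
  have hG := good_L
  have hSig : (Sig : Perm X) ∈ L 11 5 := Sm_mem
  have hpow : ∀ k : (ZMod 11)ˣ, k ∈ K (L 11 5) → ∃ i : Fin 5, k = γ ^ (i : ℕ) := by
    intro k hk
    have h1 := (hG.mem_K_iff (m := 5) rfl k).1 hk
    have h2 : ∀ c : ZMod 11, c ^ 5 = 1 → ∃ i : Fin 5, c = 4 ^ (i : ℕ) := by decide
    obtain ⟨i, hi⟩ := h2 _ h1
    exact ⟨i, Units.ext (by rw [hi, γ_pow_val])⟩
  rcases ho : h none with _ | x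
  · obtain ⟨k, b, rfl⟩ := hG.affine hh ho
    obtain ⟨i, rfl⟩ := hpow k (hG.mem_K_of_Aff_mem hh)
    exact ⟨Sum.inl (i, b), rfl⟩
  · have hmem : Sig⁻¹ * (Tr x)⁻¹ * h ∈ L 11 5 :=
      (L 11 5).mul_mem ((L 11 5).mul_mem ((L 11 5).inv_mem hSig)
        ((L 11 5).inv_mem (hG.Tr_mem x))) hh
    have hfix : (Sig⁻¹ * (Tr x)⁻¹ * h : Perm X) none = none := by
      rw [Perm.mul_apply, Perm.mul_apply, ho, Tr_inv, Tr_some, add_neg_cancel,
        Perm.inv_eq_iff_eq, Sig_none]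
    obtain ⟨k, b, hkb⟩ := hG.affine hmem hfix
    obtain ⟨i, rfl⟩ := hpow k (hG.mem_K_of_Aff_mem (hkb ▸ hmem))
    refine ⟨Sum.inr (x, i, b), ?_⟩
    show h = Tr x * Sig * Aff (γ ^ (i : ℕ)) b
    rw [← hkb]; group

/-- the second element of order 3. -/
def b₂ : Perm X := Dm * Tm * Dm * Sm

/-- the two elements of order 3. -/
def bP : Bool → Perm X
  | false => b₀
  | true => b₂

theorem bP_mem (i : Bool) : bP i ∈ L 11 5 := by
  cases i
  · exact b₀_mem
  · exact (L 11 5).mul_mem ((L 11 5).mul_mem ((L 11 5).mul_mem Dm_mem Tm_mem) Dm_mem) Sm_mem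

theorem Dm_apply (z : X) : Dm z = affF 4 0 z := by
  cases z <;> rfl

theorem bP_apply (i : Bool) (z : X) : bP i z = bF i z := by
  cases i
  · show Dm (Sm (Tm (Tm z))) = affF 4 0 (sigF (trF 1 (trF 1 z)))
    rw [Dm_apply]; rfl
  · show Dm (Tm (Dm (Sm z))) = affF 4 0 (trF 1 (affF 4 0 (sigF z)))
    rw [Dm_apply, Dm_apply]; rfl

theorem wd_apply (i : Bool) (w : List Bool) (z : X) : wd a₀ (bP i) w z = wdF i w z := by
  induction w generalizing z with
  | nil => rfl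
  | cons c w ih =>
    cases c
    · show bP i (wd a₀ (bP i) w z) = bF i (wdF i w z)
      rw [ih, bP_apply]
    · show a₀ (wd a₀ (bP i) w z) = sigF (wdF i w z)
      rw [ih]; rfl

theorem wd_append {M : Type*} [Monoid M] (a b : M) (w₁ w₂ : List Bool) :
    wd a b (w₁ ++ w₂) = wd a b w₁ * wd a b w₂ := by
  induction w₁ with
  | nil => simp [wd]
  | cons c w ih => cases c <;> simp [wd, ih, mul_assoc]

theorem bP_cu (i : Bool) : bP i ^ 3 = 1 := by
  cases i
  · exact b₀_cu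
  · exact Equiv.ext (by decide +kernel)

theorem abP_pow (i : Bool) : (a₀ * bP i) ^ 5 = 1 := by
  cases i
  · exact ab₀_pow
  · exact Equiv.ext (by decide +kernel)

/-- every word is equal to a word of the list. -/
theorem word_in (i : Bool) (w : List Bool) :
    ∃ w' ∈ lst i, wd a₀ (bP i) w = wd a₀ (bP i) w' := by
  obtain ⟨hnil, hstep⟩ := bf3 i
  induction w with
  | nil => exact ⟨[], hnil, rfl⟩
  | cons c w ih =>
    obtain ⟨w₁, hw₁, h1⟩ := ih
    obtain ⟨w₂, hw₂, h2⟩ := hstep w₁ hw₁ c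
    refine ⟨w₂, hw₂, ?_⟩
    have h3 : wd a₀ (bP i) (c :: w) = wd a₀ (bP i) (c :: w₁) := by
      cases c <;> simp [wd, h1]
    rw [h3]
    exact Equiv.ext fun z => by rw [wd_apply, wd_apply, h2]

/-- A pair with the `(2,3,5)` relations lies in a least copy of `A₅`. -/
theorem exists_A5_subgroup_min {G : Type*} [Group G] (a b : G) (ha : a ^ 2 = 1)
    (hb : b ^ 3 = 1) (hab : (a * b) ^ 5 = 1) (hne : a ≠ 1) :
    ∃ H : Subgroup G, a ∈ H ∧ b ∈ H ∧ (∀ K : Subgroup G, a ∈ K → b ∈ K → H ≤ K) ∧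
      Nonempty (H ≃* alternatingGroup (Fin 5)) := by
  obtain ⟨e⟩ := Tri.nonempty_equivA5
  have : IsSimpleGroup (PresentedGroup (Tri.rels 5)) := e.isSimpleGroup
  let f := Tri.lift 5 a b ha hb hab
  have hinj : Function.Injective f := by
    rw [← MonoidHom.ker_eq_bot_iff]
    rcases (MonoidHom.normal_ker f).eq_bot_or_eq_top with h | h
    · exact h
    · exfalso
      have h1 : PresentedGroup.of 0 ∈ f.ker := by rw [h]; trivial
      rw [MonoidHom.mem_ker, Tri.lift_x] at h1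
      exact hne h1
  refine ⟨f.range, ⟨_, Tri.lift_x 5 a b ha hb hab⟩, ⟨_, Tri.lift_y 5 a b ha hb hab⟩, ?_,
    ⟨(MonoidHom.ofInjective hinj).symm.trans e⟩⟩
  intro K haK hbK
  rw [MonoidHom.range_eq_map, ← PresentedGroup.closure_range_of, MonoidHom.map_closure,
    Subgroup.closure_le]
  rintro _ ⟨_, ⟨i, rfl⟩, rfl⟩
  fin_cases i
  · have h1 : f (PresentedGroup.of 0) = a := Tri.lift_x 5 a b ha hb hab
    exact h1 ▸ haK
  · have h1 : f (PresentedGroup.of 1) = b := Tri.lift_y 5 a b ha hb hab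
    exact h1 ▸ hbK

/-- A copy of `A₅` contains a pair with the `(2,3,5)` relations. -/
theorem exists_pair_of_iso {G : Type*} [Group G] (B : Subgroup G)
    (e : B ≃* alternatingGroup (Fin 5)) :
    ∃ x y : G, x ∈ B ∧ y ∈ B ∧ x ^ 2 = 1 ∧ y ^ 3 = 1 ∧ (x * y) ^ 5 = 1 ∧ x ≠ 1 := by
  refine ⟨(e.symm Tri.a₅ : B), (e.symm Tri.b₅ : B), (e.symm Tri.a₅).2, (e.symm Tri.b₅).2,
    ?_, ?_, ?_, ?_⟩
  · have h : (e.symm Tri.a₅) ^ 2 = 1 := by rw [← map_pow, Tri.a₅_sq, map_one]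
    exact_mod_cast congrArg Subtype.val h
  · have h : (e.symm Tri.b₅) ^ 3 = 1 := by rw [← map_pow, Tri.b₅_cu, map_one]
    exact_mod_cast congrArg Subtype.val h
  · have h : (e.symm Tri.a₅ * e.symm Tri.b₅) ^ 5 = 1 := by
      rw [← map_mul, ← map_pow, Tri.ab₅_pow, map_one]
    exact_mod_cast congrArg Subtype.val h
  · intro h
    have h1 : e.symm Tri.a₅ = 1 := Subtype.ext h
    have h2 := congrArg e h1
    rw [MulEquiv.apply_symm_apply, map_one] at h2
    exact Tri.a₅_ne h2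

theorem mem_conj_smul {G : Type*} [Group G] (g : G) (H : Subgroup G) (x : G) :
    x ∈ MulAut.conj g • H ↔ g⁻¹ * x * g ∈ H := by
  rw [Subgroup.mem_pointwise_smul_iff_inv_smul_mem, MulAut.smul_def, MulAut.conj_inv_apply]

theorem card_conj_smul {G : Type*} [Group G] (g : G) (H : Subgroup G) :
    Nat.card (MulAut.conj g • H : Subgroup G) = Nat.card H :=
  (Nat.card_congr (Subgroup.equivSMul (MulAut.conj g) H).toEquiv).symm

end Cfsg.Agent.Lib.Helper5.PSL11
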