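import Mathlib
import Cfsg.Agent.Lib.Helper5.PSL11Count

/-!
# The subgroups `A₅` of a simple group of order 660: the count

There are exactly 22 of them, in two conjugacy classes.
-/

set_option autoImplicit false
open scoped Pointwise

namespace Cfsg.Agent.Lib.Helper5.PSL11

open Equiv Cfsg.Agent.Lib.Helper5.Zass

attribute [local instance] fact11

/-- the words in an involution and an element of order 3 form a subgroup. -/
def wordSubgroup {G : Type*} [Group G] (a b : G) (ha : a ^ 2 = 1) (hb : b ^ 3 = 1) :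
    Subgroup G where
  carrier := {h | ∃ w, h = wd a b w}
  mul_mem' := by
    rintro _ _ ⟨w₁, rfl⟩ ⟨w₂, rfl⟩
    exact ⟨w₁ ++ w₂, (wd_append a b w₁ w₂).symm⟩
  one_mem' := ⟨[], rfl⟩
  inv_mem' := by
    rintro _ ⟨w, rfl⟩
    induction w with
    | nil => exact ⟨[], by simp [wd]⟩
    | cons c w ih =>
      obtain ⟨w', hw'⟩ := ih
      cases c
      · refine ⟨w' ++ [false, false], ?_⟩
        have hbi : b⁻¹ = b * b := inv_eq_of_mul_eq_one_right (by rw [← mul_assoc, ← pow_two, ← pow_succ]; exact hb)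
        rw [wd_append, ← hw']
        simp [wd, hbi]
      · refine ⟨w' ++ [true], ?_⟩
        have hai : a⁻¹ = a := inv_eq_of_mul_eq_one_right (by rw [← pow_two]; exact ha)
        rw [wd_append, ← hw']
        simp [wd, hai]

theorem mem_wordSubgroup {G : Type*} [Group G] (a b : G) (ha : a ^ 2 = 1) (hb : b ^ 3 = 1)
    (h : G) : h ∈ wordSubgroup a b ha hb ↔ ∃ w, h = wd a b w := Iff.rfl

/-- the cosets of a subgroup of index 11 avoiding the powers of `u`. -/
theorem coset_bijective {Γ : Type*} [Group Γ] (H : Subgroup Γ) (u : Γ)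
    (hidx : H.index = 11) (hnot : ∀ k : ℕ, 0 < k → k < 11 → u ^ k ∉ H) :
    Function.Bijective (fun i : Fin 11 => ((u ^ (i : ℕ) : Γ) : Γ ⧸ H)) := by
  have hfin : Finite (Γ ⧸ H) := Nat.finite_of_card_ne_zero (by
    change H.index ≠ 0
    rw [hidx]; norm_num)
  have hinj : Function.Injective (fun i : Fin 11 => ((u ^ (i : ℕ) : Γ) : Γ ⧸ H)) := by
    intro i j hij
    have h1 : (u ^ (i : ℕ))⁻¹ * u ^ (j : ℕ) ∈ H := QuotientGroup.eq.1 hij
    by_contra hne
    have hne' : (i : ℕ) ≠ j := fun h => hne (Fin.ext h)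
    rcases Nat.lt_or_gt_of_ne hne' with hlt | hlt
    · have h2 : (u ^ (i : ℕ))⁻¹ * u ^ (j : ℕ) = u ^ ((j : ℕ) - i) := by
        rw [inv_mul_eq_iff_eq_mul, ← pow_add]
        congr 1; omega
      rw [h2] at h1
      exact hnot _ (by omega) (by omega) h1
    · have h2 : (u ^ (i : ℕ))⁻¹ * u ^ (j : ℕ) = (u ^ ((i : ℕ) - j))⁻¹ := by
        rw [inv_mul_eq_iff_eq_mul, eq_mul_inv_iff_mul_eq, ← pow_add]
        congr 1; omega
      rw [h2] at h1
      have h3 : u ^ ((i : ℕ) - j) ∈ H := by simpa using H.inv_mem h1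
      exact hnot _ (by omega) (by omega) h3
  apply hinj.bijective_of_nat_card_le
  rw [Nat.card_fin]
  change H.index ≤ 11
  rw [hidx]

theorem exists_pow_mul {Γ : Type*} [Group Γ] (H : Subgroup Γ) (u : Γ)
    (hidx : H.index = 11) (hnot : ∀ k : ℕ, 0 < k → k < 11 → u ^ k ∉ H) (g : Γ) :
    ∃ j : Fin 11, ∃ h ∈ H, g = u ^ (j : ℕ) * h := by
  obtain ⟨j, hj⟩ := (coset_bijective H u hidx hnot).2 (g : Γ ⧸ H)
  have h1 : (u ^ (j : ℕ))⁻¹ * g ∈ H := QuotientGroup.eq.1 hj
  exact ⟨j, _, h1, by group⟩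

theorem eq_of_pow_mem {Γ : Type*} [Group Γ] (H : Subgroup Γ) (u : Γ)
    (hidx : H.index = 11) (hnot : ∀ k : ℕ, 0 < k → k < 11 → u ^ k ∉ H) (i j : Fin 11)
    (h : (u ^ (i : ℕ))⁻¹ * u ^ (j : ℕ) ∈ H) : i = j :=
  (coset_bijective H u hidx hnot).1 (QuotientGroup.eq.2 h)

/-- a subgroup of prime index in a simple group is self-normalizing. -/
theorem mem_of_conj_smul_eq {Γ : Type*} [Group Γ] [IsSimpleGroup Γ] (H : Subgroup Γ)
    (hidx : H.index = 11) (hne : H ≠ ⊥) (n : Γ) (hn : MulAut.conj n • H = H) : n ∈ H := by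
  have hle : H ≤ Subgroup.normalizer (H : Set Γ) := Subgroup.le_normalizer
  have hmem : n ∈ Subgroup.normalizer (H : Set Γ) := by
    rw [Subgroup.mem_normalizer_iff]
    intro h
    conv_rhs => rw [← hn, mem_conj_smul]
    have : n⁻¹ * (n * h * n⁻¹) * n = h := by group
    rw [this]
  have h1 := Subgroup.relIndex_mul_index hle
  rw [hidx] at h1
  have hp : Nat.Prime 11 := by norm_num
  have h2 : (Subgroup.normalizer (H : Set Γ)).index ∣ 11 := Dvd.intro_left _ h1
  rcases (Nat.dvd_prime hp).1 h2 with h3 | h3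
  · exfalso
    rw [Subgroup.index_eq_one, Subgroup.normalizer_eq_top_iff] at h3
    rcases h3.eq_bot_or_eq_top with h4 | h4
    · exact hne h4
    · rw [h4, Subgroup.index_top] at hidx
      omega
  · rw [h3] at h1
    have h4 : H.relIndex (Subgroup.normalizer (H : Set Γ)) = 1 := by omega
    exact Subgroup.relIndex_eq_one.1 h4 hmem

theorem conj_smul_smul {Γ : Type*} [Group Γ] (g h : Γ) (H : Subgroup Γ) :
    MulAut.conj g • MulAut.conj h • H = MulAut.conj (g * h) • H := by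
  rw [smul_smul, ← map_mul]

theorem card_A5 {Γ : Type*} [Group Γ] (B : Subgroup Γ)
    (hB : Nonempty (B ≃* alternatingGroup (Fin 5))) : Nat.card B = 60 := by
  obtain ⟨e⟩ := hB
  rw [Nat.card_congr e.toEquiv, nat_card_alternatingGroup, Nat.card_eq_fintype_card,
    Fintype.card_fin]
  rfl

theorem Tm_pow_apply (j : ℕ) (z : X) : (Tm ^ j : Perm X) z = trF (j : ZMod 11) z := by
  show (Tr (1 : ZMod 11) ^ j : Perm X) z = _
  rw [Tr_pow]
  cases z <;> rfl

/-- A simple group of order 660 has exactly 22 subgroups isomorphic to `A₅`, in two conjugacy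
classes. -/
theorem count_A5 {Γ : Type*} [Group Γ] [Finite Γ] [IsSimpleGroup Γ] (hΓ : Nat.card Γ = 660) :
    Nat.card {H : Subgroup Γ // Nonempty (H ≃* alternatingGroup (Fin 5))} = 22 ∧
    ∃ H K : Subgroup Γ, Nonempty (H ≃* alternatingGroup (Fin 5)) ∧
      Nonempty (K ≃* alternatingGroup (Fin 5)) ∧
      (∀ g : Γ, MulAut.conj g • H ≠ K) ∧
      ∀ L : Subgroup Γ, Nonempty (L ≃* alternatingGroup (Fin 5)) →
        ∃ g : Γ, MulAut.conj g • L = H ∨ MulAut.conj g • L = K := by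
  obtain ⟨ι, hinj, hrange⟩ := exists_hom (G := Γ) (by rw [hΓ]; norm_num)
  have hex : ∀ π ∈ L 11 5, ∃ g : Γ, ι g = π := fun π hπ => by
    rw [← hrange] at hπ; exact hπ
  have hιmem : ∀ g : Γ, ι g ∈ L 11 5 := fun g => hrange ▸ ⟨g, rfl⟩
  obtain ⟨a, ha⟩ := hex a₀ a₀_mem
  choose bΓ hbΓ using fun i => hex (bP i) (bP_mem i)
  obtain ⟨u, hu⟩ := hex Tm Tm_mem
  have ha2 : a ^ 2 = 1 := hinj (by rw [map_pow, ha, map_one]; exact a₀_sq)
  have hb3 : ∀ i, bΓ i ^ 3 = 1 := fun i =>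
    hinj (by rw [map_pow, hbΓ, map_one]; exact bP_cu i)
  have hab5 : ∀ i, (a * bΓ i) ^ 5 = 1 := fun i =>
    hinj (by rw [map_pow, map_mul, ha, hbΓ, map_one]; exact abP_pow i)
  have ha1 : a ≠ 1 := by
    rintro rfl
    rw [map_one] at ha
    exact a₀_ne ha.symm
  choose A haA hbA hmin hiso using fun i =>
    exists_A5_subgroup_min a (bΓ i) ha2 (hb3 i) (hab5 i) ha1
  have hA60 : ∀ i, Nat.card (A i) = 60 := fun i => card_A5 _ (hiso i)
  have hidx60 : ∀ B : Subgroup Γ, Nat.card B = 60 → B.index = 11 := by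
    intro B hB
    have h1 := B.card_mul_index
    rw [hB, hΓ] at h1
    omega
  have hu11 : u ^ 11 = 1 := hinj (by rw [map_pow, hu, map_one]; exact Tm_pow)
  have hu1 : u ≠ 1 := by
    rintro rfl
    rw [map_one] at hu
    exact Tm_ne hu.symm
  have hord : orderOf u = 11 := orderOf_eq_prime hu11 hu1
  have hnot : ∀ B : Subgroup Γ, Nat.card B = 60 → ∀ k : ℕ, 0 < k → k < 11 → u ^ k ∉ B := by
    intro B hB k hk0 hk11 hmem
    have hcop : Nat.Coprime (orderOf u) k := by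
      rw [hord, Nat.Prime.coprime_iff_not_dvd (by norm_num)]
      intro hd
      have := Nat.le_of_dvd hk0 hd
      omega
    have h1 : orderOf (u ^ k) = 11 := by rw [hcop.orderOf_pow, hord]
    have h2 := B.orderOf_dvd_natCard hmem
    rw [h1, hB] at h2
    omega
  have hAne : ∀ i, A i ≠ ⊥ := by
    intro i h
    have := hA60 i
    rw [h, Subgroup.card_bot] at this
    omega
  -- the elements of `A i` as words
  have hwords : ∀ i, ∀ h ∈ A i, ∃ w ∈ lst i, ι h = wd a₀ (bP i) w := by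
    intro i h hh
    have h1 : A i ≤ wordSubgroup a (bΓ i) ha2 (hb3 i) :=
      hmin i _ ⟨[true], by simp [wd]⟩ ⟨[false], by simp [wd]⟩
    obtain ⟨w, rfl⟩ := h1 hh
    obtain ⟨w', hw', h2⟩ := word_in i w
    exact ⟨w', hw', by rw [map_wd, ha, hbΓ, h2]⟩
  -- every copy of `A₅` is conjugate to one of the two
  have hK : ∀ B : Subgroup Γ, Nonempty (B ≃* alternatingGroup (Fin 5)) →
      ∃ g : Γ, ∃ i, MulAut.conj g • B = A i := by
    rintro B ⟨e⟩
    have hB60 : Nat.card B = 60 := card_A5 B ⟨e⟩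
    obtain ⟨x, y, hxB, hyB, hx2, hy3, hxy5, hx1⟩ := exists_pair_of_iso B e
    obtain ⟨H₀, hxH, hyH, hminH, hisoH⟩ := exists_A5_subgroup_min x y hx2 hy3 hxy5 hx1
    have hH₀ : H₀ = B := Subgroup.eq_of_le_of_card_ge (hminH B hxB hyB)
      (by rw [hB60, card_A5 H₀ hisoH])
    -- first conjugation
    obtain ⟨q₁, hq₁⟩ := exists_ev (hιmem x)
    have hq₁2 : ∀ z, evF q₁ (evF q₁ z) = z := by
      intro z
      have h1 : (ι x ^ 2 : Perm X) z = z := by rw [← map_pow, hx2, map_one]; rfl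
      rw [hq₁, pow_two, Perm.mul_apply, ev_apply, ev_apply] at h1
      exact h1
    have hq₁ne : ∃ z, evF q₁ z ≠ z := by
      by_contra hcon
      push Not at hcon
      apply hx1
      apply hinj
      rw [map_one, hq₁]
      exact Equiv.ext fun z => by rw [ev_apply, hcon]; rfl
    obtain ⟨g₁, -, hg₁⟩ := bf1 q₁ hq₁2 hq₁ne
    obtain ⟨G₁, hG₁⟩ := hex (ev g₁) (ev_mem g₁)
    have hx' : G₁ * x * G₁⁻¹ = a := by
      apply hinj
      rw [map_mul, map_mul, map_inv, hG₁, hq₁, ha, mul_inv_eq_iff_eq_mul]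
      exact Equiv.ext fun z => by
        rw [Perm.mul_apply, Perm.mul_apply, ev_apply, ev_apply, ev_apply, hg₁]; rfl
    -- second conjugation
    obtain ⟨q₂, hq₂⟩ := exists_ev (hιmem (G₁ * y * G₁⁻¹))
    have hy'3 : (G₁ * y * G₁⁻¹) ^ 3 = 1 := by
      rw [conj_pow, hy3, mul_one, mul_inv_cancel]
    have hxy'5 : (a * (G₁ * y * G₁⁻¹)) ^ 5 = 1 := by
      have : a * (G₁ * y * G₁⁻¹) = G₁ * (x * y) * G₁⁻¹ := by rw [← hx']; group
      rw [this, conj_pow, hxy5, mul_one, mul_inv_cancel]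
    have hq₂3 : ∀ z, evF q₂ (evF q₂ (evF q₂ z)) = z := by
      intro z
      have h1 : (ι (G₁ * y * G₁⁻¹) ^ 3 : Perm X) z = z := by
        rw [← map_pow, hy'3, map_one]; rfl
      rw [hq₂] at h1
      simp only [pow_succ, pow_zero, one_mul, Perm.mul_apply, ev_apply] at h1
      exact h1
    have hq₂5 : ∀ z, sigF (evF q₂ (sigF (evF q₂ (sigF (evF q₂ (sigF (evF q₂
        (sigF (evF q₂ z))))))))) = z := by
      intro z
      have h1 : ((ι a * ι (G₁ * y * G₁⁻¹)) ^ 5 : Perm X) z = z := by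
        rw [← map_mul, ← map_pow, hxy'5, map_one]; rfl
      rw [hq₂, ha] at h1
      simp only [pow_succ, pow_zero, one_mul, Perm.mul_apply, ev_apply] at h1
      exact h1
    obtain ⟨⟨i, g₂, w, w'⟩, -, hw, hw'⟩ := bf2 q₂ hq₂3 hq₂5
    obtain ⟨G₂, hG₂⟩ := hex (ev g₂) (ev_mem g₂)
    have h1 : G₂ * a * G₂⁻¹ = wd a (bΓ i) w := by
      apply hinj
      rw [map_mul, map_mul, map_inv, hG₂, ha, map_wd, ha, hbΓ, mul_inv_eq_iff_eq_mul]
      exact Equiv.ext fun z => by
        rw [Perm.mul_apply, Perm.mul_apply, ev_apply, wd_apply, ev_apply]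
        exact hw z
    have h2 : G₂ * (G₁ * y * G₁⁻¹) * G₂⁻¹ = wd a (bΓ i) w' := by
      apply hinj
      rw [map_mul, map_mul, map_inv, hG₂, hq₂, map_wd, ha, hbΓ, mul_inv_eq_iff_eq_mul]
      exact Equiv.ext fun z => by
        rw [Perm.mul_apply, Perm.mul_apply, ev_apply, ev_apply, wd_apply, ev_apply]
        exact hw' z
    refine ⟨G₂ * G₁, i, ?_⟩
    have h3 : B ≤ MulAut.conj (G₂ * G₁)⁻¹ • A i := by
      rw [← hH₀]
      apply hminH
      · rw [mem_conj_smul]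
        have : (G₂ * G₁)⁻¹⁻¹ * x * (G₂ * G₁)⁻¹ = G₂ * (G₁ * x * G₁⁻¹) * G₂⁻¹ := by group
        rw [this, hx', h1]
        exact wd_mem _ (haA i) (hbA i) _
      · rw [mem_conj_smul]
        have : (G₂ * G₁)⁻¹⁻¹ * y * (G₂ * G₁)⁻¹ = G₂ * (G₁ * y * G₁⁻¹) * G₂⁻¹ := by group
        rw [this, h2]
        exact wd_mem _ (haA i) (hbA i) _
    have h4 : B = MulAut.conj (G₂ * G₁)⁻¹ • A i := Subgroup.eq_of_le_of_card_ge h3
      (by rw [card_conj_smul, hA60, hB60])
    rw [h4, conj_smul_smul, mul_inv_cancel, map_one, one_smul]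
  -- the two are not conjugate
  have hnc : ∀ g : Γ, MulAut.conj g • A false ≠ A true := by
    intro g hg
    obtain ⟨j, h, hh, rfl⟩ :=
      exists_pow_mul (A false) u (hidx60 _ (hA60 false)) (hnot _ (hA60 false)) g
    rw [← conj_smul_smul, Subgroup.conj_smul_eq_self_of_mem hh] at hg
    have hc : wd a (bΓ false) (cjTab.getD (j : ℕ) []) ∈ A false :=
      wd_mem _ (haA false) (hbA false) _
    have hc' : u ^ (j : ℕ) * wd a (bΓ false) (cjTab.getD (j : ℕ) []) * (u ^ (j : ℕ))⁻¹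
        ∈ A true := by
      rw [← hg, mem_conj_smul]
      have : (u ^ (j : ℕ))⁻¹ * (u ^ (j : ℕ) * wd a (bΓ false) (cjTab.getD (j : ℕ) []) *
          (u ^ (j : ℕ))⁻¹) * u ^ (j : ℕ) = wd a (bΓ false) (cjTab.getD (j : ℕ) []) := by group
      rw [this]; exact hc
    obtain ⟨w, hw, h1⟩ := hwords true _ hc'
    obtain ⟨z, hz⟩ := bf4 j w hw
    apply hz
    rw [map_mul, map_mul, map_inv, map_pow, hu, map_wd, ha, hbΓ, mul_inv_eq_iff_eq_mul] at h1
    have h2 := congrArg (fun π : Perm X => π z) h1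
    simp only [Perm.mul_apply] at h2
    rw [Tm_pow_apply, Tm_pow_apply, wd_apply, wd_apply] at h2
    exact h2
  have hsurj : ∀ B : Subgroup Γ, Nonempty (B ≃* alternatingGroup (Fin 5)) →
      ∃ i, ∃ j : Fin 11, B = MulAut.conj (u ^ (j : ℕ)) • A i := by
    intro B hB
    obtain ⟨g, i, hg⟩ := hK B hB
    obtain ⟨j, h, hh, hj⟩ :=
      exists_pow_mul (A i) u (hidx60 _ (hA60 i)) (hnot _ (hA60 i)) g⁻¹
    refine ⟨i, j, ?_⟩
    have h1 : MulAut.conj (u ^ (j : ℕ)) • A i = MulAut.conj g⁻¹ • A i := by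
      rw [hj, ← conj_smul_smul, Subgroup.conj_smul_eq_self_of_mem hh]
    rw [h1, ← hg, conj_smul_smul, inv_mul_cancel, map_one, one_smul]
  have hinjA : ∀ i i' (j j' : Fin 11),
      MulAut.conj (u ^ (j : ℕ)) • A i = MulAut.conj (u ^ (j' : ℕ)) • A i' → i = i' ∧ j = j' := by
    intro i i' j j' h
    have h1 : MulAut.conj ((u ^ (j' : ℕ))⁻¹ * u ^ (j : ℕ)) • A i = A i' := by
      rw [← conj_smul_smul, h, conj_smul_smul, inv_mul_cancel, map_one, one_smul]
    have hi : i = i' := by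
      cases i <;> cases i'
      · rfl
      · exact absurd h1 (hnc _)
      · exfalso
        have h2 : MulAut.conj ((u ^ (j' : ℕ))⁻¹ * u ^ (j : ℕ))⁻¹ • A false = A true := by
          rw [← h1, conj_smul_smul, inv_mul_cancel, map_one, one_smul]
        exact hnc _ h2
      · rfl
    subst hi
    refine ⟨rfl, ?_⟩
    have h2 := mem_of_conj_smul_eq (A i) (hidx60 _ (hA60 i)) (hAne i) _ h1
    exact (eq_of_pow_mem (A i) u (hidx60 _ (hA60 i)) (hnot _ (hA60 i)) j' j h2).symm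
  refine ⟨?_, A false, A true, hiso false, hiso true, hnc, ?_⟩
  · let f : Bool × Fin 11 → {H : Subgroup Γ // Nonempty (H ≃* alternatingGroup (Fin 5))} :=
      fun p => ⟨MulAut.conj (u ^ (p.2 : ℕ)) • A p.1,
        ⟨(Subgroup.equivSMul (MulAut.conj (u ^ (p.2 : ℕ))) (A p.1)).symm.trans (hiso p.1).some⟩⟩
    have hf : Function.Bijective f := by
      constructor
      · rintro ⟨i, j⟩ ⟨i', j'⟩ h
        obtain ⟨h1, h2⟩ := hinjA i i' j j' (congrArg Subtype.val h)
        rw [h1, h2]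
      · rintro ⟨B, hB⟩
        obtain ⟨i, j, hij⟩ := hsurj B hB
        exact ⟨(i, j), Subtype.ext hij.symm⟩
    rw [← Nat.card_congr (Equiv.ofBijective f hf), Nat.card_prod, Nat.card_eq_fintype_card,
      Nat.card_eq_fintype_card, Fintype.card_bool, Fintype.card_fin]
  · intro B hB
    obtain ⟨g, i, hg⟩ := hK B hB
    refine ⟨g, ?_⟩
    cases i
    · exact Or.inl hg
    · exact Or.inr hg

end Cfsg.Agent.Lib.Helper5.PSL11
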