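import Mathlib

set_option autoImplicit false

/-!
Explicit permutations of the projective line over `𝔽₉` (points `3 i + j ↔ i + j√-1`, the point
`9` stands for `∞`) used in the identification of the simple groups of order 360.
-/

namespace Cfsg.Agent.Lib.Helper5.A6

open Equiv

/-- `x ↦ x + 1` (as a function). -/
def fA : Fin 10 → Fin 10 := ![3, 4, 5, 6, 7, 8, 0, 1, 2, 9]

/-- `x ↦ x - 1` (as a function). -/
def fA' : Fin 10 → Fin 10 := ![6, 7, 8, 0, 1, 2, 3, 4, 5, 9]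

/-- `x ↦ x + √-1` (as a function). -/
def fB : Fin 10 → Fin 10 := ![1, 2, 0, 4, 5, 3, 7, 8, 6, 9]

/-- `x ↦ x - √-1` (as a function). -/
def fB' : Fin 10 → Fin 10 := ![2, 0, 1, 5, 3, 4, 8, 6, 7, 9]

/-- `x ↦ √-1 x` (as a function). -/
def fH : Fin 10 → Fin 10 := ![0, 6, 3, 1, 7, 4, 2, 8, 5, 9]

/-- `x ↦ -√-1 x` (as a function). -/
def fH' : Fin 10 → Fin 10 := ![0, 3, 6, 2, 5, 8, 1, 4, 7, 9]

/-- `x ↦ -1/x` (as a function). -/
def fT : Fin 10 → Fin 10 := ![9, 1, 2, 6, 5, 4, 3, 8, 7, 0]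

/-- The permutation with underlying function `fA`. -/
def A₀ : Perm (Fin 10) := ⟨fA, fA', by decide, by decide⟩

/-- The permutation with underlying function `fB`. -/
def B₀ : Perm (Fin 10) := ⟨fB, fB', by decide, by decide⟩

/-- The permutation with underlying function `fH`. -/
def H₀ : Perm (Fin 10) := ⟨fH, fH', by decide, by decide⟩

/-- The permutation with underlying function `fT`. -/
def T₀ : Perm (Fin 10) := ⟨fT, fT, by decide, by decide⟩

/-- The translations: `trF m` maps `0` to `m` (`m ≠ 9`). -/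
def trF : Fin 10 → Fin 10 → Fin 10 :=
  ![![0, 1, 2, 3, 4, 5, 6, 7, 8, 9],
    ![1, 2, 0, 4, 5, 3, 7, 8, 6, 9],
    ![2, 0, 1, 5, 3, 4, 8, 6, 7, 9],
    ![3, 4, 5, 6, 7, 8, 0, 1, 2, 9],
    ![4, 5, 3, 7, 8, 6, 1, 2, 0, 9],
    ![5, 3, 4, 8, 6, 7, 2, 0, 1, 9],
    ![6, 7, 8, 0, 1, 2, 3, 4, 5, 9],
    ![7, 8, 6, 1, 2, 0, 4, 5, 3, 9],
    ![8, 6, 7, 2, 0, 1, 5, 3, 4, 9],
    ![0, 1, 2, 3, 4, 5, 6, 7, 8, 9]]

/-- The powers of `H₀`. -/
def hF : Fin 4 → Fin 10 → Fin 10 :=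
  ![![0, 1, 2, 3, 4, 5, 6, 7, 8, 9],
    ![0, 6, 3, 1, 7, 4, 2, 8, 5, 9],
    ![0, 2, 1, 6, 8, 7, 3, 5, 4, 9],
    ![0, 3, 6, 2, 5, 8, 1, 4, 7, 9]]

/-- The candidates for the element swapping `∞` and `0` and normalising `⟨H₀⟩`: `ε` tells whether
it centralises or inverts `H₀`, and `c`, `c'` are its values at the points `1` and `4`. -/
def candF (ε : Bool) (c c' : Fin 10) : Fin 10 → Fin 10 :=
  ![9, c, (if ε then fH else fH') ((if ε then fH else fH') c),
    (if ε then fH else fH') ((if ε then fH else fH') ((if ε then fH else fH') c)), c',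
    (if ε then fH else fH') ((if ε then fH else fH') ((if ε then fH else fH') c')),
    (if ε then fH else fH') c, (if ε then fH else fH') c',
    (if ε then fH else fH') ((if ε then fH else fH') c'), 0]

set_option maxRecDepth 1000000 in
/-- The candidates compatible with the double coset decomposition are `T₀ H₀ᵏ`. -/
theorem cand_class : ∀ (ε : Bool) (c c' : Fin 10),
    (∃ (m : Fin 10) (k : Fin 4), ∀ z : Fin 10,
      candF ε c c' (fA (candF ε c c' z))
        = trF (candF ε c c' 3) (candF ε c c' (trF m (hF k z)))) →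
    ∃ k : Fin 4, ∀ z : Fin 10, candF ε c c' z = fT (hF k z) := by
  decide +kernel

theorem A₀_apply (z : Fin 10) : A₀ z = fA z := rfl

theorem B₀_apply (z : Fin 10) : B₀ z = fB z := rfl

theorem H₀_apply (z : Fin 10) : H₀ z = fH z := rfl

theorem H₀_inv_apply (z : Fin 10) : H₀⁻¹ z = fH' z := rfl

theorem T₀_apply (z : Fin 10) : T₀ z = fT z := rfl

set_option maxRecDepth 100000 in
theorem tr_eq : ∀ m : Fin 10, m ≠ 9 → ∀ z : Fin 10,
    (A₀ ^ (m.val / 3) * B₀ ^ (m.val % 3)) z = trF m z := by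
  decide +kernel

set_option maxRecDepth 100000 in
theorem hF_eq : ∀ (k : Fin 4) (z : Fin 10), (H₀ ^ (k : ℕ)) z = hF k z := by
  decide +kernel

theorem A₀_val : ∀ i : Fin 10, i ≠ 9 →
    ((A₀ i : Fin 10) : ℕ) = 3 * ((i.val / 3 + 1) % 3) + (i.val % 3) % 3 := by
  decide +kernel

theorem B₀_val : ∀ i : Fin 10, i ≠ 9 →
    ((B₀ i : Fin 10) : ℕ) = 3 * ((i.val / 3) % 3) + (i.val % 3 + 1) % 3 := by
  decide +kernel

theorem H₀_val : ∀ i : Fin 10, i ≠ 9 →
    ((H₀ i : Fin 10) : ℕ) = 3 * ((2 * (i.val % 3)) % 3) + (i.val / 3) % 3 := by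
  decide +kernel

theorem A₀_last : A₀ 9 = 9 := by decide +kernel

theorem B₀_last : B₀ 9 = 9 := by decide +kernel

theorem H₀_last : H₀ 9 = 9 := by decide +kernel

theorem T₀_sq : T₀ ^ 2 = 1 := by decide +kernel

theorem AB_cu : (A₀ * B₀) ^ 3 = 1 := by decide +kernel

theorem TAB_pow : (T₀ * (A₀ * B₀)) ^ 5 = 1 := by decide +kernel

theorem T₀_ne_one : T₀ ≠ 1 := by decide +kernel

theorem A₀_ne_one : A₀ ≠ 1 := by decide +kernel

theorem H₀_one : H₀ 1 = 6 := by decide +kernel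

theorem H₀_six : H₀ 6 = 2 := by decide +kernel

theorem H₀_two : H₀ 2 = 3 := by decide +kernel

theorem H₀_four : H₀ 4 = 7 := by decide +kernel

theorem H₀_seven : H₀ 7 = 8 := by decide +kernel

theorem H₀_eight : H₀ 8 = 5 := by decide +kernel

end Cfsg.Agent.Lib.Helper5.A6
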