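import Mathlib

set_option autoImplicit false

/-!
Explicit permutations of the projective line over `𝔽₇` (the point `7` stands for `∞`) used in the
identification of the simple groups of order 168.
-/

namespace Cfsg.Agent.Lib.Helper5.Simple168

open Equiv

/-- `x ↦ x + 1` on the projective line (`7` stands for `∞`). -/
def Y₀ : Perm (Fin 8) := c[0, 1, 2, 3, 4, 5, 6]

/-- `x ↦ 2x`. -/
def D₀ : Perm (Fin 8) := c[1, 2, 4] * c[3, 6, 5]

/-- `x ↦ -1/x`. -/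
def T₀ : Perm (Fin 8) := c[7, 0] * c[1, 6] * c[2, 3] * c[4, 5]

set_option maxRecDepth 1000000 in
/-- The fixed-point-free involutions swapping `∞` and `0` and inverting `D₀`. -/
theorem tau_class : ∀ τ : Perm (Fin 8), τ 7 = 0 → τ * τ = 1 → (∀ i, τ i ≠ i) → τ * D₀ * τ = D₀⁻¹ →
    τ = T₀ ∨ τ = T₀ * D₀ ∨ τ = T₀ * D₀ * D₀ := by
  decide +kernel

set_option maxRecDepth 100000 in
theorem T₀_rel : T₀ * T₀ = 1 ∧ (T₀ * Y₀) ^ 3 = 1 ∧
    (T₀ * (T₀ * Y₀) * (T₀ * Y₀) * T₀ * (T₀ * Y₀)) ^ 4 = 1 := by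
  decide +kernel

theorem D₀_pow : D₀ ^ 3 = 1 := by decide +kernel

theorem Y₀_val : ∀ i : Fin 8, i ≠ 7 → ((Y₀ i : Fin 8) : ℕ) = (i.val + 1) % 7 := by decide +kernel

theorem Y₀_last : Y₀ 7 = 7 := by decide +kernel

theorem D₀_val : ∀ i : Fin 8, i ≠ 7 → ((D₀ i : Fin 8) : ℕ) = (2 * i.val) % 7 := by decide +kernel

theorem D₀_ne : ∀ i : Fin 8, i ≠ 7 → D₀ i ≠ 7 := by decide +kernel

theorem Y₀_ne : ∀ i : Fin 8, i ≠ 7 → Y₀ i ≠ 7 := by decide +kernel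

theorem D₀_last : D₀ 7 = 7 := by decide +kernel

end Cfsg.Agent.Lib.Helper5.Simple168
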