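import Mathlib
import Cfsg.Agent.Lib.Helper5.OrbitHom
import Cfsg.Agent.Lib.Helper5.Perm8
import Cfsg.Agent.Lib.Helper5.Pres168
import Cfsg.Agent.Lib.Helper17.Simple
import Cfsg.Agent.S1003

set_option autoImplicit false

/-!
A simple group of order 168 is generated by `a`, `b` with `a² = b³ = (ab)⁷ = (abbab)⁴ = 1`, hence is
isomorphic to the presented group of `Pres168` (and so to `PSL₂(7)`).

The proof realises the group on the 8 cosets of a Sylow 7-normaliser `N` (of order 21), labels the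
cosets by the projective line over `𝔽₇` and determines the permutations induced by generators of
`N` and by an involution inverting an element of order 3 of `N`.
-/

namespace Cfsg.Agent.Lib.Helper5.Simple168

open Equiv

section

variable {G : Type*} [Group G]

theorem exists_pow_of_mem_zpowers {x z : G} {n : ℕ} (hn : orderOf x = n) (hn0 : 0 < n)
    (hz : z ∈ Subgroup.zpowers x) : ∃ k < n, z = x ^ k := by
  obtain ⟨m, rfl⟩ := Subgroup.mem_zpowers_iff.1 hz
  have h1 : 0 ≤ m % (n : ℤ) := Int.emod_nonneg _ (by exact_mod_cast hn0.ne')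
  have h2 : m % (n : ℤ) < n := Int.emod_lt_of_pos _ (by exact_mod_cast hn0)
  refine ⟨(m % (n : ℤ)).toNat, by omega, ?_⟩
  rw [← zpow_natCast, Int.toNat_of_nonneg h1, ← hn, zpow_mod_orderOf]

/-- An element conjugating `y` into `⟨y⟩` normalises `⟨y⟩` (finite order). -/
theorem mem_normalizer_zpowers {y g : G} (hy : IsOfFinOrder y)
    (h : g * y * g⁻¹ ∈ Subgroup.zpowers y) :
    g ∈ Subgroup.normalizer (Subgroup.zpowers y : Set G) := by
  rw [Subgroup.mem_normalizer_iff_map_conj_eq]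
  have h1 : (Subgroup.zpowers y).map (MulAut.conj g).toMonoidHom
      = Subgroup.zpowers (g * y * g⁻¹) := by
    rw [MonoidHom.map_zpowers]
    rfl
  have h2 : Subgroup.zpowers (g * y * g⁻¹) ≤ Subgroup.zpowers y := (Subgroup.zpowers_le).2 h
  have : Finite (Subgroup.zpowers y) := by
    exact Nat.finite_of_card_ne_zero (by
      rw [Nat.card_zpowers]
      exact (orderOf_pos_iff.2 hy).ne')
  have h3 : Subgroup.zpowers (g * y * g⁻¹) = Subgroup.zpowers y :=
    Subgroup.eq_of_le_of_card_ge h2 (by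
      rw [Nat.card_zpowers, Nat.card_zpowers]
      exact (orderOf_injective (MulAut.conj g).toMonoidHom (MulAut.conj g).injective y).ge)
  exact h1.trans h3

/-- The configuration found in a simple group of order 168: an element `y` of order 7 whose
normaliser `N` has order 21, an element `d` of `N` with `d y d⁻¹ = y²`, and an involution `t`
inverting `d`. -/
structure Cfg (G : Type*) [Group G] where
  /-- An element of order 7. -/
  y : G
  /-- An element of the normaliser of `⟨y⟩`. -/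
  d : G
  /-- An involution inverting `d`. -/
  t : G
  hy : orderOf y = 7
  hN : Nat.card (Subgroup.normalizer (Subgroup.zpowers y : Set G)) = 21
  hdN : d ∈ Subgroup.normalizer (Subgroup.zpowers y : Set G)
  hdy : d * y * d⁻¹ = y ^ 2
  ht : orderOf t = 2
  htd : t * d * t = d⁻¹

namespace Cfg

variable (c : Cfg G)

/-- The normaliser of `⟨y⟩`. -/
abbrev N : Subgroup G := Subgroup.normalizer (Subgroup.zpowers c.y : Set G)

theorem y_pow : c.y ^ 7 = 1 := by
  rw [← c.hy]
  exact pow_orderOf_eq_one _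

theorem t_sq : c.t * c.t = 1 := by
  have h := pow_orderOf_eq_one c.t
  rwa [c.ht, pow_two] at h

theorem t_inv : c.t⁻¹ = c.t := inv_eq_of_mul_eq_one_left c.t_sq

theorem y_mem : c.y ∈ c.N :=
  Subgroup.le_normalizer (Subgroup.mem_zpowers c.y)

theorem y_pow_mem (k : ℕ) : c.y ^ k ∈ c.N := pow_mem c.y_mem k

theorem not_two_of_mem {g : G} (hg : g ∈ c.N) : orderOf g ≠ 2 := by
  intro h2
  have h := Subgroup.orderOf_dvd_natCard c.N hg
  rw [h2, c.hN] at h
  revert h
  decide

theorem t_not_mem : c.t ∉ c.N := fun h => c.not_two_of_mem h c.ht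

theorem yfin : IsOfFinOrder c.y := orderOf_pos_iff.1 (by rw [c.hy]; norm_num)

/-- Elements of `N` of order dividing 7 lie in `⟨y⟩`. -/
theorem mem_zpowers_of_pow {z : G} (hz : z ∈ c.N) (hz7 : z ^ 7 = 1) :
    z ∈ Subgroup.zpowers c.y := by
  have : Finite c.N := Nat.finite_of_card_ne_zero (by rw [c.hN]; norm_num)
  have hle : Subgroup.zpowers c.y ≤ c.N := Subgroup.le_normalizer
  have hnorm : ((Subgroup.zpowers c.y).subgroupOf c.N).Normal := Subgroup.normal_in_normalizer
  have hcard : Nat.card ((Subgroup.zpowers c.y).subgroupOf c.N) = 7 := by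
    rw [Nat.card_congr (Subgroup.subgroupOfEquivOfLe hle).toEquiv, Nat.card_zpowers, c.hy]
  have hq : Nat.card (c.N ⧸ (Subgroup.zpowers c.y).subgroupOf c.N) = 3 := by
    have h1 := Subgroup.card_eq_card_quotient_mul_card_subgroup
      ((Subgroup.zpowers c.y).subgroupOf c.N)
    rw [c.hN, hcard] at h1
    omega
  set q : c.N ⧸ (Subgroup.zpowers c.y).subgroupOf c.N := QuotientGroup.mk ⟨z, hz⟩ with hqdef
  have h3 : q ^ 3 = 1 := by
    rw [← hq]
    exact pow_card_eq_one'
  have h7 : q ^ 7 = 1 := by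
    rw [hqdef, ← QuotientGroup.mk_pow]
    have : (⟨z, hz⟩ : c.N) ^ 7 = 1 := Subtype.ext hz7
    rw [this]
    rfl
  have h1 : q = 1 := by
    have : q = q ^ 7 * (q ^ 3)⁻¹ * (q ^ 3)⁻¹ := by group
    rw [this, h3, h7]
    simp
  have h2 : (⟨z, hz⟩ : c.N) ∈ (Subgroup.zpowers c.y).subgroupOf c.N :=
    (QuotientGroup.eq_one_iff _).1 h1
  exact h2

/-- `t⁻¹ y^k t ∈ N` only for `7 ∣ k`. -/
theorem seven_dvd {k : ℕ} (h : c.t⁻¹ * c.y ^ k * c.t ∈ c.N) : 7 ∣ k := by
  by_contra hk
  have h7 : (c.t⁻¹ * c.y ^ k * c.t) ^ 7 = 1 := by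
    have : (c.t⁻¹ * c.y ^ k * c.t) ^ 7 = c.t⁻¹ * (c.y ^ k) ^ 7 * c.t := by
      have := conj_pow (a := c.t⁻¹) (b := c.y ^ k) (i := 7)
      rwa [inv_inv] at this
    rw [this, ← pow_mul, mul_comm, pow_mul, c.y_pow, one_pow, mul_one, inv_mul_cancel]
  have hz := c.mem_zpowers_of_pow h h7
  have hcop : Nat.Coprime k 7 := by
    rw [Nat.coprime_comm, Nat.Prime.coprime_iff_not_dvd (by norm_num)]
    exact hk
  obtain ⟨m, -, hm⟩ := Nat.exists_mul_mod_eq_one_of_coprime hcop (by norm_num)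
  have hy1 : (c.y ^ k) ^ m = c.y := by
    rw [← pow_mul, ← pow_mod_orderOf, c.hy, hm, pow_one]
  have h2 : c.t⁻¹ * c.y * c.t⁻¹⁻¹ ∈ Subgroup.zpowers c.y := by
    have h3 : (c.t⁻¹ * c.y ^ k * c.t) ^ m = c.t⁻¹ * c.y * c.t⁻¹⁻¹ := by
      have := conj_pow (a := c.t⁻¹) (b := c.y ^ k) (i := m)
      rw [hy1] at this
      rw [inv_inv] at this ⊢
      exact this
    rw [← h3]
    exact pow_mem hz m
  have h4 := mem_normalizer_zpowers c.yfin h2
  exact c.t_not_mem (by simpa using inv_mem h4)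

/-- The labelling of the cosets of `N` by the projective line over `𝔽₇`. -/
noncomputable def pt (i : Fin 8) : G ⧸ c.N :=
  if i = 7 then ((1 : G) : G ⧸ c.N) else ((c.y ^ (i : ℕ) * c.t : G) : G ⧸ c.N)

theorem pt_last : c.pt 7 = ((1 : G) : G ⧸ c.N) := if_pos rfl

theorem pt_of_ne {i : Fin 8} (hi : i ≠ 7) :
    c.pt i = ((c.y ^ (i : ℕ) * c.t : G) : G ⧸ c.N) := if_neg hi

theorem lt_seven {i : Fin 8} (hi : i ≠ 7) : (i : ℕ) < 7 := by
  have h1 := i.isLt
  have h2 : (i : ℕ) ≠ 7 := fun h => hi (Fin.ext h)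
  omega

theorem pt_mk (k : ℕ) :
    c.pt ⟨k % 7, by omega⟩ = ((c.y ^ k * c.t : G) : G ⧸ c.N) := by
  have hne : (⟨k % 7, by omega⟩ : Fin 8) ≠ 7 := by
    intro h
    have := congrArg Fin.val h
    simp at this
    omega
  rw [c.pt_of_ne hne]
  have : c.y ^ (k % 7) = c.y ^ k := by
    rw [← c.hy, pow_mod_orderOf]
  simp only [this]

theorem pt_injective : Function.Injective c.pt := by
  intro i j hij
  by_cases hi : i = 7
  · by_cases hj : j = 7
    · rw [hi, hj]
    · exfalso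
      rw [hi, c.pt_last, c.pt_of_ne hj, QuotientGroup.eq] at hij
      have h2 := c.N.mul_mem (c.N.inv_mem (c.y_pow_mem j)) hij
      have h3 : (c.y ^ (j : ℕ))⁻¹ * ((1 : G)⁻¹ * (c.y ^ (j : ℕ) * c.t)) = c.t := by group
      rw [h3] at h2
      exact c.t_not_mem h2
  · by_cases hj : j = 7
    · exfalso
      rw [hj, c.pt_last, c.pt_of_ne hi, QuotientGroup.eq] at hij
      have h2 := c.N.mul_mem (c.N.inv_mem (c.y_pow_mem i)) (c.N.inv_mem hij)
      have h3 : (c.y ^ (i : ℕ))⁻¹ * ((c.y ^ (i : ℕ) * c.t)⁻¹ * 1)⁻¹ = c.t := by group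
      rw [h3] at h2
      exact c.t_not_mem h2
    · rw [c.pt_of_ne hi, c.pt_of_ne hj, QuotientGroup.eq] at hij
      have hi' := lt_seven hi
      have hj' := lt_seven hj
      have hinv : (c.y ^ (i : ℕ))⁻¹ = c.y ^ (7 - (i : ℕ)) := by
        apply inv_eq_of_mul_eq_one_right
        rw [← pow_add, Nat.add_sub_cancel' hi'.le, c.y_pow]
      have h1 : (c.y ^ (i : ℕ) * c.t)⁻¹ * (c.y ^ (j : ℕ) * c.t)
          = c.t⁻¹ * c.y ^ (7 - (i : ℕ) + (j : ℕ)) * c.t := by
        rw [mul_inv_rev, hinv, pow_add]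
        group
      rw [h1] at hij
      have h7 := c.seven_dvd hij
      apply Fin.ext
      omega

theorem index_N [Finite G] (hG : Nat.card G = 168) : c.N.index = 8 := by
  have h := c.N.card_mul_index
  rw [c.hN, hG] at h
  omega

theorem pt_bijective [Finite G] (hG : Nat.card G = 168) : Function.Bijective c.pt := by
  apply c.pt_injective.bijective_of_nat_card_le
  rw [Nat.card_fin]
  have h : Nat.card (G ⧸ c.N) = 8 := c.index_N hG
  rw [h]

/-- `d t = t d⁻¹`. -/
theorem d_mul_t : c.d * c.t = c.t * c.d⁻¹ := by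
  have h := c.htd
  have h2 : c.d * c.t = c.t⁻¹ * (c.t * c.d * c.t) := by group
  rw [h2, h, c.t_inv]

/-- `d y^k = y^(2k) d`. -/
theorem d_mul_y_pow (k : ℕ) : c.d * c.y ^ k = c.y ^ (2 * k) * c.d := by
  have h1 : c.d * c.y ^ k * c.d⁻¹ = c.y ^ (2 * k) := by
    rw [← conj_pow, c.hdy, ← pow_mul]
  have h2 : c.d * c.y ^ k = c.d * c.y ^ k * c.d⁻¹ * c.d := by group
  rw [h2, h1]

theorem Y₀_ne_one : Y₀ ≠ 1 := by decide +kernel

theorem T₀_ne_one : T₀ ≠ 1 := by decide +kernel

theorem T₀_mul_Y₀_ne_one : T₀ * Y₀ ≠ 1 := by decide +kernel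

theorem T₀_last : T₀ 7 = 0 := by decide +kernel

/-- The permutation representation on the projective line. -/
theorem exists_rho [Finite G] (hG : Nat.card G = 168) :
    ∃ ρ : G →* Perm (Fin 8), ∀ g i, c.pt (ρ g i) = g • c.pt i := by
  apply exists_permHom c.pt c.pt_injective
  intro g i
  obtain ⟨j, hj⟩ := (c.pt_bijective hG).2 (g • c.pt i)
  exact ⟨j, hj.symm⟩

section rho

variable {c}
variable {ρ : G →* Perm (Fin 8)} (hρ : ∀ g i, c.pt (ρ g i) = g • c.pt i)

include hρ

theorem rho_y : ρ c.y = Y₀ := by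
  ext i
  apply congrArg Fin.val
  apply c.pt_injective
  rw [hρ]
  by_cases hi : i = 7
  · rw [hi, Y₀_last, c.pt_last, MulAction.Quotient.smul_coe, QuotientGroup.eq]
    simpa using c.N.inv_mem c.y_mem
  · have h1 : Y₀ i = ⟨((i : ℕ) + 1) % 7, by omega⟩ := Fin.ext (Y₀_val i hi)
    rw [h1, c.pt_mk, c.pt_of_ne hi, MulAction.Quotient.smul_coe]
    congr 1
    rw [pow_succ', smul_eq_mul, mul_assoc]

theorem rho_d : ρ c.d = D₀ := by
  ext i
  apply congrArg Fin.val
  apply c.pt_injective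
  rw [hρ]
  by_cases hi : i = 7
  · rw [hi, D₀_last, c.pt_last, MulAction.Quotient.smul_coe, QuotientGroup.eq]
    simpa using c.N.inv_mem c.hdN
  · have h1 : D₀ i = ⟨(2 * (i : ℕ)) % 7, by omega⟩ := Fin.ext (D₀_val i hi)
    rw [h1, c.pt_mk, c.pt_of_ne hi, MulAction.Quotient.smul_coe, QuotientGroup.eq]
    have h0 : c.d * (c.y ^ (i : ℕ) * c.t) = c.y ^ (2 * (i : ℕ)) * c.t * c.d⁻¹ := by
      rw [← mul_assoc, c.d_mul_y_pow, mul_assoc, c.d_mul_t, mul_assoc]
    have h2 : (c.d • (c.y ^ (i : ℕ) * c.t))⁻¹ * (c.y ^ (2 * (i : ℕ)) * c.t) = c.d := by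
      rw [smul_eq_mul, h0]
      group
    rw [h2]
    exact c.hdN

theorem rho_t_last : ρ c.t 7 = 0 := by
  apply c.pt_injective
  rw [hρ, c.pt_last, MulAction.Quotient.smul_coe]
  have h0 : (0 : Fin 8) ≠ 7 := by decide
  rw [c.pt_of_ne h0]
  simp

omit hρ in
theorem rho_t_sq : ρ c.t * ρ c.t = 1 := by
  rw [← map_mul, c.t_sq, map_one]

theorem rho_t_ne (i : Fin 8) : ρ c.t i ≠ i := by
  intro h
  have h1 := hρ c.t i
  rw [h] at h1
  obtain ⟨a, ha⟩ := QuotientGroup.mk_surjective (c.pt i)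
  rw [← ha, MulAction.Quotient.smul_coe, QuotientGroup.eq] at h1
  -- `a⁻¹ * (t • a) ∈ N` has order 2
  have h2 : a⁻¹ * c.t • a = a⁻¹ * c.t * a⁻¹⁻¹ := by
    rw [smul_eq_mul]; group
  rw [h2] at h1
  refine c.not_two_of_mem h1 ?_
  rw [← c.ht]
  exact orderOf_injective (MulAut.conj a⁻¹).toMonoidHom (MulAut.conj a⁻¹).injective c.t

theorem rho_t_d : ρ c.t * D₀ * ρ c.t = D₀⁻¹ := by
  rw [← rho_d hρ, ← map_mul, ← map_mul, c.htd, map_inv]

theorem rho_injective [IsSimpleGroup G] : Function.Injective ρ := by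
  rw [← MonoidHom.ker_eq_bot_iff]
  rcases (MonoidHom.normal_ker ρ).eq_bot_or_eq_top with h | h
  · exact h
  · exfalso
    have h1 : c.y ∈ ρ.ker := by rw [h]; trivial
    rw [MonoidHom.mem_ker, rho_y hρ] at h1
    exact Y₀_ne_one h1

end rho

/-- A simple group of order 168 containing the configuration is the presented group. -/
theorem nonempty_mulEquiv [Finite G] [IsSimpleGroup G] (hG : Nat.card G = 168) (c : Cfg G) :
    Nonempty (PresentedGroup Pres168.rels ≃* G) := by
  obtain ⟨ρ, hρ⟩ := c.exists_rho hG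
  have hinj : Function.Injective ρ := rho_injective hρ
  have hy := rho_y hρ
  have hd := rho_d hρ
  -- an involution of `G` mapping to `T₀`
  have key : ∃ a : G, ρ a = T₀ := by
    rcases tau_class (ρ c.t) (rho_t_last hρ) rho_t_sq (rho_t_ne hρ) (rho_t_d hρ)
      with h | h | h
    · exact ⟨c.t, h⟩
    · refine ⟨c.t * c.d⁻¹, ?_⟩
      rw [map_mul, map_inv, hd, h]
      group
    · refine ⟨c.t * c.d⁻¹ * c.d⁻¹, ?_⟩
      rw [map_mul, map_mul, map_inv, hd, h]
      group
  obtain ⟨a, ha⟩ := key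
  obtain ⟨r1, r2, r3⟩ := T₀_rel
  have haa : a * a = 1 := hinj (by rw [map_mul, ha, r1, map_one])
  have hab : a * (a * c.y) = c.y := by rw [← mul_assoc, haa, one_mul]
  refine Pres168.nonempty_mulEquiv hG a (a * c.y) ?_ ?_ ?_ ?_ ?_ ?_ ?_
  · rw [pow_two, haa]
  · apply hinj
    rw [map_pow, map_mul, ha, hy, r2, map_one]
  · rw [hab, c.y_pow]
  · apply hinj
    rw [map_pow]
    simp only [map_mul]
    rw [ha, hy, r3, map_one]
  · intro h
    rw [h, map_one] at ha
    exact T₀_ne_one ha.symm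
  · intro h
    have h2 := congrArg ρ h
    rw [map_mul, ha, hy, map_one] at h2
    exact T₀_mul_Y₀_ne_one h2
  · rw [hab]
    intro h
    have := c.hy
    rw [h, orderOf_one] at this
    omega

end Cfg

/-- Iterating a conjugation that raises `x` to a power. -/
theorem conj_pow_pow {g x : G} {k : ℕ} (h : g * x * g⁻¹ = x ^ k) (e : ℕ) :
    g ^ e * x * (g ^ e)⁻¹ = x ^ (k ^ e) := by
  induction e with
  | zero => simp
  | succ e ih =>
    have h1 : g ^ (e + 1) * x * (g ^ (e + 1))⁻¹ = g * (g ^ e * x * (g ^ e)⁻¹) * g⁻¹ := by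
      rw [pow_succ']; group
    rw [h1, ih, ← conj_pow, h, ← pow_mul, pow_succ']

/-- In a simple group, a cyclic Sylow subgroup `⟨x⟩` has a normalising element not commuting
with `x` (Burnside's transfer theorem). -/
theorem exists_normalizer_not_comm [Finite G] [IsSimpleGroup G] (hG : ¬ (Nat.card G).Prime)
    (p : ℕ) [Fact p.Prime] (hp : p ∣ Nat.card G) (P : Sylow p G) (x : G)
    (hx : Subgroup.zpowers x = (P : Subgroup G)) :
    ∃ g ∈ Subgroup.normalizer (Subgroup.zpowers x : Set G), g * x * g⁻¹ ≠ x := by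
  have h := Lib.Helper17.not_normalizer_le_centralizer hG p hp P
  rw [← hx] at h
  obtain ⟨g, hgN, hgC⟩ := SetLike.not_le_iff_exists.1 h
  refine ⟨g, hgN, fun hc => hgC ?_⟩
  rw [Subgroup.mem_centralizer_iff]
  intro z hz
  have hcomm : Commute g x := by
    have h1 : g * x = g * x * g⁻¹ * g := by group
    have h2 : g * x = x * g := by rw [h1, hc]
    exact h2
  obtain ⟨m, rfl⟩ := Subgroup.mem_zpowers_iff.1 hz
  exact (hcomm.zpow_right m).symm.eq

/-- The power of an element of a finite subgroup by the order of the subgroup is trivial. -/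
theorem pow_card_of_mem {H : Subgroup G} {g : G} (hg : g ∈ H) {n : ℕ} (hn : Nat.card H = n) :
    g ^ n = 1 := by
  have h1 : (⟨g, hg⟩ : H) ^ Nat.card H = 1 := pow_card_eq_one'
  rw [hn] at h1
  exact congrArg Subtype.val h1

theorem arith7 : ∀ k < 7, k ^ 21 % 7 = 1 % 7 → k = 1 ∨ k = 2 ∨ k = 4 := by decide

theorem arith3 : ∀ k < 3, k ≠ 0 → k ≠ 1 → k = 2 := by decide

/-- A simple group of order 168 contains the configuration `Cfg`. -/
theorem exists_cfg [Finite G] [IsSimpleGroup G] (hG : Nat.card G = 168) : Nonempty (Cfg G) := by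
  have : Fact (Nat.Prime 7) := ⟨by norm_num⟩
  have : Fact (Nat.Prime 3) := ⟨Nat.prime_three⟩
  have hnp : ¬ (Nat.card G).Prime := by rw [hG]; norm_num
  obtain ⟨-, hs3, hs7⟩ := Cfsg.Agent.S1003.result hG
  -- the Sylow 7-subgroup
  obtain ⟨P⟩ : Nonempty (Sylow 7 G) := inferInstance
  have hP : Nat.card (P : Subgroup G) = 7 := by
    have := Lib.Helper17.card_sylow_eq_of_card_eq 7 1 24 (by rw [hG]; norm_num) (by decide) P
    simpa using this
  obtain ⟨y₀, hy₀⟩ := exists_prime_orderOf_dvd_card' (G := (P : Subgroup G)) 7 (by rw [hP])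
  set y : G := (y₀ : G) with hydef
  have hy : orderOf y = 7 := by rw [hydef, Subgroup.orderOf_coe, hy₀]
  have hyP : Subgroup.zpowers y = (P : Subgroup G) := by
    apply Subgroup.eq_of_le_of_card_ge ((Subgroup.zpowers_le).2 y₀.2)
    rw [Nat.card_zpowers, hy, hP]
  have hy7 : y ^ 7 = 1 := by rw [← hy]; exact pow_orderOf_eq_one _
  have hN : Nat.card (Subgroup.normalizer (Subgroup.zpowers y : Set G)) = 21 := by
    have h1 := Lib.Helper17.card_sylow_mul_card_normalizer 7 P
    rw [hs7, hG, ← hyP] at h1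
    omega
  -- an element of the normaliser acting non-trivially
  obtain ⟨g, hgN, hgy⟩ := exists_normalizer_not_comm hnp 7 (by rw [hG]; norm_num) P y hyP
  have hg1 : g * y * g⁻¹ ∈ Subgroup.zpowers y :=
    (Subgroup.mem_normalizer_iff.1 hgN y).1 (Subgroup.mem_zpowers y)
  obtain ⟨k, hk7, hk⟩ := exists_pow_of_mem_zpowers hy (by norm_num) hg1
  have hg21 : g ^ 21 = 1 := pow_card_of_mem hgN hN
  have hk21 : k ^ 21 % 7 = 1 % 7 := by
    have h1 := conj_pow_pow hk 21
    rw [hg21] at h1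
    have h2 : y ^ (k ^ 21) = y ^ 1 := by
      rw [← h1]; simp
    have h3 := (pow_eq_pow_iff_modEq).1 h2
    rw [hy] at h3
    exact h3
  have hk1 : k ≠ 1 := by
    rintro rfl
    rw [pow_one] at hk
    exact hgy hk
  -- an element `d` with `d y d⁻¹ = y²`
  have hd : ∃ d ∈ Subgroup.normalizer (Subgroup.zpowers y : Set G), d * y * d⁻¹ = y ^ 2 ∧
      d ^ 3 = 1 := by
    rcases arith7 k hk7 hk21 with rfl | rfl | rfl
    · exact absurd rfl hk1
    · refine ⟨g ^ 7, pow_mem hgN 7, ?_, ?_⟩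
      · rw [conj_pow_pow hk 7, pow_eq_pow_iff_modEq, hy]
        decide
      · rw [← pow_mul, hg21]
    · refine ⟨g ^ 14, pow_mem hgN 14, ?_, ?_⟩
      · rw [conj_pow_pow hk 14, pow_eq_pow_iff_modEq, hy]
        decide
      · rw [← pow_mul]
        have : g ^ (14 * 3) = (g ^ 21) ^ 2 := by rw [← pow_mul]
        rw [this, hg21, one_pow]
  obtain ⟨d, hdN, hdy, hd3⟩ := hd
  have hyne : y ^ 2 ≠ y := by
    intro h
    have h2 : y ^ 2 = y ^ 1 := by rw [h, pow_one]
    have h3 := (pow_eq_pow_iff_modEq).1 h2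
    rw [hy] at h3
    revert h3
    decide
  have hd1 : d ≠ 1 := by
    rintro rfl
    apply hyne
    rw [← hdy]
    simp
  have hdo : orderOf d = 3 := orderOf_eq_prime hd3 hd1
  -- `⟨d⟩` is a Sylow 3-subgroup
  have hpg : IsPGroup 3 (Subgroup.zpowers d) :=
    IsPGroup.of_card (n := 1) (by rw [Nat.card_zpowers, hdo, pow_one])
  obtain ⟨Q, hQ⟩ := hpg.exists_le_sylow
  have hQc : Nat.card (Q : Subgroup G) = 3 := by
    have := Lib.Helper17.card_sylow_eq_of_card_eq 3 1 56 (by rw [hG]; norm_num) (by decide) Q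
    simpa using this
  have hdQ : Subgroup.zpowers d = (Q : Subgroup G) := by
    apply Subgroup.eq_of_le_of_card_ge hQ
    rw [Nat.card_zpowers, hdo, hQc]
  have hNQ : Nat.card (Subgroup.normalizer (Subgroup.zpowers d : Set G)) = 6 := by
    have h1 := Lib.Helper17.card_sylow_mul_card_normalizer 3 Q
    rw [hs3, hG, ← hdQ] at h1
    omega
  obtain ⟨s, hsN, hsd⟩ := exists_normalizer_not_comm hnp 3 (by rw [hG]; norm_num) Q d hdQ
  have hs1 : s * d * s⁻¹ ∈ Subgroup.zpowers d :=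
    (Subgroup.mem_normalizer_iff.1 hsN d).1 (Subgroup.mem_zpowers d)
  obtain ⟨j, hj3, hj⟩ := exists_pow_of_mem_zpowers hdo (by norm_num) hs1
  have hs6 : s ^ 6 = 1 := pow_card_of_mem hsN hNQ
  have hj0 : j ≠ 0 := by
    rintro rfl
    rw [pow_zero] at hj
    apply hd1
    have h1 : d = s⁻¹ * (s * d * s⁻¹) * s := by group
    rw [h1, hj]
    group
  have hj1 : j ≠ 1 := by
    rintro rfl
    rw [pow_one] at hj
    exact hsd hj
  have hj2 : j = 2 := arith3 j hj3 hj0 hj1
  subst hj2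
  have hdinv : d ^ 2 = d⁻¹ := by
    apply eq_inv_of_mul_eq_one_left
    rw [← pow_succ, hd3]
  -- the involution
  set t : G := s ^ 3 with htdef
  have ht2 : t ^ 2 = 1 := by rw [htdef, ← pow_mul, hs6]
  have htc : t * d * t⁻¹ = d⁻¹ := by
    rw [htdef, conj_pow_pow hj 3, ← hdinv, pow_eq_pow_iff_modEq, hdo]
    decide
  have ht1 : t ≠ 1 := by
    intro h
    rw [h] at htc
    have h2 : d = d⁻¹ := by simpa using htc
    apply hd1
    have h3 : d * d = 1 := by
      have h4 := mul_inv_cancel d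
      rwa [← h2] at h4
    have h5 : d = d ^ 3 * (d * d)⁻¹ := by group
    rw [h5, hd3, h3]
    simp
  have hto : orderOf t = 2 := orderOf_eq_prime ht2 ht1
  have htinv : t⁻¹ = t := by
    apply inv_eq_of_mul_eq_one_left
    rw [← pow_two, ht2]
  refine ⟨⟨y, d, t, hy, hN, hdN, hdy, hto, ?_⟩⟩
  rw [htinv] at htc
  exact htc

/-- A simple group of order 168 is isomorphic to the group presented by `Pres168.rels`. -/
theorem nonempty_presented_mulEquiv [Finite G] [IsSimpleGroup G] (hG : Nat.card G = 168) :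
    Nonempty (PresentedGroup Pres168.rels ≃* G) := by
  obtain ⟨c⟩ := exists_cfg hG
  exact Cfg.nonempty_mulEquiv hG c

end

end Cfsg.Agent.Lib.Helper5.Simple168
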