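import Mathlib
import Cfsg.Agent.Lib.Helper5.A6Data
import Cfsg.Agent.Lib.Helper5.OrbitHom
import Cfsg.Agent.Lib.Helper5.Tri
import Cfsg.Agent.Lib.Helper5.PSL2
import Cfsg.Agent.Lib.Helper5.Simple168

set_option autoImplicit false

/-!
A simple group of order 360 containing the configuration `Cfg` (a Sylow 3-normaliser `3² : 4`
together with an element normalising the cyclic group of order 4 and moving the Sylow
3-subgroup) is isomorphic to `A₆`: the action on the ten cosets of the normaliser is computed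
explicitly, and a pair of generators of a subgroup `A₅` of index 6 is exhibited.
-/

namespace Cfsg.Agent.Lib.Helper5.A6

open Equiv

variable {G : Type*} [Group G]

/-- The configuration found in a simple group of order 360. -/
structure Cfg (G : Type*) [Group G] where
  /-- A Sylow 3-subgroup. -/
  P : Sylow 3 G
  /-- First generator of `P`. -/
  a : G
  /-- Second generator of `P`. -/
  b : G
  /-- An element of order 4 of the normaliser. -/
  h : G
  /-- An element normalising `⟨h⟩` outside the normaliser of `P`. -/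
  t : G
  hN : Nat.card (Subgroup.normalizer ((P : Subgroup G) : Set G)) = 36
  haP : a ∈ (P : Subgroup G)
  hbP : b ∈ (P : Subgroup G)
  ha3 : a ^ 3 = 1
  hb3 : b ^ 3 = 1
  hab : a * b = b * a
  ha1 : a ≠ 1
  hb1 : b ≠ 1
  hba : b ≠ a
  hbai : b ≠ a⁻¹
  hho : orderOf h = 4
  hhN : h ∈ Subgroup.normalizer ((P : Subgroup G) : Set G)
  hha : h * a * h⁻¹ = b
  hhb : h * b * h⁻¹ = a⁻¹
  htN : t ∉ Subgroup.normalizer ((P : Subgroup G) : Set G)
  hth : t * h * t⁻¹ = h ∨ t * h * t⁻¹ = h⁻¹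
  htt : t * t ∈ Subgroup.normalizer ((P : Subgroup G) : Set G)
  reg : ∀ x ∈ (P : Subgroup G),
    x • ((t : G) : G ⧸ Subgroup.normalizer ((P : Subgroup G) : Set G)) = (t : G) → x = 1
  stab : ∀ w ∈ Subgroup.normalizer ((P : Subgroup G) : Set G),
    w • ((t : G) : G ⧸ Subgroup.normalizer ((P : Subgroup G) : Set G)) = (t : G) →
      w ∈ Subgroup.zpowers h

namespace Cfg

variable (c : Cfg G)

/-- The normaliser of `P`. -/
abbrev N : Subgroup G := Subgroup.normalizer ((c.P : Subgroup G) : Set G)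

/-- The element `a^i b^j` of `P`. -/
def e (i j : ℕ) : G := c.a ^ i * c.b ^ j

theorem e_mem_P (i j : ℕ) : c.e i j ∈ (c.P : Subgroup G) :=
  mul_mem (pow_mem c.haP i) (pow_mem c.hbP j)

theorem e_mem (i j : ℕ) : c.e i j ∈ c.N := Subgroup.le_normalizer (c.e_mem_P i j)

theorem a_inv : c.a⁻¹ = c.a ^ 2 := by
  apply inv_eq_of_mul_eq_one_right
  rw [← pow_succ', c.ha3]

theorem a_pow_mod (i : ℕ) : c.a ^ (i % 3) = c.a ^ i := by
  conv_rhs => rw [← Nat.div_add_mod i 3, pow_add, pow_mul, c.ha3, one_pow, one_mul]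

theorem b_pow_mod (i : ℕ) : c.b ^ (i % 3) = c.b ^ i := by
  conv_rhs => rw [← Nat.div_add_mod i 3, pow_add, pow_mul, c.hb3, one_pow, one_mul]

theorem e_mod (i j : ℕ) : c.e (i % 3) (j % 3) = c.e i j := by
  unfold e
  rw [c.a_pow_mod, c.b_pow_mod]

theorem comm_pow (i j : ℕ) : c.a ^ i * c.b ^ j = c.b ^ j * c.a ^ i :=
  (Commute.pow_pow (show Commute c.a c.b from c.hab) i j).eq

theorem e_mul (i j i' j' : ℕ) : c.e i j * c.e i' j' = c.e (i + i') (j + j') := by
  unfold e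
  rw [pow_add, pow_add]
  calc c.a ^ i * c.b ^ j * (c.a ^ i' * c.b ^ j')
      = c.a ^ i * (c.b ^ j * c.a ^ i') * c.b ^ j' := by group
    _ = c.a ^ i * (c.a ^ i' * c.b ^ j) * c.b ^ j' := by rw [c.comm_pow i' j]
    _ = c.a ^ i * c.a ^ i' * (c.b ^ j * c.b ^ j') := by group

theorem a_sq_inv : (c.a ^ 2)⁻¹ = c.a := by
  rw [← c.a_inv, inv_inv]

theorem e_eq_one {i j : ℕ} (hi : i < 3) (hj : j < 3) (h : c.e i j = 1) : i = 0 ∧ j = 0 := by
  unfold e at h
  have hb2 : c.b = (c.b ^ 2) ^ 2 * (c.b ^ 3)⁻¹ := by group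
  interval_cases i <;> interval_cases j
  · exact ⟨rfl, rfl⟩
  · exfalso
    exact c.hb1 (by simpa using h)
  · exfalso
    apply c.hb1
    have h2 : c.b ^ 2 = 1 := by simpa using h
    rw [hb2, h2, c.hb3]
    simp
  · exfalso
    exact c.ha1 (by simpa using h)
  · exfalso
    apply c.hbai
    rw [pow_one, pow_one] at h
    exact eq_inv_of_mul_eq_one_right h
  · exfalso
    apply c.hba
    rw [pow_one] at h
    have h2 : c.b ^ 2 = c.a⁻¹ := eq_inv_of_mul_eq_one_right h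
    rw [hb2, h2, c.hb3, c.a_inv, ← pow_mul]
    have : c.a ^ (2 * 2) = c.a ^ 3 * c.a := by rw [← pow_succ]
    rw [this, c.ha3]
    simp
  · exfalso
    apply c.ha1
    have h2 : c.a ^ 2 = 1 := by simpa using h
    have : c.a = c.a ^ 3 * (c.a ^ 2)⁻¹ := by group
    rw [this, c.ha3, h2]
    simp
  · exfalso
    apply c.hba
    rw [pow_one] at h
    have h2 : c.b = (c.a ^ 2)⁻¹ := eq_inv_of_mul_eq_one_right h
    rw [h2, c.a_sq_inv]
  · exfalso
    apply c.hbai
    have h2 : c.b ^ 2 = (c.a ^ 2)⁻¹ := eq_inv_of_mul_eq_one_right h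
    rw [c.a_sq_inv] at h2
    rw [hb2, h2, c.hb3, c.a_inv]
    simp

theorem e_inj {i j i' j' : ℕ} (hi : i < 3) (hj : j < 3) (hi' : i' < 3) (hj' : j' < 3)
    (h : c.e i j = c.e i' j') : i = i' ∧ j = j' := by
  have h1 : c.e i j * c.e (2 * i') (2 * j') = 1 := by
    rw [h, c.e_mul, ← c.e_mod]
    have e1 : (i' + 2 * i') % 3 = 0 := by omega
    have e2 : (j' + 2 * j') % 3 = 0 := by omega
    rw [e1, e2]
    simp [e]
  rw [c.e_mul, ← c.e_mod] at h1
  have h2 := c.e_eq_one (Nat.mod_lt _ (by norm_num)) (Nat.mod_lt _ (by norm_num)) h1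
  omega

theorem t_conj : c.t⁻¹ * c.h * c.t = c.h ∨ c.t⁻¹ * c.h * c.t = c.h⁻¹ := by
  rcases c.hth with h | h
  · left
    have : c.t⁻¹ * c.h * c.t = c.t⁻¹ * (c.t * c.h * c.t⁻¹) * c.t := by rw [h]
    rw [this]
    group
  · right
    have h' : c.h = c.t * c.h⁻¹ * c.t⁻¹ := by
      have h2 := congrArg Inv.inv h
      rw [inv_inv] at h2
      conv_lhs => rw [← h2]
      group
    calc c.t⁻¹ * c.h * c.t = c.t⁻¹ * (c.t * c.h⁻¹ * c.t⁻¹) * c.t := by rw [← h']
      _ = c.h⁻¹ := by group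

theorem t_conj_mem : c.t⁻¹ * c.h * c.t ∈ c.N := by
  rcases c.t_conj with h | h
  · rw [h]; exact c.hhN
  · rw [h]; exact inv_mem c.hhN

/-- The labelling of the cosets of `N` by the projective line over `𝔽₉`. -/
noncomputable def pt (i : Fin 10) : G ⧸ c.N :=
  if i = 9 then ((1 : G) : G ⧸ c.N) else ((c.e (i.val / 3) (i.val % 3) * c.t : G) : G ⧸ c.N)

theorem pt_last : c.pt 9 = ((1 : G) : G ⧸ c.N) := if_pos rfl

theorem pt_of_ne {i : Fin 10} (hi : i ≠ 9) :
    c.pt i = ((c.e (i.val / 3) (i.val % 3) * c.t : G) : G ⧸ c.N) := if_neg hi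

theorem lt_nine {i : Fin 10} (hi : i ≠ 9) : (i : ℕ) < 9 := by
  have h1 := i.isLt
  have h2 : (i : ℕ) ≠ 9 := fun h => hi (Fin.ext h)
  omega

theorem pt_mk (i j : ℕ) :
    c.pt ⟨3 * (i % 3) + j % 3, by omega⟩ = ((c.e i j * c.t : G) : G ⧸ c.N) := by
  have hne : (⟨3 * (i % 3) + j % 3, by omega⟩ : Fin 10) ≠ 9 := by
    intro h
    have := congrArg Fin.val h
    simp at this
    omega
  rw [c.pt_of_ne hne]
  have h1 : (3 * (i % 3) + j % 3) / 3 = i % 3 := by omega
  have h2 : (3 * (i % 3) + j % 3) % 3 = j % 3 := by omega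
  simp only [h1, h2, c.e_mod]

theorem pt_zero : c.pt 0 = ((c.t : G) : G ⧸ c.N) := by
  have h0 : (0 : Fin 10) ≠ 9 := by decide
  rw [c.pt_of_ne h0]
  simp [e]

theorem pt_ne_last {i : Fin 10} (hi : i ≠ 9) : c.pt i ≠ c.pt 9 := by
  intro h
  rw [c.pt_last, c.pt_of_ne hi, QuotientGroup.eq] at h
  apply c.htN
  have h2 := c.N.mul_mem (c.N.inv_mem (c.e_mem (i.val / 3) (i.val % 3))) (c.N.inv_mem h)
  have h3 : (c.e (i.val / 3) (i.val % 3))⁻¹ * ((c.e (i.val / 3) (i.val % 3) * c.t)⁻¹ * 1)⁻¹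
      = c.t := by group
  rwa [h3] at h2

theorem pt_injective : Function.Injective c.pt := by
  intro i j hij
  by_cases hi : i = 9
  · by_cases hj : j = 9
    · rw [hi, hj]
    · exfalso
      rw [hi] at hij
      exact c.pt_ne_last hj hij.symm
  · by_cases hj : j = 9
    · exfalso
      rw [hj] at hij
      exact c.pt_ne_last hi hij
    · rw [c.pt_of_ne hi, c.pt_of_ne hj] at hij
      have hi' := lt_nine hi
      have hj' := lt_nine hj
      set x := c.e (i.val / 3) (i.val % 3) with hx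
      set y := c.e (j.val / 3) (j.val % 3) with hy
      have h1 : (y⁻¹ * x) • ((c.t : G) : G ⧸ c.N) = (c.t : G) := by
        rw [mul_smul, MulAction.Quotient.smul_coe, smul_eq_mul, hij,
          ← smul_eq_mul, ← MulAction.Quotient.smul_coe, inv_smul_smul]
      have h2 := c.reg _ (mul_mem (inv_mem (c.e_mem_P _ _)) (c.e_mem_P _ _)) h1
      have h3 : x = y := (inv_mul_eq_one.1 h2).symm
      have h4 := c.e_inj (by omega) (Nat.mod_lt _ (by norm_num)) (by omega)
        (Nat.mod_lt _ (by norm_num)) h3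
      apply Fin.ext
      omega

theorem index_N [Finite G] (hG : Nat.card G = 360) : c.N.index = 10 := by
  have h := c.N.card_mul_index
  rw [c.hN, hG] at h
  omega

theorem pt_bijective [Finite G] (hG : Nat.card G = 360) : Function.Bijective c.pt := by
  apply c.pt_injective.bijective_of_nat_card_le
  rw [Nat.card_fin]
  have h : Nat.card (G ⧸ c.N) = 10 := c.index_N hG
  rw [h]

/-- The permutation representation on the projective line. -/
theorem exists_rho [Finite G] (hG : Nat.card G = 360) :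
    ∃ ρ : G →* Perm (Fin 10), ∀ g i, c.pt (ρ g i) = g • c.pt i := by
  apply exists_permHom c.pt c.pt_injective
  intro g i
  obtain ⟨j, hj⟩ := (c.pt_bijective hG).2 (g • c.pt i)
  exact ⟨j, hj.symm⟩

/-- `h a^i b^j = a^(2j) b^i h`. -/
theorem h_mul_e (i j : ℕ) : c.h * c.e i j = c.e (2 * j) i * c.h := by
  unfold e
  have h1 : c.h * (c.a ^ i * c.b ^ j)
      = (c.h * c.a * c.h⁻¹) ^ i * (c.h * c.b * c.h⁻¹) ^ j * c.h := by
    rw [conj_pow, conj_pow]
    group
  rw [h1, c.hha, c.hhb, c.a_inv, ← pow_mul, ← c.comm_pow]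

section rho

variable {c}
variable {ρ : G →* Perm (Fin 10)} (hρ : ∀ g i, c.pt (ρ g i) = g • c.pt i)

include hρ

theorem rho_a : ρ c.a = A₀ := by
  ext i
  apply congrArg Fin.val
  apply c.pt_injective
  rw [hρ]
  by_cases hi : i = 9
  · rw [hi, A₀_last, c.pt_last, MulAction.Quotient.smul_coe, QuotientGroup.eq]
    simpa using c.N.inv_mem (Subgroup.le_normalizer c.haP)
  · have h1 : A₀ i = ⟨3 * ((i.val / 3 + 1) % 3) + (i.val % 3) % 3, by omega⟩ :=
      Fin.ext (A₀_val i hi)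
    rw [h1, c.pt_mk, c.pt_of_ne hi, MulAction.Quotient.smul_coe]
    congr 1
    rw [smul_eq_mul, ← mul_assoc]
    congr 1
    unfold e
    rw [pow_succ', mul_assoc]

theorem rho_b : ρ c.b = B₀ := by
  ext i
  apply congrArg Fin.val
  apply c.pt_injective
  rw [hρ]
  by_cases hi : i = 9
  · rw [hi, B₀_last, c.pt_last, MulAction.Quotient.smul_coe, QuotientGroup.eq]
    simpa using c.N.inv_mem (Subgroup.le_normalizer c.hbP)
  · have h1 : B₀ i = ⟨3 * ((i.val / 3) % 3) + (i.val % 3 + 1) % 3, by omega⟩ :=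
      Fin.ext (B₀_val i hi)
    rw [h1, c.pt_mk, c.pt_of_ne hi, MulAction.Quotient.smul_coe]
    congr 1
    rw [smul_eq_mul, ← mul_assoc]
    congr 1
    unfold e
    calc c.b * (c.a ^ (i.val / 3) * c.b ^ (i.val % 3))
        = (c.b ^ 1 * c.a ^ (i.val / 3)) * c.b ^ (i.val % 3) := by rw [pow_one, mul_assoc]
      _ = (c.a ^ (i.val / 3) * c.b ^ 1) * c.b ^ (i.val % 3) := by rw [c.comm_pow]
      _ = c.a ^ (i.val / 3) * c.b ^ (i.val % 3 + 1) := by rw [mul_assoc, ← pow_add, add_comm]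

theorem rho_h : ρ c.h = H₀ := by
  ext i
  apply congrArg Fin.val
  apply c.pt_injective
  rw [hρ]
  by_cases hi : i = 9
  · rw [hi, H₀_last, c.pt_last, MulAction.Quotient.smul_coe, QuotientGroup.eq]
    simpa using c.N.inv_mem c.hhN
  · have h1 : H₀ i = ⟨3 * ((2 * (i.val % 3)) % 3) + (i.val / 3) % 3, by omega⟩ :=
      Fin.ext (H₀_val i hi)
    rw [h1, c.pt_mk, c.pt_of_ne hi, MulAction.Quotient.smul_coe, QuotientGroup.eq, smul_eq_mul]
    have h3 : c.h * (c.e (i.val / 3) (i.val % 3) * c.t)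
        = c.e (2 * (i.val % 3)) (i.val / 3) * c.h * c.t := by
      rw [← mul_assoc, c.h_mul_e]
    have h2 : (c.e (2 * (i.val % 3)) (i.val / 3) * c.h * c.t)⁻¹
        * (c.e (2 * (i.val % 3)) (i.val / 3) * c.t) = (c.t⁻¹ * c.h * c.t)⁻¹ := by group
    rw [h3, h2]
    exact inv_mem c.t_conj_mem

theorem rho_e (i j : ℕ) : ρ (c.e i j) = A₀ ^ i * B₀ ^ j := by
  unfold e
  rw [map_mul, map_pow, map_pow, rho_a hρ, rho_b hρ]

theorem rho_t_last : ρ c.t 9 = 0 := by
  apply c.pt_injective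
  rw [hρ, c.pt_last, MulAction.Quotient.smul_coe, c.pt_zero]
  simp

theorem rho_t_zero : ρ c.t 0 = 9 := by
  apply c.pt_injective
  rw [hρ, c.pt_last, c.pt_zero, MulAction.Quotient.smul_coe, QuotientGroup.eq, smul_eq_mul]
  simpa using c.N.inv_mem c.htt

omit hρ in
theorem rho_t_H : ρ c.t * ρ c.h = ρ c.h * ρ c.t ∨ ρ c.t * ρ c.h = (ρ c.h)⁻¹ * ρ c.t := by
  rcases c.hth with h | h
  · left
    rw [← map_mul, ← map_mul]
    congr 1
    exact mul_inv_eq_iff_eq_mul.1 h
  · right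
    rw [← map_inv, ← map_mul, ← map_mul]
    congr 1
    exact mul_inv_eq_iff_eq_mul.1 h

theorem rho_N {w : G} (hw : w ∈ c.N) :
    ∃ (m : Fin 10) (k : Fin 4), ∀ z, ρ w z = trF m (hF k z) := by
  have h9 : ρ w 9 = 9 := by
    apply c.pt_injective
    rw [hρ, c.pt_last, MulAction.Quotient.smul_coe, QuotientGroup.eq]
    simpa using c.N.inv_mem hw
  have hm : ρ w 0 ≠ 9 := by
    intro h
    have := (ρ w).injective (h.trans h9.symm)
    exact absurd this (by decide)
  obtain ⟨m, hmdef⟩ : ∃ m, m = ρ w 0 := ⟨_, rfl⟩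
  rw [← hmdef] at hm
  obtain ⟨y, hy⟩ : ∃ y, y = c.e (m.val / 3) (m.val % 3) := ⟨_, rfl⟩
  have h1 : w • ((c.t : G) : G ⧸ c.N) = y • ((c.t : G) : G ⧸ c.N) := by
    have e1 : w • c.pt 0 = c.pt m := by rw [hmdef, hρ]
    rw [c.pt_zero, c.pt_of_ne hm, ← hy] at e1
    rw [e1, MulAction.Quotient.smul_coe, smul_eq_mul]
  have h2 : (y⁻¹ * w) • ((c.t : G) : G ⧸ c.N) = (c.t : G) := by
    rw [mul_smul, h1, inv_smul_smul]
  have hyN : y ∈ c.N := by rw [hy]; exact c.e_mem _ _
  have h3 := c.stab _ (mul_mem (inv_mem hyN) hw) h2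
  obtain ⟨k, hk4, hk⟩ := Simple168.exists_pow_of_mem_zpowers c.hho (by norm_num) h3
  have hw' : w = y * c.h ^ k := by rw [← hk]; group
  refine ⟨m, ⟨k, hk4⟩, fun z => ?_⟩
  rw [hw', map_mul, map_pow, rho_h hρ, hy, rho_e hρ, Perm.mul_apply, tr_eq m hm,
    show (H₀ ^ k) z = hF ⟨k, hk4⟩ z from hF_eq ⟨k, hk4⟩ z]

theorem rho_t_class : ∃ k : Fin 4, ∀ z, ρ c.t z = fT (hF k z) := by
  obtain ⟨T, hT⟩ : ∃ T, T = ρ c.t := ⟨_, rfl⟩
  rw [← hT]
  have h9 : T 9 = 0 := by rw [hT]; exact rho_t_last hρ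
  have h0 : T 0 = 9 := by rw [hT]; exact rho_t_zero hρ
  obtain ⟨ε, hε⟩ : ∃ ε : Bool, ∀ z, T (H₀ z) = (if ε then fH else fH') (T z) := by
    rcases rho_t_H (c := c) (ρ := ρ) with h | h
    · refine ⟨true, fun z => ?_⟩
      have h1 := congrArg (fun σ : Perm (Fin 10) => σ z) h
      simp only [Perm.mul_apply, rho_h hρ, ← hT] at h1
      rw [h1]
      rfl
    · refine ⟨false, fun z => ?_⟩
      have h1 := congrArg (fun σ : Perm (Fin 10) => σ z) h
      simp only [Perm.mul_apply, rho_h hρ, ← hT] at h1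
      rw [h1]
      rfl
  have e6 : T 6 = (if ε then fH else fH') (T 1) := by
    have h1 := hε 1
    rwa [H₀_one] at h1
  have e2 : T 2 = (if ε then fH else fH') ((if ε then fH else fH') (T 1)) := by
    have h1 := hε 6
    rwa [H₀_six, e6] at h1
  have e3 : T 3 = (if ε then fH else fH') ((if ε then fH else fH')
      ((if ε then fH else fH') (T 1))) := by
    have h1 := hε 2
    rwa [H₀_two, e2] at h1
  have e7 : T 7 = (if ε then fH else fH') (T 4) := by
    have h1 := hε 4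
    rwa [H₀_four] at h1
  have e8 : T 8 = (if ε then fH else fH') ((if ε then fH else fH') (T 4)) := by
    have h1 := hε 7
    rwa [H₀_seven, e7] at h1
  have e5 : T 5 = (if ε then fH else fH') ((if ε then fH else fH')
      ((if ε then fH else fH') (T 4))) := by
    have h1 := hε 8
    rwa [H₀_eight, e8] at h1
  have hcand : ∀ z, T z = candF ε (T 1) (T 4) z := by
    intro z
    fin_cases z
    · exact h0
    · rfl
    · exact e2
    · exact e3
    · rfl
    · exact e5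
    · exact e6
    · exact e7
    · exact e8
    · exact h9
  have hm : T 3 ≠ 9 := by
    intro h
    have := T.injective (h.trans h0.symm)
    exact absurd this (by decide)
  obtain ⟨m, hmdef⟩ : ∃ m, m = T 3 := ⟨_, rfl⟩
  rw [← hmdef] at hm
  obtain ⟨y, hy⟩ : ∃ y, y = c.e (m.val / 3) (m.val % 3) := ⟨_, rfl⟩
  have hpt3 : c.pt 3 = ((c.a * c.t : G) : G ⧸ c.N) := by
    have h3 : (3 : Fin 10) ≠ 9 := by decide
    rw [c.pt_of_ne h3]
    have e1 : ((3 : Fin 10) : ℕ) / 3 = 1 := rfl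
    have e2 : ((3 : Fin 10) : ℕ) % 3 = 0 := rfl
    rw [e1, e2]
    simp [e]
  have h1 : ((y * c.t : G) : G ⧸ c.N) = ((c.t * (c.a * c.t) : G) : G ⧸ c.N) := by
    rw [hy, ← c.pt_of_ne hm, hmdef, hT, hρ, hpt3, MulAction.Quotient.smul_coe, smul_eq_mul]
  rw [QuotientGroup.eq] at h1
  obtain ⟨w, hw⟩ : ∃ w, w = (y * c.t)⁻¹ * (c.t * (c.a * c.t)) := ⟨_, rfl⟩
  rw [← hw] at h1
  obtain ⟨m', k, hmk⟩ := rho_N hρ h1
  have hrel : c.t * c.a * c.t = y * c.t * w := by rw [hw]; group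
  have hrel2 : ∀ z, T (fA (T z)) = trF m (T (trF m' (hF k z))) := by
    intro z
    have h2 := congrArg (fun g => ρ g z) hrel
    simp only [map_mul, Perm.mul_apply] at h2
    rw [hmk, rho_a hρ, ← hT] at h2
    rw [hy, rho_e hρ, tr_eq m hm] at h2
    exact h2
  have hkey := cand_class ε (T 1) (T 4) ⟨m', k, fun z => by
    rw [← hcand, ← hcand, ← hcand, ← hcand, ← hmdef]
    exact hrel2 z⟩
  obtain ⟨k', hk'⟩ := hkey
  exact ⟨k', fun z => by rw [hcand z, hk' z]⟩

theorem rho_injective [IsSimpleGroup G] : Function.Injective ρ := by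
  rw [← MonoidHom.ker_eq_bot_iff]
  rcases (MonoidHom.normal_ker ρ).eq_bot_or_eq_top with h | h
  · exact h
  · exfalso
    have h1 : c.a ∈ ρ.ker := by rw [h]; trivial
    rw [MonoidHom.mem_ker, rho_a hρ] at h1
    exact A₀_ne_one h1

end rho

/-- A simple group of order 360 containing the configuration is isomorphic to `A₆`. -/
theorem nonempty_mulEquiv [Finite G] [IsSimpleGroup G] (hG : Nat.card G = 360) (c : Cfg G) :
    Nonempty (G ≃* alternatingGroup (Fin 6)) := by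
  classical
  obtain ⟨ρ, hρ⟩ := c.exists_rho hG
  have hinj : Function.Injective ρ := rho_injective hρ
  obtain ⟨k, hk⟩ := rho_t_class hρ
  have hT : ρ (c.t * (c.h ^ (k : ℕ))⁻¹) = T₀ := by
    have h1 : ρ c.t = T₀ * H₀ ^ (k : ℕ) := by
      ext z
      apply congrArg Fin.val
      rw [hk z, Perm.mul_apply, hF_eq]
      rfl
    rw [map_mul, map_inv, map_pow, rho_h hρ, h1]
    group
  have hv : ρ (c.a * c.b) = A₀ * B₀ := by rw [map_mul, rho_a hρ, rho_b hρ]
  have hu2 : (c.t * (c.h ^ (k : ℕ))⁻¹) ^ 2 = 1 :=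
    hinj (by rw [map_pow, hT, map_one]; exact T₀_sq)
  have hv3 : (c.a * c.b) ^ 3 = 1 := hinj (by rw [map_pow, hv, map_one]; exact AB_cu)
  have huv : (c.t * (c.h ^ (k : ℕ))⁻¹ * (c.a * c.b)) ^ 5 = 1 :=
    hinj (by rw [map_pow, map_mul, hT, hv, map_one]; exact TAB_pow)
  have hu1 : c.t * (c.h ^ (k : ℕ))⁻¹ ≠ 1 := fun h => T₀_ne_one (by rw [← hT, h, map_one])
  obtain ⟨H, ⟨eH⟩⟩ := Tri.exists_A5_subgroup _ _ hu2 hv3 huv hu1
  have hH60 : Nat.card H = 60 := by
    rw [Nat.card_congr eH.toEquiv, nat_card_alternatingGroup, Nat.card_eq_fintype_card,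
      Fintype.card_fin]
    rfl
  have hidx : H.index = 6 := by
    have h1 := H.card_mul_index
    rw [hH60, hG] at h1
    omega
  have : Fintype (G ⧸ H) := Fintype.ofFinite _
  have hcore : H.normalCore = ⊥ := by
    rcases (Subgroup.normalCore_normal H).eq_bot_or_eq_top with h | h
    · exact h
    · exfalso
      have h1 : H = ⊤ := top_le_iff.1 (h ▸ Subgroup.normalCore_le H)
      rw [h1, Subgroup.card_top, hG] at hH60
      omega
  have hinj' : Function.Injective (MulAction.toPermHom G (G ⧸ H)) := by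
    rw [← MonoidHom.ker_eq_bot_iff, ← Subgroup.normalCore_eq_ker]
    exact hcore
  have hcard : Fintype.card (G ⧸ H) = 6 := by
    rw [← Nat.card_eq_fintype_card]
    exact hidx
  exact nonempty_mulEquiv_alternatingGroup_of_card _ hinj' 6 hcard (by rw [hG]; rfl)

end Cfg

end Cfsg.Agent.Lib.Helper5.A6
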