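import Mathlib
import Cfsg.Agent.S1009
import Cfsg.Agent.Lib.Helper17.Simple
import Cfsg.Agent.Lib.Helper17.Small
import Cfsg.Agent.Lib.Helper17.Involution
import Cfsg.Agent.Lib.Helper5.A6Cfg

set_option autoImplicit false

/-!
Local structure of a simple group of order 360: the normaliser `N` of a Sylow 3-subgroup `P` has
order 36, `P` is elementary abelian, acts regularly on the nine cosets of `N` other than `N`
itself, and `N = P ⋊ ⟨h⟩` with `h` of order 4 acting on `P` like the multiplication by `i` on `𝔽₉`.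
-/

namespace Cfsg.Agent.Lib.Helper5.A6

open Cfsg.Agent.Lib.Helper17

variable {G : Type*} [Group G]

theorem fact3 : Fact (Nat.Prime 3) := ⟨Nat.prime_three⟩

theorem fact2 : Fact (Nat.Prime 2) := ⟨Nat.prime_two⟩

attribute [local instance] fact3 fact2

section sylow

variable [Finite G] [IsSimpleGroup G]

omit [Group G] [Finite G] [IsSimpleGroup G] in
theorem not_prime_360 (hG : Nat.card G = 360) : ¬ (Nat.card G).Prime := by
  rw [hG]; norm_num

omit [IsSimpleGroup G] in
theorem card_sylow3 (hG : Nat.card G = 360) (P : Sylow 3 G) : Nat.card (P : Subgroup G) = 9 := by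
  have := card_sylow_eq_of_card_eq (G := G) 3 2 40 (by rw [hG]; norm_num) (by norm_num) P
  simpa using this

omit [IsSimpleGroup G] in
theorem isMulCommutative_sylow3 (hG : Nat.card G = 360) (P : Sylow 3 G) :
    IsMulCommutative (P : Subgroup G) :=
  IsPGroup.isMulCommutative_of_card_eq_prime_sq (p := 3)
    (by rw [card_sylow3 hG P]; norm_num)

omit [IsSimpleGroup G] in
theorem comm_sylow3 (hG : Nat.card G = 360) (P : Sylow 3 G) {x y : G}
    (hx : x ∈ (P : Subgroup G)) (hy : y ∈ (P : Subgroup G)) : x * y = y * x := by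
  have h := isMulCommutative_sylow3 hG P
  exact congrArg Subtype.val (h.is_comm.comm ⟨x, hx⟩ ⟨y, hy⟩)

theorem card_normalizer_sylow3 (hG : Nat.card G = 360) (P : Sylow 3 G) :
    Nat.card (Subgroup.normalizer ((P : Subgroup G) : Set G)) = 36 := by
  have hnp := not_prime_360 hG
  have hc := card_sylow_mem_cands (G := G) 3 2 40 (by rw [hG]; norm_num) (by norm_num)
  have hcl : sylowCands 3 40 = [1, 4, 10, 40] := by decide +kernel
  rw [hcl] at hc
  have h1 : Nat.card (Sylow 3 G) ≠ 1 :=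
    card_sylow_ne_one 3 (by rw [hG]; norm_num) 2 (by norm_num) (by norm_num)
      (by rw [hG]; norm_num)
  have hf := card_dvd_factorial_card_sylow 3 h1
  rw [hG] at hf
  have hmul := card_sylow_mul_card_normalizer 3 P
  rw [hG] at hmul
  simp only [List.mem_cons, List.not_mem_nil, or_false] at hc
  rcases hc with hc | hc | hc | hc
  · exact absurd hc h1
  · exfalso
    rw [hc] at hf
    revert hf
    decide
  · rw [hc] at hmul
    omega
  · exfalso
    rw [hc] at hmul
    have hN : Nat.card (Subgroup.normalizer ((P : Subgroup G) : Set G)) = 9 := by omega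
    have hP := card_sylow3 hG P
    have hPN : (P : Subgroup G) = Subgroup.normalizer ((P : Subgroup G) : Set G) :=
      Subgroup.eq_of_le_of_card_ge Subgroup.le_normalizer (by rw [hN, hP])
    have : IsMulCommutative (P : Subgroup G) := isMulCommutative_sylow3 hG P
    apply not_normalizer_le_centralizer hnp 3 (by rw [hG]; norm_num) P
    rw [← hPN]
    exact Subgroup.le_centralizer (P : Subgroup G)

theorem exists_sylow_inf_eq_bot (hG : Nat.card G = 360) :
    ∃ P Q : Sylow 3 G, (P : Subgroup G) ⊓ (Q : Subgroup G) = ⊥ := by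
  obtain ⟨P, Q, h⟩ := Cfsg.Agent.S1009.result (G := G) 3 (fun P => isMulCommutative_sylow3 hG P)
  refine ⟨P, Q, ?_⟩
  rw [h]
  have hn : (⨅ R : Sylow 3 G, (R : Subgroup G)).Normal := by
    constructor
    intro n hn g
    rw [Subgroup.mem_iInf] at hn ⊢
    intro R
    have h1 := hn (g⁻¹ • R)
    rw [Cfsg.Agent.S1009.mem_smul_sylow] at h1
    simpa using h1
  rcases hn.eq_bot_or_eq_top with h0 | h0
  · exact h0
  · exfalso
    have h1 : (P : Subgroup G) = ⊤ := by
      rw [eq_top_iff, ← h0]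
      exact iInf_le _ P
    have h2 := card_sylow3 hG P
    rw [h1, Subgroup.card_top, hG] at h2
    omega

end sylow

/-- The set-up: a Sylow 3-subgroup `P` with normaliser `N` of order 36 and a coset `c₀ ≠ N` on
which `P` acts with trivial stabiliser. -/
structure Setup (G : Type*) [Group G] where
  /-- A Sylow 3-subgroup. -/
  P : Sylow 3 G
  /-- A coset of the normaliser. -/
  c₀ : G ⧸ Subgroup.normalizer ((P : Subgroup G) : Set G)
  hP : Nat.card (P : Subgroup G) = 9
  hN : Nat.card (Subgroup.normalizer ((P : Subgroup G) : Set G)) = 36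
  hc₀ : c₀ ≠ ((1 : G) : G ⧸ Subgroup.normalizer ((P : Subgroup G) : Set G))
  reg : ∀ x ∈ (P : Subgroup G), x • c₀ = c₀ → x = 1

theorem exists_setup [Finite G] [IsSimpleGroup G] (hG : Nat.card G = 360) :
    Nonempty (Setup G) := by
  obtain ⟨P, Q, hPQ⟩ := exists_sylow_inf_eq_bot hG
  obtain ⟨g, rfl⟩ := MulAction.exists_smul_eq G P Q
  refine ⟨⟨P, ((g : G) : G ⧸ _), card_sylow3 hG P, card_normalizer_sylow3 hG P, ?_, ?_⟩⟩
  · intro h
    rw [QuotientGroup.eq] at h
    have hg : g ∈ Subgroup.normalizer ((P : Subgroup G) : Set G) := by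
      have := inv_mem h
      simpa using this
    have h1 : g • P = P := Sylow.smul_eq_iff_mem_normalizer.2 hg
    rw [h1, inf_idem] at hPQ
    have h2 := card_sylow3 hG P
    rw [hPQ, Subgroup.card_bot] at h2
    omega
  · intro x hx hfix
    rw [MulAction.Quotient.smul_coe, QuotientGroup.eq, smul_eq_mul] at hfix
    have hy : g⁻¹ * x * g ∈ Subgroup.normalizer ((P : Subgroup G) : Set G) := by
      have h1 := inv_mem hfix
      have e : ((x * g)⁻¹ * g)⁻¹ = g⁻¹ * x * g := by group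
      rwa [e] at h1
    obtain ⟨k, hk⟩ := (IsPGroup.iff_orderOf.1 P.isPGroup') ⟨x, hx⟩
    have hk' : orderOf (g⁻¹ * x * g) = 3 ^ k := by
      rw [← hk, Subgroup.orderOf_mk]
      have h1 := (MulAut.conj g⁻¹).orderOf_eq x
      simpa using h1
    have hyP := mem_sylow_of_mem_normalizer_of_orderOf 3 P _ hy k hk'
    have hxQ : x ∈ ((g • P : Sylow 3 G) : Subgroup G) :=
      (Cfsg.Agent.S1009.mem_smul_sylow g x P).2 hyP
    have h2 : x ∈ (P : Subgroup G) ⊓ ((g • P : Sylow 3 G) : Subgroup G) := ⟨hx, hxQ⟩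
    rw [hPQ] at h2
    exact h2

namespace Setup

variable (s : Setup G)

/-- The normaliser of `P`. -/
abbrev N : Subgroup G := Subgroup.normalizer ((s.P : Subgroup G) : Set G)

/-- The base point. -/
abbrev o : G ⧸ s.N := ((1 : G) : G ⧸ s.N)

theorem smul_o_iff (g : G) : g • s.o = s.o ↔ g ∈ s.N := by
  rw [MulAction.Quotient.smul_coe, QuotientGroup.eq]
  simp

theorem comm {x y : G} (hx : x ∈ (s.P : Subgroup G)) (hy : y ∈ (s.P : Subgroup G)) :
    x * y = y * x := by
  have h : IsMulCommutative (s.P : Subgroup G) :=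
    IsPGroup.isMulCommutative_of_card_eq_prime_sq (p := 3) (by rw [s.hP]; norm_num)
  exact congrArg Subtype.val (h.is_comm.comm ⟨x, hx⟩ ⟨y, hy⟩)

theorem P_le_N : (s.P : Subgroup G) ≤ s.N := Subgroup.le_normalizer

theorem conj_mem {n x : G} (hn : n ∈ s.N) (hx : x ∈ (s.P : Subgroup G)) :
    n * x * n⁻¹ ∈ (s.P : Subgroup G) :=
  (Subgroup.mem_normalizer_iff.1 hn x).1 hx

theorem smul_c₀_inj {x y : G} (hx : x ∈ (s.P : Subgroup G)) (hy : y ∈ (s.P : Subgroup G))
    (h : x • s.c₀ = y • s.c₀) : x = y := by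
  have h1 : (y⁻¹ * x) • s.c₀ = s.c₀ := by
    rw [mul_smul, h, inv_smul_smul]
  have h2 := s.reg _ (mul_mem (inv_mem hy) hx) h1
  exact (inv_mul_eq_one.1 h2).symm

theorem smul_c₀_ne_o {x : G} (hx : x ∈ (s.P : Subgroup G)) : x • s.c₀ ≠ s.o := by
  intro h
  apply s.hc₀
  have h1 : s.c₀ = x⁻¹ • s.o := by rw [← h, inv_smul_smul]
  rw [h1]
  exact (s.smul_o_iff _).2 (inv_mem (s.P_le_N hx))

theorem card_quot [Finite G] (hG : Nat.card G = 360) : Nat.card (G ⧸ s.N) = 10 := by
  have h := s.N.card_mul_index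
  rw [s.hN, hG] at h
  have h2 : s.N.index = 10 := by omega
  exact h2

theorem cover [Finite G] (hG : Nat.card G = 360) (c : G ⧸ s.N) :
    c = s.o ∨ ∃ x ∈ (s.P : Subgroup G), c = x • s.c₀ := by
  classical
  let S : Set (G ⧸ s.N) := insert s.o ((fun x : G => x • s.c₀) '' ((s.P : Subgroup G) : Set G))
  have hnot : s.o ∉ (fun x : G => x • s.c₀) '' ((s.P : Subgroup G) : Set G) := by
    rintro ⟨x, hx, hxo⟩
    exact s.smul_c₀_ne_o hx hxo
  have hinj : Set.InjOn (fun x : G => x • s.c₀) ((s.P : Subgroup G) : Set G) :=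
    fun x hx y hy h => s.smul_c₀_inj hx hy h
  have hcard : S.ncard = 10 := by
    rw [Set.ncard_insert_of_notMem hnot, Set.InjOn.ncard_image hinj]
    have h9 : ((s.P : Subgroup G) : Set G).ncard = 9 := by
      rw [← Nat.card_coe_set_eq]
      exact s.hP
    rw [h9]
  have huniv : S = Set.univ := by
    apply Set.eq_of_subset_of_ncard_le (Set.subset_univ _)
    rw [Set.ncard_univ, s.card_quot hG, hcard]
  have hc : c ∈ S := by rw [huniv]; trivial
  rcases hc with hc | ⟨x, hx, hxc⟩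
  · exact Or.inl hc
  · exact Or.inr ⟨x, hx, hxc.symm⟩

/-- The two-point stabiliser. -/
def S₂ : Subgroup G := s.N ⊓ MulAction.stabilizer G s.c₀

theorem mem_S₂ {u : G} : u ∈ s.S₂ ↔ u ∈ s.N ∧ u • s.c₀ = s.c₀ := Iff.rfl

theorem card_S₂ [Finite G] (hG : Nat.card G = 360) : Nat.card s.S₂ = 4 := by
  let f : ↥(s.P : Subgroup G) × ↥s.S₂ → ↥s.N :=
    fun p => ⟨p.1 * p.2, mul_mem (s.P_le_N p.1.2) p.2.2.1⟩
  have hinj : Function.Injective f := by
    rintro ⟨x, u⟩ ⟨y, v⟩ h
    have h1 : (x : G) * u = y * v := congrArg Subtype.val h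
    have h2 : (y : G)⁻¹ * x = v * (u : G)⁻¹ := by
      have e : (y : G)⁻¹ * x = (y : G)⁻¹ * ((x : G) * u) * (u : G)⁻¹ := by group
      rw [e, h1]
      group
    have h3 : (y : G)⁻¹ * x = 1 := by
      apply s.reg _ (mul_mem (inv_mem y.2) x.2)
      have h4 : (y : G)⁻¹ * x ∈ s.S₂ := by
        rw [h2]
        exact mul_mem v.2 (inv_mem u.2)
      exact h4.2
    have hxy : (x : G) = y := (inv_mul_eq_one.1 h3).symm
    have huv : (u : G) = v := by
      rw [hxy] at h1
      exact mul_left_cancel h1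
    exact Prod.ext (Subtype.ext hxy) (Subtype.ext huv)
  have hsurj : Function.Surjective f := by
    rintro ⟨n, hn⟩
    rcases s.cover hG (n • s.c₀) with h | ⟨x, hx, h⟩
    · exfalso
      apply s.hc₀
      have h1 : s.c₀ = n⁻¹ • s.o := by rw [← h, inv_smul_smul]
      rw [h1]
      exact (s.smul_o_iff _).2 (inv_mem hn)
    · have hmem : x⁻¹ * n ∈ s.S₂ := by
        refine s.mem_S₂.2 ⟨mul_mem (inv_mem (s.P_le_N hx)) hn, ?_⟩
        rw [mul_smul, h, inv_smul_smul]
      refine ⟨(⟨x, hx⟩, ⟨x⁻¹ * n, hmem⟩), ?_⟩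
      apply Subtype.ext
      show x * (x⁻¹ * n) = n
      group
  have hcard := Nat.card_congr (Equiv.ofBijective f ⟨hinj, hsurj⟩)
  rw [Nat.card_prod, s.hP, s.hN] at hcard
  omega

theorem smul_smul_c₀ {u : G} (hu : u ∈ s.S₂) (x : G) :
    u • (x • s.c₀) = (u * x * u⁻¹) • s.c₀ := by
  have h1 : u⁻¹ • s.c₀ = s.c₀ := by
    rw [inv_smul_eq_iff]
    exact hu.2.symm
  conv_rhs => rw [mul_smul, mul_smul, h1]

theorem eq_one_of_forall_smul [Finite G] [IsSimpleGroup G] (hG : Nat.card G = 360) {u : G}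
    (h : ∀ c : G ⧸ s.N, u • c = c) : u = 1 := by
  have hker : u ∈ (MulAction.toPermHom G (G ⧸ s.N)).ker := by
    rw [MonoidHom.mem_ker]
    ext c
    exact h c
  rw [← Subgroup.normalCore_eq_ker] at hker
  rcases (Subgroup.normalCore_normal s.N).eq_bot_or_eq_top with h0 | h0
  · rw [h0] at hker
    exact hker
  · exfalso
    have h1 : s.N = ⊤ := top_le_iff.1 (h0 ▸ Subgroup.normalCore_le s.N)
    have h2 : Nat.card s.N = 36 := s.hN
    rw [h1, Subgroup.card_top, hG] at h2
    omega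

theorem eq_one_of_centralizes [Finite G] [IsSimpleGroup G] (hG : Nat.card G = 360) {u : G}
    (hu : u ∈ s.S₂) (h : ∀ x ∈ (s.P : Subgroup G), u * x * u⁻¹ = x) : u = 1 := by
  apply s.eq_one_of_forall_smul hG
  intro c
  rcases s.cover hG c with rfl | ⟨x, hx, rfl⟩
  · exact (s.smul_o_iff u).2 hu.1
  · rw [s.smul_smul_c₀ hu, h x hx]

/-- An involution of the two-point stabiliser has no fixed point on `P`. -/
theorem fixed_of_involution [Finite G] [IsSimpleGroup G] (hG : Nat.card G = 360) {u : G}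
    (hu : u ∈ s.S₂) (hu2 : u * u = 1) (hu1 : u ≠ 1) :
    ∀ x ∈ (s.P : Subgroup G), u * x * u⁻¹ = x → x = 1 := by
  classical
  let C : Subgroup G := (s.P : Subgroup G) ⊓ Subgroup.centralizer {u}
  have hCP : C ≤ (s.P : Subgroup G) := inf_le_left
  have hmemC : ∀ x, x ∈ C ↔ x ∈ (s.P : Subgroup G) ∧ u * x * u⁻¹ = x := by
    intro x
    show x ∈ (s.P : Subgroup G) ∧ x ∈ Subgroup.centralizer {u} ↔ _
    rw [Subgroup.mem_centralizer_iff]
    simp only [Set.mem_singleton_iff, forall_eq]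
    constructor
    · rintro ⟨h1, h2⟩
      exact ⟨h1, by rw [h2]; group⟩
    · rintro ⟨h1, h2⟩
      refine ⟨h1, ?_⟩
      conv_rhs => rw [← h2]
      group
  have hfix : {c : G ⧸ s.N | u • c = c}
      = insert s.o ((fun x : G => x • s.c₀) '' (C : Set G)) := by
    ext c
    simp only [Set.mem_ofPred_eq, Set.mem_insert_iff, Set.mem_image, SetLike.mem_coe]
    constructor
    · intro hc
      rcases s.cover hG c with h | ⟨x, hx, h⟩
      · exact Or.inl h
      · right
        refine ⟨x, (hmemC x).2 ⟨hx, ?_⟩, h.symm⟩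
        rw [h, s.smul_smul_c₀ hu] at hc
        exact s.smul_c₀_inj (s.conj_mem hu.1 hx) hx hc
    · rintro (rfl | ⟨x, hx, rfl⟩)
      · exact (s.smul_o_iff u).2 hu.1
      · rw [s.smul_smul_c₀ hu, ((hmemC x).1 hx).2]
  obtain ⟨k, hk⟩ := involution_fixed_mod_four (not_prime_360 hG) (X := G ⧸ s.N) u hu2
  have hnot : s.o ∉ (fun x : G => x • s.c₀) '' (C : Set G) := by
    rintro ⟨x, hx, hxo⟩
    exact s.smul_c₀_ne_o (hCP hx) hxo
  have hinj : Set.InjOn (fun x : G => x • s.c₀) (C : Set G) :=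
    fun x hx y hy h => s.smul_c₀_inj (hCP hx) (hCP hy) h
  rw [hfix, Set.ncard_insert_of_notMem hnot, Set.InjOn.ncard_image hinj, s.card_quot hG] at hk
  have hCcard : (C : Set G).ncard = Nat.card C := (Nat.card_coe_set_eq _).symm
  rw [hCcard] at hk
  have hdvd : Nat.card C ∣ 9 := s.hP ▸ Subgroup.card_dvd_of_le hCP
  have hC : Nat.card C = 1 ∨ Nat.card C = 9 := by
    generalize Nat.card C = m at hk hdvd
    have hle : m ≤ 9 := Nat.le_of_dvd (by norm_num) hdvd
    interval_cases m <;> omega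
  rcases hC with hC | hC
  · intro x hx hxu
    have h1 : x ∈ C := (hmemC x).2 ⟨hx, hxu⟩
    rw [Subgroup.card_eq_one.1 hC] at h1
    exact h1
  · exfalso
    have hCe : C = (s.P : Subgroup G) := Subgroup.eq_of_le_of_card_ge hCP (by rw [hC, s.hP])
    apply hu1
    apply s.eq_one_of_centralizes hG hu
    intro x hx
    exact ((hmemC x).1 (hCe ▸ hx)).2

theorem inverts [Finite G] [IsSimpleGroup G] (hG : Nat.card G = 360) {u : G}
    (hu : u ∈ s.S₂) (hu2 : u * u = 1) (hu1 : u ≠ 1) {x : G} (hx : x ∈ (s.P : Subgroup G)) :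
    u * x * u⁻¹ = x⁻¹ := by
  have hux : u * x * u⁻¹ ∈ (s.P : Subgroup G) := s.conj_mem hu.1 hx
  have h1 : u * (x * (u * x * u⁻¹)) * u⁻¹ = x * (u * x * u⁻¹) := by
    have e : u * (x * (u * x * u⁻¹)) * u⁻¹ = (u * x * u⁻¹) * ((u * u) * x * (u * u)⁻¹) := by
      group
    rw [e, hu2]
    simp only [one_mul, inv_one, mul_one]
    exact s.comm hux hx
  have h2 := s.fixed_of_involution hG hu hu2 hu1 _ (mul_mem hx hux) h1
  exact eq_inv_of_mul_eq_one_right h2

theorem fixed_cosets [Finite G] [IsSimpleGroup G] (hG : Nat.card G = 360) {u : G}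
    (hu : u ∈ s.S₂) (hu2 : u * u = 1) (hu1 : u ≠ 1) {c : G ⧸ s.N} (hc : u • c = c) :
    c = s.o ∨ c = s.c₀ := by
  rcases s.cover hG c with h | ⟨x, hx, h⟩
  · exact Or.inl h
  · right
    rw [h, s.smul_smul_c₀ hu] at hc
    have h1 := s.fixed_of_involution hG hu hu2 hu1 x hx
      (s.smul_c₀_inj (s.conj_mem hu.1 hx) hx hc)
    rw [h, h1, one_smul]

theorem exists_h [Finite G] [IsSimpleGroup G] (hG : Nat.card G = 360) :
    ∃ h ∈ s.S₂, h * h ≠ 1 := by
  by_contra hcon
  push Not at hcon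
  have hcard := s.card_S₂ hG
  have h1 : ∃ u ∈ s.S₂, u ≠ 1 := by
    by_contra h
    push Not at h
    have h2 : s.S₂ = ⊥ := (Subgroup.eq_bot_iff_forall _).2 h
    rw [h2, Subgroup.card_bot] at hcard
    omega
  obtain ⟨u, hu, hu1⟩ := h1
  have h2 : ∃ v ∈ s.S₂, v ≠ 1 ∧ v ≠ u := by
    by_contra h
    push Not at h
    have hsub : (s.S₂ : Set G) ⊆ {1, u} := fun v hv => by
      by_cases hv1 : v = 1
      · exact Or.inl hv1
      · exact Or.inr (h v hv hv1)
    have h3 := Set.ncard_le_ncard hsub (Set.toFinite _)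
    have h4 : (s.S₂ : Set G).ncard = 4 := by
      rw [← Nat.card_coe_set_eq]
      exact hcard
    have h5 : ({1, u} : Set G).ncard ≤ 2 := by
      have := Set.ncard_insert_le (1 : G) ({u} : Set G)
      rw [Set.ncard_singleton] at this
      exact this
    omega
  obtain ⟨v, hv, hv1, hvu⟩ := h2
  have huv : u * v ∈ s.S₂ := mul_mem hu hv
  have h3 : u * v = 1 := by
    apply s.eq_one_of_centralizes hG huv
    intro x hx
    have e : u * v * x * (u * v)⁻¹ = u * (v * x * v⁻¹) * u⁻¹ := by group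
    rw [e, s.inverts hG hv (hcon v hv) hv1 hx, s.inverts hG hu (hcon u hu) hu1 (inv_mem hx),
      inv_inv]
  apply hvu
  have huinv : u⁻¹ = u := inv_eq_of_mul_eq_one_left (hcon u hu)
  rw [← huinv]
  exact eq_inv_of_mul_eq_one_right h3

end Setup

/-- A simple group of order 360 contains the configuration `Cfg`. -/
theorem exists_cfg [Finite G] [IsSimpleGroup G] (hG : Nat.card G = 360) : Nonempty (Cfg G) := by
  obtain ⟨s⟩ := exists_setup hG
  obtain ⟨h, hhS, hh2⟩ := s.exists_h hG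
  have hcard := s.card_S₂ hG
  have hh4 : h ^ 4 = 1 := Simple168.pow_card_of_mem hhS hcard
  have huS : h * h ∈ s.S₂ := mul_mem hhS hhS
  have hu2 : h * h * (h * h) = 1 := by
    have e : h * h * (h * h) = h ^ 4 := by
      simp only [pow_succ, pow_zero, one_mul, mul_assoc]
    rw [e, hh4]
  have hho : orderOf h = 4 := by
    have hd : orderOf h ∣ 4 := orderOf_dvd_of_pow_eq_one hh4
    have h1 : orderOf h ≠ 1 := by
      intro h1
      rw [orderOf_eq_one_iff] at h1
      apply hh2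
      rw [h1, mul_one]
    have h2 : orderOf h ≠ 2 := by
      intro h2
      apply hh2
      rw [← pow_two, ← h2, pow_orderOf_eq_one]
    have hle : orderOf h ≤ 4 := Nat.le_of_dvd (by norm_num) hd
    generalize orderOf h = m at hd h1 h2 hle
    interval_cases m <;> omega
  have hzS : Subgroup.zpowers h = s.S₂ :=
    Subgroup.eq_of_le_of_card_ge ((Subgroup.zpowers_le).2 hhS)
      (by rw [Nat.card_zpowers, hho, hcard])
  have hzN : Subgroup.zpowers h ≤ s.N := by
    rw [hzS]
    exact inf_le_left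
  have hhN : h ∈ s.N := hzN (Subgroup.mem_zpowers h)
  obtain ⟨a₀, ha₀⟩ := exists_prime_orderOf_dvd_card' (G := (s.P : Subgroup G)) 3
    (by rw [s.hP]; norm_num)
  obtain ⟨a, hadef⟩ : ∃ a : G, a = (a₀ : G) := ⟨_, rfl⟩
  have haP : a ∈ (s.P : Subgroup G) := by rw [hadef]; exact a₀.2
  have hao : orderOf a = 3 := by rw [hadef, Subgroup.orderOf_coe, ha₀]
  have ha3 : a ^ 3 = 1 := by rw [← hao]; exact pow_orderOf_eq_one a
  have ha1 : a ≠ 1 := by
    intro h1
    rw [h1, orderOf_one] at hao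
    omega
  obtain ⟨b, hbdef⟩ : ∃ b : G, b = h * a * h⁻¹ := ⟨_, rfl⟩
  have hbP : b ∈ (s.P : Subgroup G) := by rw [hbdef]; exact s.conj_mem hhN haP
  have hb3 : b ^ 3 = 1 := by
    rw [hbdef, conj_pow, ha3]
    group
  have hhb : h * b * h⁻¹ = a⁻¹ := by
    have e : h * b * h⁻¹ = (h * h) * a * (h * h)⁻¹ := by rw [hbdef]; group
    rw [e]
    exact s.inverts hG huS hu2 hh2 haP
  have hab : a * b = b * a := s.comm haP hbP
  have haa : a⁻¹ ≠ a := by
    intro h1
    apply ha1
    have h2 : a * a = 1 := by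
      have h3 := mul_inv_cancel a
      rwa [h1] at h3
    have e : a = a ^ 3 * (a * a)⁻¹ := by group
    rw [e, ha3, h2]
    simp
  have hb1 : b ≠ 1 := by
    intro h1
    apply ha1
    rw [hbdef] at h1
    exact conj_eq_one_iff.1 h1
  have hba : b ≠ a := by
    intro h1
    have hhb' : h * a * h⁻¹ = a⁻¹ := by rw [h1] at hhb; exact hhb
    exact haa (hhb'.symm.trans (hbdef.symm.trans h1))
  have hbai : b ≠ a⁻¹ := by
    intro h1
    have e : h * a⁻¹ * h⁻¹ = (h * a * h⁻¹)⁻¹ := by group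
    rw [h1, e, ← hbdef, h1, inv_inv] at hhb
    exact haa hhb.symm
  -- a Sylow 2-subgroup containing `h`
  have hpg : IsPGroup 2 (Subgroup.zpowers h) :=
    IsPGroup.of_card (n := 2) (by rw [Nat.card_zpowers, hho]; norm_num)
  obtain ⟨S, hS⟩ := hpg.exists_le_sylow
  have hScard : Nat.card (S : Subgroup G) = 8 := by
    have h1 := card_sylow_eq_of_card_eq (G := G) 2 3 45 (by rw [hG]; norm_num) (by norm_num) S
    simpa using h1
  have hidx : ((Subgroup.zpowers h).subgroupOf (S : Subgroup G)).index = 2 := by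
    have h1 := ((Subgroup.zpowers h).subgroupOf (S : Subgroup G)).card_mul_index
    rw [Nat.card_congr (Subgroup.subgroupOfEquivOfLe hS).toEquiv, Nat.card_zpowers, hho,
      hScard] at h1
    omega
  have hnorm : ((Subgroup.zpowers h).subgroupOf (S : Subgroup G)).Normal :=
    Subgroup.normal_of_index_eq_two hidx
  have ht : ∃ t ∈ (S : Subgroup G), t ∉ s.N := by
    by_contra hcon
    push Not at hcon
    have h1 := Subgroup.card_dvd_of_le (show (S : Subgroup G) ≤ s.N from hcon)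
    have h2 : Nat.card s.N = 36 := s.hN
    rw [hScard, h2] at h1
    revert h1
    decide
  obtain ⟨t, htS, htN⟩ := ht
  have hhSm : h ∈ (S : Subgroup G) := hS (Subgroup.mem_zpowers h)
  have hconj : ∀ g ∈ (S : Subgroup G), g * h * g⁻¹ ∈ Subgroup.zpowers h := by
    intro g hg
    have h1 := hnorm.conj_mem ⟨h, hhSm⟩ (Subgroup.mem_subgroupOf.2 (Subgroup.mem_zpowers h))
      ⟨g, hg⟩
    exact Subgroup.mem_subgroupOf.1 h1
  have htt : t * t ∈ Subgroup.zpowers h := by
    have h1 := Subgroup.mul_self_mem_of_index_two hidx ⟨t, htS⟩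
    exact Subgroup.mem_subgroupOf.1 h1
  obtain ⟨k, hk4, hk⟩ := Simple168.exists_pow_of_mem_zpowers hho (by norm_num) (hconj t htS)
  have hth : t * h * t⁻¹ = h ∨ t * h * t⁻¹ = h⁻¹ := by
    have hinv : h⁻¹ = h ^ 3 := by
      apply inv_eq_of_mul_eq_one_right
      rw [← pow_succ', hh4]
    interval_cases k
    · exfalso
      rw [pow_zero] at hk
      apply hh2
      have h1 : h = 1 := conj_eq_one_iff.1 hk
      rw [h1, mul_one]
    · left
      rw [hk, pow_one]
    · exfalso
      apply hh2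
      have h1 : (t * h * t⁻¹) ^ 2 = 1 := by rw [hk, ← pow_mul, hh4]
      rw [conj_pow] at h1
      have h2 : h ^ 2 = 1 := conj_eq_one_iff.1 h1
      rw [← pow_two, h2]
    · right
      rw [hk, hinv]
  have htc : ((t : G) : G ⧸ s.N) = s.c₀ := by
    have hfix : h • ((t : G) : G ⧸ s.N) = ((t : G) : G ⧸ s.N) := by
      rw [MulAction.Quotient.smul_coe, QuotientGroup.eq, smul_eq_mul]
      have h2 := hconj t⁻¹ (inv_mem htS)
      have e : (h * t)⁻¹ * t = (t⁻¹ * h * t⁻¹⁻¹)⁻¹ := by group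
      rw [e]
      exact inv_mem (hzN h2)
    have hfix2 : (h * h) • ((t : G) : G ⧸ s.N) = ((t : G) : G ⧸ s.N) := by
      rw [mul_smul, hfix, hfix]
    rcases s.fixed_cosets hG huS hu2 hh2 hfix2 with h0 | h0
    · exfalso
      apply htN
      rw [QuotientGroup.eq] at h0
      have h1 := inv_mem h0
      simpa using h1
    · exact h0
  refine ⟨{ P := s.P, a := a, b := b, h := h, t := t, hN := s.hN, haP := haP, hbP := hbP,
            ha3 := ha3, hb3 := hb3, hab := hab, ha1 := ha1, hb1 := hb1, hba := hba,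
            hbai := hbai, hho := hho, hhN := hhN, hha := hbdef.symm, hhb := hhb, htN := htN,
            hth := hth, htt := hzN htt, reg := ?_, stab := ?_ }⟩
  · intro x hx hfix
    rw [htc] at hfix
    exact s.reg x hx hfix
  · intro w hw hfix
    rw [htc] at hfix
    rw [hzS]
    exact s.mem_S₂.2 ⟨hw, hfix⟩

end Cfsg.Agent.Lib.Helper5.A6
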