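import Mathlib
import Cfsg.Agent.Lib.Helper5.Model168Syl
import Cfsg.Agent.Lib.Helper5.Tri

set_option autoImplicit false

/-!
Klein four-subgroups of a simple group of order 168, computed in the concrete model
`Cfsg.Agent.Lib.Helper5.Model168`: the model Sylow 2-subgroup contains exactly two Klein
four-groups, they are not conjugate, and their normalisers have order 24 and are isomorphic to
`S₄`.
-/

namespace Cfsg.Agent.Lib.Helper5.Model168

open Cfsg.Agent.Lib.Helper5

/-- The first Klein four-group of the model Sylow 2-subgroup. -/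
def kV1 : List ℕ := [16434824, 14522914, 4346846, 571823]

/-- The second Klein four-group of the model Sylow 2-subgroup. -/
def kV2 : List ℕ := [16434824, 10985779, 9272641, 4346846]

/-- The normaliser of `kV1`. -/
def kN1 : List ℕ := [16434824, 14857122, 15374366, 1886878, 1628130, 571823, 3175795, 2895165, 3436244, 4346846, 5903919, 6175624, 7810817, 6779220, 7537789, 8741117, 9768563, 9272641, 11789505, 10985779, 11504724, 12698287, 14522914, 13228488]

/-- The normaliser of `kV2`. -/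
def kN2 : List ℕ := [16434824, 16392537, 16339715, 650853, 727804, 571823, 3618874, 3507623, 3436244, 4346846, 4390155, 4441969, 7347095, 7401002, 7537789, 9425584, 9347534, 9272641, 10910872, 10985779, 10831814, 14432341, 14522914, 14451948]

/-- A list of codes forming a subgroup. -/
def Closed (L : List ℕ) : Prop :=
  (∀ a ∈ L, a ∈ codes) ∧ (∀ a ∈ L, ∀ b ∈ L, comp a b ∈ L) ∧ idc ∈ L ∧
    ∀ a ∈ L, ∃ b ∈ L, comp a b = idc

instance (L : List ℕ) : Decidable (Closed L) := by
  unfold Closed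
  infer_instance

theorem closed_V1 : Closed kV1 := by decide +kernel

theorem closed_V2 : Closed kV2 := by decide +kernel

theorem closed_N1 : Closed kN1 := by decide +kernel

theorem closed_N2 : Closed kN2 := by decide +kernel

theorem count_V1 : (codes.filter (fun n => decide (n ∈ kV1))).length = 4 := by decide +kernel

theorem count_V2 : (codes.filter (fun n => decide (n ∈ kV2))).length = 4 := by decide +kernel

theorem count_N1 : (codes.filter (fun n => decide (n ∈ kN1))).length = 24 := by decide +kernel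

theorem count_N2 : (codes.filter (fun n => decide (n ∈ kN2))).length = 24 := by decide +kernel

theorem V1_sub_syl : ∀ a ∈ kV1, a ∈ syl := by decide +kernel

theorem V2_sub_syl : ∀ a ∈ kV2, a ∈ syl := by decide +kernel

theorem V1_sq : ∀ a ∈ kV1, comp a a = idc := by decide +kernel

theorem V2_sq : ∀ a ∈ kV2, comp a a = idc := by decide +kernel

/-- Three elements of `syl` that pairwise multiply to involutions lie in a common `kV`. -/
theorem klein_in_syl : ∀ x ∈ syl, ∀ y ∈ syl, ∀ u ∈ syl,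
    (x ≠ idc ∧ y ≠ idc ∧ x ≠ y ∧ comp x x = idc ∧ comp y y = idc ∧ comp u u = idc ∧
      comp (comp x y) (comp x y) = idc ∧ comp (comp x u) (comp x u) = idc ∧
      comp (comp y u) (comp y u) = idc) →
    (x ∈ kV1 ∧ y ∈ kV1 ∧ u ∈ kV1) ∨ (x ∈ kV2 ∧ y ∈ kV2 ∧ u ∈ kV2) := by
  decide +kernel

theorem V1_V2_disj : ∀ x ∈ syl, ∀ y ∈ syl, (x ≠ idc ∧ y ≠ idc ∧ x ≠ y) →
    ¬ (x ∈ kV1 ∧ y ∈ kV1 ∧ x ∈ kV2 ∧ y ∈ kV2) := by
  decide +kernel

theorem V1_ne_V2 : ∃ a ∈ kV1, a ∉ kV2 := by decide +kernel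

/-- `kV1` and `kV2` are not conjugate. -/
theorem nonconj_V : ∀ c ∈ codes, ∃ v ∈ kV1, ∀ w ∈ kV2, comp c v ≠ comp w c := by
  decide +kernel

theorem norm_V1 : ∀ c ∈ codes,
    (∀ v ∈ kV1, ∃ w ∈ kV1, comp c v = comp w c) → c ∈ kN1 := by
  decide +kernel

theorem norm_V1' : ∀ c ∈ kN1, ∀ v ∈ kV1, ∃ w ∈ kV1, comp c v = comp w c := by
  decide +kernel

theorem norm_V2 : ∀ c ∈ codes,
    (∀ v ∈ kV2, ∃ w ∈ kV2, comp c v = comp w c) → c ∈ kN2 := by
  decide +kernel

theorem norm_V2' : ∀ c ∈ kN2, ∀ v ∈ kV2, ∃ w ∈ kV2, comp c v = comp w c := by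
  decide +kernel

theorem gens_N1 : 2895165 ∈ kN1 ∧ 14857122 ∈ kN1 ∧ pw 2895165 2 = idc ∧ pw 14857122 3 = idc ∧
    pw (comp 2895165 14857122) 4 = idc ∧ pw (comp 2895165 14857122) 2 ≠ idc := by
  decide +kernel

theorem gens_N2 : 571823 ∈ kN2 ∧ 16392537 ∈ kN2 ∧ pw 571823 2 = idc ∧ pw 16392537 3 = idc ∧
    pw (comp 571823 16392537) 4 = idc ∧ pw (comp 571823 16392537) 2 ≠ idc := by
  decide +kernel

end Cfsg.Agent.Lib.Helper5.Model168
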