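import Mathlib
import Cfsg.Agent.Lib.Helper52.SameOrder

/-!
The numbers of elements of each order in the alternating groups of degrees 4, 5, 6 (helper5).
-/

set_option autoImplicit false

namespace Cfsg.Agent.Lib.Helper5.Nse

open Equiv Equiv.Perm Cfsg.Agent.Lib.Helper52

theorem ordCount_alt (n d : ℕ) :
    ordCount (alternatingGroup (Fin n)) d =
      (Finset.univ.filter (fun g : Perm (Fin n) => sign g = 1 ∧ orderOf g = d)).card := by
  classical
  unfold ordCount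
  rw [← Fintype.card_subtype, ← Nat.card_eq_fintype_card]
  refine Nat.card_congr ?_
  refine (Equiv.subtypeEquivRight (fun g => ?_)).trans
    ((Equiv.subtypeSubtypeEquivSubtypeInter (fun g : Perm (Fin n) => g ∈ alternatingGroup (Fin n))
      (fun g => orderOf g = d)).trans (Equiv.subtypeEquivRight (fun g => ?_)))
  · rw [Subgroup.orderOf_coe]
  · rw [Equiv.Perm.mem_alternatingGroup]

theorem orderOf_eq_four_iff {G : Type*} [Group G] (g : G) :
    orderOf g = 4 ↔ g ^ 4 = 1 ∧ g ^ 2 ≠ 1 := by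
  constructor
  · intro h
    refine ⟨by rw [← h, pow_orderOf_eq_one], fun h2 => ?_⟩
    have := orderOf_dvd_of_pow_eq_one h2
    rw [h] at this
    omega
  · rintro ⟨h4, h2⟩
    have : Fact (Nat.Prime 2) := ⟨Nat.prime_two⟩
    exact orderOf_eq_prime_pow (p := 2) (n := 1) (by simpa using h2) (by simpa using h4)

theorem ordCount_alt_prime (n p : ℕ) (hp : p.Prime) :
    ordCount (alternatingGroup (Fin n)) p =
      (Finset.univ.filter (fun g : Perm (Fin n) => sign g = 1 ∧ g ^ p = 1 ∧ g ≠ 1)).card := by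
  have : Fact p.Prime := ⟨hp⟩
  rw [ordCount_alt]
  congr 1
  apply Finset.filter_congr
  intro g _
  rw [orderOf_eq_prime_iff]

theorem ordCount_alt_four (n : ℕ) :
    ordCount (alternatingGroup (Fin n)) 4 =
      (Finset.univ.filter (fun g : Perm (Fin n) => sign g = 1 ∧ g ^ 4 = 1 ∧ g ^ 2 ≠ 1)).card := by
  rw [ordCount_alt]
  congr 1
  apply Finset.filter_congr
  intro g _
  rw [orderOf_eq_four_iff]

theorem cnt4_2 : (Finset.univ.filter
    (fun g : Perm (Fin 4) => sign g = 1 ∧ g ^ 2 = 1 ∧ g ≠ 1)).card = 3 := by decide +kernel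

theorem cnt4_3 : (Finset.univ.filter
    (fun g : Perm (Fin 4) => sign g = 1 ∧ g ^ 3 = 1 ∧ g ≠ 1)).card = 8 := by decide +kernel

theorem spec4 : ∀ g : Perm (Fin 4), sign g = 1 → g = 1 ∨ g ^ 2 = 1 ∨ g ^ 3 = 1 := by
  decide +kernel

theorem cnt5_2 : (Finset.univ.filter
    (fun g : Perm (Fin 5) => sign g = 1 ∧ g ^ 2 = 1 ∧ g ≠ 1)).card = 15 := by decide +kernel

theorem cnt5_3 : (Finset.univ.filter
    (fun g : Perm (Fin 5) => sign g = 1 ∧ g ^ 3 = 1 ∧ g ≠ 1)).card = 20 := by decide +kernel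

theorem cnt5_5 : (Finset.univ.filter
    (fun g : Perm (Fin 5) => sign g = 1 ∧ g ^ 5 = 1 ∧ g ≠ 1)).card = 24 := by decide +kernel

theorem spec5 : ∀ g : Perm (Fin 5), sign g = 1 → g ^ 2 = 1 ∨ g ^ 3 = 1 ∨ g ^ 5 = 1 := by
  decide +kernel

theorem cnt6_2 : (Finset.univ.filter
    (fun g : Perm (Fin 6) => sign g = 1 ∧ g ^ 2 = 1 ∧ g ≠ 1)).card = 45 := by decide +kernel

theorem cnt6_3 : (Finset.univ.filter
    (fun g : Perm (Fin 6) => sign g = 1 ∧ g ^ 3 = 1 ∧ g ≠ 1)).card = 80 := by decide +kernel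

theorem cnt6_4 : (Finset.univ.filter
    (fun g : Perm (Fin 6) => sign g = 1 ∧ g ^ 4 = 1 ∧ g ^ 2 ≠ 1)).card = 90 := by decide +kernel

theorem cnt6_5 : (Finset.univ.filter
    (fun g : Perm (Fin 6) => sign g = 1 ∧ g ^ 5 = 1 ∧ g ≠ 1)).card = 144 := by decide +kernel

theorem spec6 : ∀ g : Perm (Fin 6), sign g = 1 →
    g ^ 2 = 1 ∨ g ^ 3 = 1 ∨ g ^ 4 = 1 ∨ g ^ 5 = 1 := by
  decide +kernel

end Cfsg.Agent.Lib.Helper5.Nse
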