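import Mathlib
import Cfsg.Agent.Lib.Helper41.SL2

/-!
The split extension of the space of two by two matrices over a field `F` of characteristic three
by `ℤˣ × PSL₂(F)`, where `PSL₂(F)` acts by `X ↦ g * X * (g ^ σ)ᵀ` (`σ` the cube map) and the sign
acts by negation.  Its element orders all divide one of `6`, `9`, `q - 1`, `(q + 1) / 2` when
`q ≡ 3 (mod 4)`.
-/

set_option autoImplicit false

namespace Cfsg.Agent.Lib.Helper5.TwTensor

open Matrix

/-! ### abstract facts on split extensions with commutative kernel -/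

section Abstract

variable {N K : Type*} [CommGroup N] [Group K] (φ : K →* MulAut N)

theorem sdp_pow_right (x : N ⋊[φ] K) (n : ℕ) : (x ^ n).right = x.right ^ n :=
  map_pow (SemidirectProduct.rightHom : N ⋊[φ] K →* K) x n

theorem sdp_pow_eq_inl (x : N ⋊[φ] K) (n : ℕ) (hk : x.right ^ n = 1) :
    x ^ n = SemidirectProduct.inl (x ^ n).left ∧ φ x.right (x ^ n).left = (x ^ n).left := by
  have hr : (x ^ n).right = 1 := by rw [sdp_pow_right, hk]
  constructor
  · apply SemidirectProduct.ext
    · rfl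
    · rw [hr]; rfl
  · have hc : x * x ^ n = x ^ n * x := (pow_mul_comm' x n).symm
    have h1 := congrArg SemidirectProduct.left hc
    rw [SemidirectProduct.mul_left, SemidirectProduct.mul_left, hr, map_one, MulAut.one_apply,
      mul_comm (x ^ n).left] at h1
    exact mul_left_cancel h1

theorem sdp_pow_eq_one_of_fpf (x : N ⋊[φ] K) (n : ℕ) (hk : x.right ^ n = 1)
    (hfpf : ∀ b : N, φ x.right b = b → b = 1) : x ^ n = 1 := by
  obtain ⟨h1, h2⟩ := sdp_pow_eq_inl φ x n hk
  rw [h1, hfpf _ h2, map_one]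

theorem sdp_pow_mul_eq_one (x : N ⋊[φ] K) (n p : ℕ) (hk : x.right ^ n = 1)
    (hp : ∀ b : N, b ^ p = 1) : x ^ (n * p) = 1 := by
  obtain ⟨h1, _⟩ := sdp_pow_eq_inl φ x n hk
  rw [pow_mul, h1, ← map_pow, hp, map_one]

end Abstract

/-! ### the trace identity for a fixed matrix -/

section Trace

variable {F : Type*} [Field F]

theorem adj_eq (T : Matrix (Fin 2) (Fin 2) F) : T.adjugate = T.trace • 1 - T := by
  ext i j
  fin_cases i <;> fin_cases j <;> simp [Matrix.adjugate_fin_two, Matrix.trace_fin_two]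

theorem fix_trace (S T X : Matrix (Fin 2) (Fin 2) F) (e : F) (hS : S.det = 1) (hT : T.det = 1)
    (he : e * e = 1) (h : S * X * T = e • X) (hX : X ≠ 0) : S.trace = e * T.trace := by
  have h1 : S * X = e • (X * T.adjugate) := by
    calc S * X = S * X * (T * T.adjugate) := by rw [Matrix.mul_adjugate, hT, one_smul, mul_one]
      _ = (S * X * T) * T.adjugate := by rw [Matrix.mul_assoc (S * X)]
      _ = e • (X * T.adjugate) := by rw [h, Matrix.smul_mul]
  have h2 : X * T = e • (S.adjugate * X) := by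
    calc X * T = (S.adjugate * S) * X * T := by rw [Matrix.adjugate_mul, hS, one_smul, one_mul]
      _ = S.adjugate * (S * X * T) := by simp only [Matrix.mul_assoc]
      _ = e • (S.adjugate * X) := by rw [h, Matrix.mul_smul]
  rw [adj_eq, Matrix.mul_sub, Matrix.mul_smul, mul_one] at h1
  rw [adj_eq, Matrix.sub_mul, Matrix.smul_mul, one_mul] at h2
  rw [h2] at h1
  obtain ⟨i, j, hij⟩ : ∃ i j, X i j ≠ 0 := by
    by_contra hcon
    push Not at hcon
    exact hX (by ext i j; exact hcon i j)
  have h3 := congrFun (congrFun h1 i) j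
  simp only [Matrix.smul_apply, Matrix.sub_apply, smul_eq_mul] at h3
  have h4 : (S.trace - e * T.trace) * X i j = 0 := by
    linear_combination h3 - (S.trace * X i j - (S * X) i j) * he
  rcases mul_eq_zero.mp h4 with h5 | h5
  · linear_combination h5
  · exact absurd h5 hij

end Trace

/-! ### the action -/

section Action

variable (F : Type*) [Field F] [CharP F 3]

/-- the twisted transpose -/
def tw (A : Matrix (Fin 2) (Fin 2) F) : Matrix (Fin 2) (Fin 2) F := (A.map (frobenius F 3))ᵀ

theorem tw_mul (A B : Matrix (Fin 2) (Fin 2) F) : tw F (A * B) = tw F B * tw F A := by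
  unfold tw
  rw [Matrix.map_mul, Matrix.transpose_mul]

theorem tw_one : tw F 1 = 1 := by
  unfold tw
  ext i j
  fin_cases i <;> fin_cases j <;> simp

theorem tw_neg_one : tw F (-1) = -1 := by
  unfold tw
  ext i j
  fin_cases i <;> fin_cases j <;> simp

theorem tw_det (A : Matrix (Fin 2) (Fin 2) F) : (tw F A).det = A.det ^ 3 := by
  unfold tw
  rw [Matrix.det_transpose, ← frobenius_def, RingHom.map_det]
  rfl

theorem tw_trace (A : Matrix (Fin 2) (Fin 2) F) : (tw F A).trace = A.trace ^ 3 := by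
  unfold tw
  rw [Matrix.trace_transpose, Matrix.trace_fin_two, Matrix.trace_fin_two, ← frobenius_def,
    map_add]
  rfl

/-- the action of `SL₂` on matrices, as a function -/
def actFun (g : Matrix.SpecialLinearGroup (Fin 2) F) (X : Matrix (Fin 2) (Fin 2) F) :
    Matrix (Fin 2) (Fin 2) F := g.1 * X * tw F g.1

theorem actFun_one (X : Matrix (Fin 2) (Fin 2) F) : actFun F 1 X = X := by
  unfold actFun
  rw [Matrix.SpecialLinearGroup.coe_one, tw_one, one_mul, mul_one]

theorem actFun_mul (g h : Matrix.SpecialLinearGroup (Fin 2) F) (X : Matrix (Fin 2) (Fin 2) F) :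
    actFun F (g * h) X = actFun F g (actFun F h X) := by
  unfold actFun
  rw [Matrix.SpecialLinearGroup.coe_mul, tw_mul]
  simp only [Matrix.mul_assoc]

theorem actFun_add (g : Matrix.SpecialLinearGroup (Fin 2) F) (X Y : Matrix (Fin 2) (Fin 2) F) :
    actFun F g (X + Y) = actFun F g X + actFun F g Y := by
  unfold actFun
  rw [Matrix.mul_add, Matrix.add_mul]

/-- the action of `SL₂` on matrices, as additive equivalences -/
def actAdd (g : Matrix.SpecialLinearGroup (Fin 2) F) :
    Matrix (Fin 2) (Fin 2) F ≃+ Matrix (Fin 2) (Fin 2) F where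
  toFun := actFun F g
  invFun := actFun F g⁻¹
  left_inv X := by rw [← actFun_mul, inv_mul_cancel, actFun_one]
  right_inv X := by rw [← actFun_mul, mul_inv_cancel, actFun_one]
  map_add' := actFun_add F g

/-- the action of `SL₂` -/
def actSL : Matrix.SpecialLinearGroup (Fin 2) F →*
    MulAut (Multiplicative (Matrix (Fin 2) (Fin 2) F)) where
  toFun g := AddEquiv.toMultiplicative (actAdd F g)
  map_one' := by
    apply MulEquiv.ext
    intro x
    show Multiplicative.ofAdd (actFun F 1 (Multiplicative.toAdd x)) = x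
    rw [actFun_one]
    rfl
  map_mul' g h := by
    apply MulEquiv.ext
    intro x
    show Multiplicative.ofAdd (actFun F (g * h) (Multiplicative.toAdd x)) =
      Multiplicative.ofAdd (actFun F g (actFun F h (Multiplicative.toAdd x)))
    rw [actFun_mul]

theorem actSL_apply (g : Matrix.SpecialLinearGroup (Fin 2) F)
    (x : Multiplicative (Matrix (Fin 2) (Fin 2) F)) :
    actSL F g x = Multiplicative.ofAdd (actFun F g (Multiplicative.toAdd x)) := rfl

theorem actSL_center (g : Matrix.SpecialLinearGroup (Fin 2) F)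
    (hg : g ∈ Subgroup.center (Matrix.SpecialLinearGroup (Fin 2) F)) : actSL F g = 1 := by
  rw [Cfsg.Agent.Lib.Helper41.sl2_mem_center_iff] at hg
  apply MulEquiv.ext
  intro x
  rw [actSL_apply]
  show _ = x
  unfold actFun
  rcases hg with h | h
  · rw [h, tw_one, one_mul, mul_one]
    rfl
  · rw [h, tw_neg_one, neg_one_mul, mul_neg_one, neg_neg]
    rfl

/-- the action of `PSL₂` -/
def actPSL : Matrix.ProjectiveSpecialLinearGroup (Fin 2) F →*
    MulAut (Multiplicative (Matrix (Fin 2) (Fin 2) F)) :=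
  QuotientGroup.lift (Subgroup.center (Matrix.SpecialLinearGroup (Fin 2) F)) (actSL F)
    (fun g hg => MonoidHom.mem_ker.mpr (actSL_center F g hg))

theorem actPSL_mk (g : Matrix.SpecialLinearGroup (Fin 2) F) :
    actPSL F (QuotientGroup.mk g) = actSL F g := rfl

/-- the sign action, as additive equivalences -/
def sgnAdd (ε : ℤˣ) : Matrix (Fin 2) (Fin 2) F ≃+ Matrix (Fin 2) (Fin 2) F where
  toFun X := (ε : ℤ) • X
  invFun X := ((ε⁻¹ : ℤˣ) : ℤ) • X
  left_inv X := by
    show ((ε⁻¹ : ℤˣ) : ℤ) • ((ε : ℤ) • X) = X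
    rw [smul_smul, ← Units.val_mul, inv_mul_cancel, Units.val_one, one_smul]
  right_inv X := by
    show (ε : ℤ) • (((ε⁻¹ : ℤˣ) : ℤ) • X) = X
    rw [smul_smul, ← Units.val_mul, mul_inv_cancel, Units.val_one, one_smul]
  map_add' X Y := smul_add _ X Y

/-- the sign action -/
def sgn : ℤˣ →* MulAut (Multiplicative (Matrix (Fin 2) (Fin 2) F)) where
  toFun ε := AddEquiv.toMultiplicative (sgnAdd F ε)
  map_one' := by
    apply MulEquiv.ext
    intro x
    show Multiplicative.ofAdd (((1 : ℤˣ) : ℤ) • Multiplicative.toAdd x) = x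
    rw [Units.val_one, one_smul]
    rfl
  map_mul' a b := by
    apply MulEquiv.ext
    intro x
    show Multiplicative.ofAdd (((a * b : ℤˣ) : ℤ) • Multiplicative.toAdd x) =
      Multiplicative.ofAdd ((a : ℤ) • ((b : ℤ) • Multiplicative.toAdd x))
    rw [smul_smul, Units.val_mul]

omit [CharP F 3] in
theorem sgn_apply (ε : ℤˣ) (x : Multiplicative (Matrix (Fin 2) (Fin 2) F)) :
    sgn F ε x = Multiplicative.ofAdd ((ε : ℤ) • Multiplicative.toAdd x) := rfl

theorem sgn_comm (ε : ℤˣ) (g : Matrix.ProjectiveSpecialLinearGroup (Fin 2) F) :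
    Commute (sgn F ε) (actPSL F g) := by
  obtain ⟨s, rfl⟩ := QuotientGroup.mk_surjective g
  apply MulEquiv.ext
  intro x
  show sgn F ε (actPSL F (QuotientGroup.mk s) x) = actPSL F (QuotientGroup.mk s) (sgn F ε x)
  rw [actPSL_mk, sgn_apply, sgn_apply, actSL_apply, actSL_apply]
  show Multiplicative.ofAdd ((ε : ℤ) • actFun F s (Multiplicative.toAdd x)) =
    Multiplicative.ofAdd (actFun F s ((ε : ℤ) • Multiplicative.toAdd x))
  congr 1
  unfold actFun
  rw [Matrix.mul_smul, Matrix.smul_mul]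

/-- the action of `ℤˣ × PSL₂` -/
def actK : ℤˣ × Matrix.ProjectiveSpecialLinearGroup (Fin 2) F →*
    MulAut (Multiplicative (Matrix (Fin 2) (Fin 2) F)) :=
  MonoidHom.noncommCoprod (sgn F) (actPSL F) (sgn_comm F)

theorem actK_apply (ε : ℤˣ) (s : Matrix.SpecialLinearGroup (Fin 2) F)
    (x : Multiplicative (Matrix (Fin 2) (Fin 2) F)) :
    actK F (ε, QuotientGroup.mk s) x =
      Multiplicative.ofAdd ((ε : ℤ) • actFun F s (Multiplicative.toAdd x)) := by
  unfold actK
  rw [MonoidHom.noncommCoprod_apply]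
  rfl

/-- The group. -/
abbrev HG : Type _ := Multiplicative (Matrix (Fin 2) (Fin 2) F) ⋊[actK F]
  (ℤˣ × Matrix.ProjectiveSpecialLinearGroup (Fin 2) F)

end Action

/-! ### element orders -/

section Orders

variable (F : Type*) [Field F] [CharP F 3] [Fintype F]

theorem fixed_cases (hq4 : Fintype.card F % 4 = 3) (ε : ℤˣ)
    (s : Matrix.SpecialLinearGroup (Fin 2) F) (X : Matrix (Fin 2) (Fin 2) F) (hX : X ≠ 0)
    (hfix : (ε : ℤ) • actFun F s X = X) :
    s.1 * s.1 = -1 ∨ (ε = 1 ∧ (s.1 ^ 3 = 1 ∨ s.1 ^ 3 = -1)) := by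
  have hS : s.1.det = 1 := s.det_coe
  have hT : (tw F s.1).det = 1 := by rw [tw_det, hS, one_pow]
  have hC := Cfsg.Agent.Lib.Helper41.cayley2_det_one hS
  rcases Int.units_eq_one_or ε with rfl | rfl
  · have h : s.1 * X * tw F s.1 = (1 : F) • X := by
      rw [one_smul]
      rw [Units.val_one, one_smul] at hfix
      exact hfix
    have ht := fix_trace s.1 (tw F s.1) X 1 hS hT (by ring) h hX
    rw [tw_trace, one_mul] at ht
    have h3 : s.1.trace * (s.1.trace - 1) * (s.1.trace + 1) = 0 := by linear_combination -ht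
    rcases mul_eq_zero.mp h3 with h4 | h4
    · rcases mul_eq_zero.mp h4 with h5 | h5
      · left
        rw [hC, h5, zero_smul, zero_sub]
      · right
        refine ⟨rfl, Or.inr ?_⟩
        have h6 : s.1.trace = 1 := by linear_combination h5
        rw [h6, one_smul] at hC
        rw [pow_succ, pow_two, hC, sub_mul, one_mul, hC]
        abel
    · right
      refine ⟨rfl, Or.inl ?_⟩
      have h6 : s.1.trace = -1 := by linear_combination h4
      rw [h6, neg_smul, one_smul] at hC
      rw [pow_succ, pow_two, hC, sub_mul, neg_mul, one_mul, hC]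
      abel
  · have h : s.1 * X * tw F s.1 = (-1 : F) • X := by
      rw [Units.val_neg, Units.val_one, neg_smul, one_smul] at hfix
      rw [neg_smul, one_smul]
      exact neg_eq_iff_eq_neg.mp hfix
    have ht := fix_trace s.1 (tw F s.1) X (-1) hS hT (by ring) h hX
    rw [tw_trace] at ht
    have h3 : s.1.trace * (s.1.trace * s.1.trace + 1) = 0 := by linear_combination ht
    rcases mul_eq_zero.mp h3 with h4 | h4
    · left
      rw [hC, h4, zero_smul, zero_sub]
    · exfalso
      have hsq : IsSquare (-1 : F) := ⟨s.1.trace, by linear_combination -h4⟩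
      rw [FiniteField.isSquare_neg_one_iff] at hsq
      exact hsq hq4

omit [Fintype F] in
theorem pow_three_eq_one (b : Multiplicative (Matrix (Fin 2) (Fin 2) F)) : b ^ 3 = 1 := by
  apply Multiplicative.toAdd.injective
  show (3 : ℕ) • Multiplicative.toAdd b = 0
  rw [← Nat.cast_smul_eq_nsmul F, CharP.cast_eq_zero F 3, zero_smul]

theorem units_pow_even (ε : ℤˣ) (m : ℕ) : ε ^ (2 * m) = 1 := by
  rw [pow_mul, Int.units_sq, one_pow]

theorem orderOf_dvd_cases (hq4 : Fintype.card F % 4 = 3) (x : HG F) :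
    orderOf x ∣ 6 ∨ orderOf x ∣ 9 ∨ orderOf x ∣ Fintype.card F - 1 ∨
      orderOf x ∣ (Fintype.card F + 1) / 2 := by
  obtain ⟨a, ε, g⟩ := x
  obtain ⟨s, rfl⟩ := QuotientGroup.mk_surjective g
  have hp3 := pow_three_eq_one F
  have hgcd : Nat.gcd 2 (Fintype.card F - 1) = 2 := Nat.gcd_eq_left (by omega)
  by_cases hfpf : ∀ b : Multiplicative (Matrix (Fin 2) (Fin 2) F),
      actK F (ε, QuotientGroup.mk s) b = b → b = 1
  · have key : ∀ n : ℕ, ((ε, QuotientGroup.mk s) :
        ℤˣ × Matrix.ProjectiveSpecialLinearGroup (Fin 2) F) ^ n = 1 →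
        orderOf (⟨a, ε, QuotientGroup.mk s⟩ : HG F) ∣ n := fun n hn =>
      orderOf_dvd_of_pow_eq_one (sdp_pow_eq_one_of_fpf (actK F) _ n hn hfpf)
    rcases Cfsg.Agent.Lib.Helper41.psl2_orderOf_dvd 3
      (QuotientGroup.mk s : Matrix.ProjectiveSpecialLinearGroup (Fin 2) F) with h | h | h
    · left
      apply key
      exact Prod.ext (units_pow_even ε 3)
        (orderOf_dvd_iff_pow_eq_one.mp (dvd_trans h (by norm_num)))
    · right; right; left
      apply key
      rw [hgcd] at h
      have he : Fintype.card F - 1 = 2 * ((Fintype.card F - 1) / 2) := by omega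
      refine Prod.ext ?_ (orderOf_dvd_iff_pow_eq_one.mp (dvd_trans h ⟨2, by omega⟩))
      show ε ^ (Fintype.card F - 1) = 1
      rw [he]
      exact units_pow_even ε _
    · right; right; right
      apply key
      rw [hgcd] at h
      have he : (Fintype.card F + 1) / 2 = 2 * ((Fintype.card F + 1) / 4) := by omega
      refine Prod.ext ?_ (orderOf_dvd_iff_pow_eq_one.mp h)
      show ε ^ ((Fintype.card F + 1) / 2) = 1
      rw [he]
      exact units_pow_even ε _
  · push Not at hfpf
    obtain ⟨b, hb, hb1⟩ := hfpf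
    rw [actK_apply] at hb
    have hfix : (ε : ℤ) • actFun F s (Multiplicative.toAdd b) = Multiplicative.toAdd b :=
      congrArg Multiplicative.toAdd hb
    have hX : Multiplicative.toAdd b ≠ 0 := fun h => hb1 (Multiplicative.toAdd.injective h)
    rcases fixed_cases F hq4 ε s _ hX hfix with h | ⟨rfl, h | h⟩
    · left
      have hk : ((ε, QuotientGroup.mk s) :
          ℤˣ × Matrix.ProjectiveSpecialLinearGroup (Fin 2) F) ^ 2 = 1 :=
        Prod.ext (Int.units_sq ε) ((Cfsg.Agent.Lib.Helper41.psl2_pow_eq_one_iff s 2).mpr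
          (Or.inr (by rw [Matrix.SpecialLinearGroup.coe_pow, pow_two, h])))
      exact orderOf_dvd_of_pow_eq_one (sdp_pow_mul_eq_one (actK F) _ 2 3 hk hp3)
    · right; left
      have hk : (((1 : ℤˣ), QuotientGroup.mk s) :
          ℤˣ × Matrix.ProjectiveSpecialLinearGroup (Fin 2) F) ^ 3 = 1 :=
        Prod.ext (one_pow 3) ((Cfsg.Agent.Lib.Helper41.psl2_pow_eq_one_iff s 3).mpr
          (Or.inl (by rw [Matrix.SpecialLinearGroup.coe_pow, h])))
      exact orderOf_dvd_of_pow_eq_one (sdp_pow_mul_eq_one (actK F) _ 3 3 hk hp3)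
    · right; left
      have hk : (((1 : ℤˣ), QuotientGroup.mk s) :
          ℤˣ × Matrix.ProjectiveSpecialLinearGroup (Fin 2) F) ^ 3 = 1 :=
        Prod.ext (one_pow 3) ((Cfsg.Agent.Lib.Helper41.psl2_pow_eq_one_iff s 3).mpr
          (Or.inr (by rw [Matrix.SpecialLinearGroup.coe_pow, h])))
      exact orderOf_dvd_of_pow_eq_one (sdp_pow_mul_eq_one (actK F) _ 3 3 hk hp3)

end Orders

/-! ### witnesses -/

section Witness

variable (F : Type*) [Field F] [CharP F 3] [Fintype F]

omit [Fintype F] in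
theorem orderOf_inr (k : ℤˣ × Matrix.ProjectiveSpecialLinearGroup (Fin 2) F) :
    orderOf (SemidirectProduct.inr k : HG F) = orderOf k :=
  orderOf_injective (SemidirectProduct.inr : _ →* HG F) SemidirectProduct.inr_injective k

theorem orderOf_neg_one_units : orderOf (-1 : ℤˣ) = 2 :=
  orderOf_eq_prime (by decide) (by decide)

theorem exists_orderOf_six : ∃ x : HG F, orderOf x = 6 := by
  obtain ⟨g, hg⟩ := Cfsg.Agent.Lib.Helper41.exists_psl2_orderOf_char (F := F) 3
  refine ⟨SemidirectProduct.inr (-1, g), ?_⟩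
  rw [orderOf_inr, Prod.orderOf, orderOf_neg_one_units, hg]
  rfl

theorem exists_orderOf_split (hq4 : Fintype.card F % 4 = 3) :
    ∃ x : HG F, orderOf x = Fintype.card F - 1 := by
  obtain ⟨g, hg⟩ := Cfsg.Agent.Lib.Helper41.exists_psl2_orderOf_split (F := F)
  have hgcd : Nat.gcd 2 (Fintype.card F - 1) = 2 := Nat.gcd_eq_left (by omega)
  rw [hgcd] at hg
  refine ⟨SemidirectProduct.inr (-1, g), ?_⟩
  rw [orderOf_inr, Prod.orderOf, orderOf_neg_one_units, hg]
  have hcop : Nat.Coprime 2 ((Fintype.card F - 1) / 2) :=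
    Nat.coprime_two_left.mpr (Nat.odd_iff.mpr (by omega))
  rw [hcop.lcm_eq_mul]
  omega

theorem exists_orderOf_nonsplit (hq4 : Fintype.card F % 4 = 3) :
    ∃ x : HG F, orderOf x = (Fintype.card F + 1) / 2 := by
  obtain ⟨g, hg⟩ := Cfsg.Agent.Lib.Helper41.exists_psl2_orderOf_nonsplit (F := F) 3
  have hgcd : Nat.gcd 2 (Fintype.card F - 1) = 2 := Nat.gcd_eq_left (by omega)
  rw [hgcd] at hg
  refine ⟨SemidirectProduct.inr (1, g), ?_⟩
  rw [orderOf_inr, Prod.orderOf, orderOf_one, hg, Nat.lcm_one_left]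

omit [Fintype F] in
theorem three_eq_zero : (3 : F) = 0 := by
  have h := CharP.cast_eq_zero F 3
  exact_mod_cast h

omit [Fintype F] in
theorem tw_upperU : tw F (Cfsg.Agent.Lib.Helper41.upperU (1 : F)).1 = !![1, 0; 1, 1] := by
  unfold tw
  rw [Cfsg.Agent.Lib.Helper41.upperU_coe]
  ext i j
  fin_cases i <;> fin_cases j <;> simp

omit [Fintype F] in
theorem actFun_upperU (X : Matrix (Fin 2) (Fin 2) F) :
    actFun F (Cfsg.Agent.Lib.Helper41.upperU (1 : F)) X =
      !![X 0 0 + X 1 0 + X 0 1 + X 1 1, X 0 1 + X 1 1; X 1 0 + X 1 1, X 1 1] := by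
  unfold actFun
  rw [tw_upperU, Cfsg.Agent.Lib.Helper41.upperU_coe]
  ext i j
  fin_cases i <;> fin_cases j <;>
    (simp [Matrix.mul_apply, Fin.sum_univ_two, Matrix.vecMul, dotProduct]; try ring)

omit [Fintype F] in
theorem exists_orderOf_nine : ∃ x : HG F, orderOf x = 9 := by
  have h3 := three_eq_zero F
  have hu : (QuotientGroup.mk (Cfsg.Agent.Lib.Helper41.upperU (1 : F)) :
      Matrix.ProjectiveSpecialLinearGroup (Fin 2) F) ^ 3 = 1 := by
    rw [Cfsg.Agent.Lib.Helper41.psl2_pow_eq_one_iff, Matrix.SpecialLinearGroup.coe_pow]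
    left
    rw [Cfsg.Agent.Lib.Helper41.upperU_coe]
    ext i j
    fin_cases i <;> fin_cases j <;> simp [pow_succ, Matrix.mul_apply, Fin.sum_univ_two]
    linear_combination h3
  refine ⟨(⟨Multiplicative.ofAdd !![0, 0; 0, 1],
    (1, QuotientGroup.mk (Cfsg.Agent.Lib.Helper41.upperU (1 : F)))⟩ : HG F), ?_⟩
  have hk : (((1 : ℤˣ), QuotientGroup.mk (Cfsg.Agent.Lib.Helper41.upperU (1 : F))) :
      ℤˣ × Matrix.ProjectiveSpecialLinearGroup (Fin 2) F) ^ 3 = 1 :=
    Prod.ext (one_pow 3) hu
  have : Fact (Nat.Prime 3) := ⟨Nat.prime_three⟩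
  refine orderOf_eq_prime_pow (p := 3) (n := 1) ?_ ?_
  · intro hx
    rw [pow_one, pow_succ, pow_two] at hx
    have h1 := congrArg SemidirectProduct.left hx
    rw [SemidirectProduct.mul_left, SemidirectProduct.mul_left, SemidirectProduct.mul_right,
      map_mul, MulAut.mul_apply] at h1
    simp only [actK_apply, SemidirectProduct.one_left] at h1
    have h2 := congrArg Multiplicative.toAdd h1
    simp only [toAdd_mul, toAdd_ofAdd, toAdd_one, Units.val_one, one_smul, actFun_upperU] at h2
    have h00 := congrFun (congrFun h2 0) 0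
    simp at h00
    exact one_ne_zero (by linear_combination 2 * h3 - h00 : (1 : F) = 0)
  · exact sdp_pow_mul_eq_one (actK F) _ 3 3 hk (pow_three_eq_one F)

end Witness

/-! ### the statement -/

theorem maximal_set_eq {S : Set ℕ} {a b c d : ℕ}
    (hS : ∀ n ∈ S, n ∣ a ∨ n ∣ b ∨ n ∣ c ∨ n ∣ d)
    (ha : a ∈ S) (hb : b ∈ S) (hc : c ∈ S) (hd : d ∈ S)
    (hab : ¬ a ∣ b) (hac : ¬ a ∣ c) (had : ¬ a ∣ d)
    (hba : ¬ b ∣ a) (hbc : ¬ b ∣ c) (hbd : ¬ b ∣ d)
    (hca : ¬ c ∣ a) (hcb : ¬ c ∣ b) (hcd : ¬ c ∣ d)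
    (hda : ¬ d ∣ a) (hdb : ¬ d ∣ b) (hdc : ¬ d ∣ c) :
    {n : ℕ | n ∈ S ∧ ∀ m ∈ S, n ∣ m → m = n} = ({a, b, c, d} : Set ℕ) := by
  ext n
  simp only [Set.mem_ofPred_eq, Set.mem_insert_iff, Set.mem_singleton_iff]
  constructor
  · rintro ⟨hn, hmax⟩
    rcases hS n hn with h | h | h | h
    · exact Or.inl (hmax a ha h).symm
    · exact Or.inr (Or.inl (hmax b hb h).symm)
    · exact Or.inr (Or.inr (Or.inl (hmax c hc h).symm))
    · exact Or.inr (Or.inr (Or.inr (hmax d hd h).symm))
  · intro hn
    rcases hn with hn | hn | hn | hn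
    · rw [hn]
      refine ⟨ha, fun m hm hdvd => ?_⟩
      rcases hS m hm with h | h | h | h
      · exact Nat.dvd_antisymm h hdvd
      · exact absurd (dvd_trans hdvd h) hab
      · exact absurd (dvd_trans hdvd h) hac
      · exact absurd (dvd_trans hdvd h) had
    · rw [hn]
      refine ⟨hb, fun m hm hdvd => ?_⟩
      rcases hS m hm with h | h | h | h
      · exact absurd (dvd_trans hdvd h) hba
      · exact Nat.dvd_antisymm h hdvd
      · exact absurd (dvd_trans hdvd h) hbc
      · exact absurd (dvd_trans hdvd h) hbd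
    · rw [hn]
      refine ⟨hc, fun m hm hdvd => ?_⟩
      rcases hS m hm with h | h | h | h
      · exact absurd (dvd_trans hdvd h) hca
      · exact absurd (dvd_trans hdvd h) hcb
      · exact Nat.dvd_antisymm h hdvd
      · exact absurd (dvd_trans hdvd h) hcd
    · rw [hn]
      refine ⟨hd, fun m hm hdvd => ?_⟩
      rcases hS m hm with h | h | h | h
      · exact absurd (dvd_trans hdvd h) hda
      · exact absurd (dvd_trans hdvd h) hdb
      · exact absurd (dvd_trans hdvd h) hdc
      · exact Nat.dvd_antisymm h hdvd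

theorem main (F : Type) [Field F] [Fintype F] [CharP F 3] (hq4 : Fintype.card F % 4 = 3)
    (hq27 : 27 ≤ Fintype.card F) (hq3 : 3 ∣ Fintype.card F) :
    ∃ (H : Type) (_ : Group H) (_ : Fintype H),
      (∃ P : Subgroup H, P.Normal ∧ P ≠ ⊥ ∧ IsPGroup 3 ↥P) ∧
      {n : ℕ | n ∈ Set.range (orderOf : H → ℕ) ∧
        ∀ m ∈ Set.range (orderOf : H → ℕ), n ∣ m → m = n} =
        ({6, 9, Fintype.card F - 1, (Fintype.card F + 1) / 2} : Set ℕ) := by
  classical
  have hfin : Finite (HG F) :=
    Finite.of_equiv (Multiplicative (Matrix (Fin 2) (Fin 2) F) ×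
      (ℤˣ × Matrix.ProjectiveSpecialLinearGroup (Fin 2) F)) SemidirectProduct.equivProd.symm
  refine ⟨HG F, inferInstance, Fintype.ofFinite _, ?_, ?_⟩
  · refine ⟨(SemidirectProduct.rightHom : HG F →* _).ker, MonoidHom.normal_ker _, ?_, ?_⟩
    · intro h
      have hmem : (SemidirectProduct.inl (Multiplicative.ofAdd
          (1 : Matrix (Fin 2) (Fin 2) F)) : HG F) ∈
          (SemidirectProduct.rightHom : HG F →* _).ker := by
        rw [MonoidHom.mem_ker]
        exact SemidirectProduct.rightHom_inl _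
      rw [h, Subgroup.mem_bot] at hmem
      have h1 := SemidirectProduct.inl_injective (hmem.trans (map_one _).symm)
      have h2 : (1 : Matrix (Fin 2) (Fin 2) F) = 0 := congrArg Multiplicative.toAdd h1
      exact one_ne_zero h2
    · rintro ⟨g, hg⟩
      refine ⟨1, ?_⟩
      apply Subtype.ext
      rw [pow_one]
      show g ^ 3 = 1
      rw [MonoidHom.mem_ker] at hg
      have h1 := sdp_pow_mul_eq_one (actK F) g 1 3 (by rw [pow_one]; exact hg)
        (pow_three_eq_one F)
      rw [one_mul] at h1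
      exact h1
  · have hd2 : ¬ (Fintype.card F + 1) / 2 ∣ Fintype.card F - 1 := by
      intro h
      have h1 : (Fintype.card F + 1) / 2 ∣ 2 * ((Fintype.card F + 1) / 2) := dvd_mul_left _ 2
      have h2 : 2 * ((Fintype.card F + 1) / 2) - (Fintype.card F - 1) = 2 := by omega
      have h3 : (Fintype.card F + 1) / 2 ∣ 2 := by
        have h5 := Nat.dvd_sub h1 h
        rwa [h2] at h5
      have h4 := Nat.le_of_dvd (by norm_num) h3
      omega
    apply maximal_set_eq
    · rintro n ⟨x, rfl⟩
      exact orderOf_dvd_cases F hq4 x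
    · exact exists_orderOf_six F
    · exact exists_orderOf_nine F
    · exact exists_orderOf_split F hq4
    · exact exists_orderOf_nonsplit F hq4
    · norm_num
    · intro h; omega
    · intro h; omega
    · norm_num
    · intro h; omega
    · intro h; omega
    · intro h
      have := Nat.le_of_dvd (by norm_num) h
      omega
    · intro h
      have := Nat.le_of_dvd (by norm_num) h
      omega
    · intro h
      have := Nat.le_of_dvd (by omega) h
      omega
    · intro h
      have := Nat.le_of_dvd (by norm_num) h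
      omega
    · intro h
      have := Nat.le_of_dvd (by norm_num) h
      omega
    · exact hd2

theorem main_galois (α : ℕ) (hα : 3 ≤ α) (hodd : Odd α) :
    ∃ (H : Type) (_ : Group H) (_ : Fintype H),
      (∃ P : Subgroup H, P.Normal ∧ P ≠ ⊥ ∧ IsPGroup 3 ↥P) ∧
      {n : ℕ | n ∈ Set.range (orderOf : H → ℕ) ∧
        ∀ m ∈ Set.range (orderOf : H → ℕ), n ∣ m → m = n} =
        ({6, 9, 3 ^ α - 1, (3 ^ α + 1) / 2} : Set ℕ) := by
  have : Fact (Nat.Prime 3) := ⟨Nat.prime_three⟩
  have : Fintype (GaloisField 3 α) := Fintype.ofFinite _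
  have hcard : Fintype.card (GaloisField 3 α) = 3 ^ α := by
    rw [← Nat.card_eq_fintype_card]
    exact GaloisField.card 3 α (by omega)
  have h4 : 3 ^ α % 4 = 3 := by
    obtain ⟨k, rfl⟩ := hodd
    rw [pow_succ, pow_mul, Nat.mul_mod, Nat.pow_mod]
    norm_num
  have h27 : 27 ≤ 3 ^ α := by
    have := Nat.pow_le_pow_right (by norm_num : 0 < 3) hα
    norm_num at this
    exact this
  have hdvd : 3 ∣ 3 ^ α := dvd_pow_self 3 (by omega)
  have h := main (GaloisField 3 α) (by rw [hcard]; exact h4) (by rw [hcard]; exact h27)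
    (by rw [hcard]; exact hdvd)
  rw [hcard] at h
  exact h

end Cfsg.Agent.Lib.Helper5.TwTensor
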